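import Cfsg.Agent.H177.OM.GTwoReal
import Cfsg.Agent.H129.RealE7_m3
import Cfsg.Agent.S1067
import Cfsg.Agent.H573.Spor.HSFive_m3
import Cfsg.Agent.MFive.FixN
import Cfsg.Agent.LThreeCo1.QEv
import Cfsg.Agent.MFive.QSpanN
import Cfsg.Agent.H907.Odm.Core_m3
import Cfsg.Prelude.Def_Classical
import Cfsg.Agent.H173.OI.Shape
import Cfsg.Agent.H341.ThreeList_m3
import Cfsg.Prelude.Def_GeometricClasses
import Cfsg.Agent.H217.Odm.Real_m3
import Cfsg.Agent.Lib.SubnormalJoin
import Cfsg.Agent.Lib.MinNormal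
import Cfsg.Agent.H884.ElO8
import Cfsg.Agent.H453.OddM.Real_m3
import Cfsg.Agent.ClassicalGeometry.Reflection
import Cfsg.Agent.H325.Same.ExcPair8_m3
import Cfsg.Agent.S0811
import Cfsg.Agent.S0243
import Cfsg.Agent.H390.PslSpec
import Mathlib.GroupTheory.SpecificGroups.Dihedral
import Mathlib.FieldTheory.Finite.Basic
import Cfsg.Agent.H304.PslRes_m3
import Cfsg.Agent.H262.ElSympRes
import Mathlib
import Cfsg.Agent.H251.GeoCardC
import Cfsg.Agent.H262.ElTransv
import Cfsg.Agent.CpAutJ4.Isol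
import Cfsg.Agent.Lib.Zsigmondy
import Cfsg.Agent.H947.El.PsuC
import Cfsg.Agent.H713.Spor.Fi22
import Cfsg.Agent.H603.SporElim
import Cfsg.Agent.H257.El.Row.Fi24
import Cfsg.Agent.H843.N29
import Cfsg.Agent.H661.SporMcL
import Cfsg.Agent.CpAut.SmallP.McL
import Cfsg.Agent.H647.SpF.HSMcL
import Cfsg.Agent.H395.PFJ2Row
import Cfsg.Agent.UGT.End.MEleven
import Cfsg.Agent.SporadicA.M11Facts2
import Cfsg.Agent.PermutationGroups.PrimeDegree
import Cfsg.Agent.J2Type.ThreeF
import Cfsg.Agent.J2Type.FiveFus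
import Cfsg.Agent.KFacts.J2.Facts
import Cfsg.Agent.CpAutHe.Bound
import Cfsg.Agent.H478.SporHe
import Cfsg.Agent.H19.Odd.HeEl7
import Cfsg.Agent.H729.PairTool_m3
import Cfsg.Agent.Held.HeldCardEq_m3
import Cfsg.Agent.H257.El.Sp.RuMod
import Cfsg.Agent.OddHalf.Table.OutRu
import Cfsg.Agent.RuLat.Main
import Cfsg.Agent.H444.ThLoc
import Cfsg.Agent.H799.RO.CoNine_m3
import Cfsg.Agent.H970.Sep.Co3Seven
import Cfsg.Agent.H438.Fpr.HNC
import Cfsg.Agent.FastGrp
import Cfsg.Agent.Prune
set_option linter.all false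

section
prune_inst 0x7f00000000000000000000000000000000000000000000000000000000000000000000000000000000000000000000000000000000000000000000000000000000000000000000000000000000000000003fffffffffffffffffffffffffffaeffbdffbfffff

section
prune_inst 0xfef9f8abb83ddedfff7e7fa6b4cffc5bb03fffe6dff9437fe063ff8bdf6b00cbc5fba70fe810fe1ed7e03410f87b53fbfffeffe26bd87ffffd1ff41ffbff8ffdf6b50851d49c340fb40fff03f0778e7f000000000000000000000000000010000200400000

-- part: H177/OM/TDFour
section
set_option linter.all false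
open scoped Cfsg.Agent.FastGrp

/-!
# TEAM ODDM (S4785): `³D₄(q)`, `q` odd

* `off_td4` : a subgroup of `³D₄(q)` meeting all real classes has index prime to the primitive prime divisors of `q^12 - 1`
* `row_td4_of` : the row, from the list of the subgroups of `³D₄(q)` containing the torus of class 12 (helper349, `KD4`)
-/

set_option autoImplicit false
set_option linter.unusedSectionVars false

namespace Cfsg.Agent.H177.OM

open Cfsg Cfsg.Lie Cfsg.Agent.H190.Exc Cfsg.Agent.H190.Odd Cfsg.Agent.H453.OddM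
open Cfsg.Agent.H129 Cfsg.Agent.H129.CycT Cfsg.Agent.H129.RealT Cfsg.Agent.H129.TorusTw Cfsg.Agent.H129.WData
open Cfsg.Agent.H436 (Prim)

universe u

variable {K : Type u} [Field K] [Fintype K] {q : ℕ}

/-- **`³D₄(q)`, class 12.** -/
theorem off_td4 (hq : IsPrimePow q) (hK : Fintype.card K = q ^ 3) {B : Subgroup ↥(twistedD4 K q)}
    (hB : ∀ x : ↥(twistedD4 K q), IsReal x → ∃ g : ↥(twistedD4 K q), g * x * g⁻¹ ∈ B) {r : ℕ} (h : Prim q 12 r) :
    ¬ r ∣ B.index := by
  have hq2 : 2 ≤ q := hq.two_le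
  have hle : q ^ 2 ≤ q ^ 4 := Nat.pow_le_pow_right (by omega) (by norm_num)
  have hN : ((q ^ 4 - q ^ 2 + 1 : ℕ) : ℤ) = 1 - (q : ℤ) ^ 2 + (q : ℤ) ^ 4 := by push_cast [Nat.cast_sub hle]; ring
  have hrN := phi12 h (by omega) hN
  have hg := prim_gt h (by omega)
  obtain ⟨T, h1, h3, h4, h5⟩ := TwT.tri_T hq hK DataD4C.hA DataD4C.chainOK DataD4C.hd_pi DataD4C.cycOK DataD4C.rootOK
    DataD4C.chain2OK DataD4C.hd2_eq (N := q ^ 4 - q ^ 2 + 1)
    (by rw [DataD4C.fN_eq, hN]) (UntwData.coprime_of_eq (a := -(q : ℤ) + (q : ℤ) ^ 3) (by rw [hN]; ring))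
  have hW := TwD4Cyc.not_dvd_W h.prime (by omega) (by omega)
  have hG : ∀ s, ¬ (r : ℤ) ∣ Gq DataD4C.B (q : ℤ) (DataD4C.R s) := fun s hs =>
    not_one h.prime (DataD4C.dvd_of_G (cast_dvd hN hrN) s hs)
  obtain ⟨y, hy⟩ := h5 r h.prime hrN hW hG
  refine not_dvd_index h1 h.prime (by rw [h3]; exact hrN) (h4 r h.prime hW hG) (fun x hx a hxa => ?_) hB
  refine isReal_of_act hy (k := 2) hx ?_
  rw [hxa]
  refine (ord_dvd h3.dvd hx hxa).trans ⟨q ^ 2 + 1, ?_⟩
  zify [hle]
  ring

/-- `8` divides `q² - 1` for `q` odd -/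
theorem eight_dvd (hq : ¬ 2 ∣ q) : 8 ∣ q ^ 2 - 1 := by
  obtain ⟨k, hk⟩ : ∃ k, q = 2 * k + 1 := ⟨q / 2, by omega⟩
  obtain ⟨c, hc⟩ : ∃ c, k * (k + 1) = c + c := Nat.even_mul_succ_self k
  refine ⟨c, ?_⟩
  rw [hk]
  refine Nat.sub_eq_of_eq_add ?_
  linear_combination 4 * hc

/-- **The row `³D₄(q)`, `q` odd.** -/
theorem row_td4_of (hq : IsPrimePow q) (h2 : ¬ 2 ∣ q) (hK : Fintype.card K = q ^ 3)
    (hKD : ∀ M : Subgroup ↥(twistedD4 K q), (∀ r, Prim q 12 r → ¬ r ∣ M.index) →
      M = ⊤ ∨ Nat.card M ∣ 4 * (q ^ 4 - q ^ 2 + 1)) : Row ↥(twistedD4 K q) := by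
  intro R hR
  have hc := hR.cov
  refine (hKD R fun r hr => off_td4 hq hK hc.2 hr).resolve_right fun hd => ?_
  have h8 := eight_dvd h2
  have h16 : 16 ∣ Nat.card ↥(twistedD4 K q) := by
    rw [Cfsg.Agent.S1067.result hq hK]
    have h3 : 2 ∣ q ^ 6 - 1 := by
      have h4 : q ^ 2 - 1 ∣ q ^ 6 - 1 := by
        have := Nat.sub_dvd_pow_sub_pow (q ^ 2) 1 3
        rwa [one_pow, ← pow_mul] at this
      exact ((by norm_num : (2 : ℕ) ∣ 8).trans h8).trans h4
    have h5 : 8 * 2 ∣ (q ^ 2 - 1) * (q ^ 6 - 1) := Nat.mul_dvd_mul h8 h3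
    rw [mul_assoc (q ^ 12)]
    exact (h5.mul_left _).mul_right _
  have h6 : 2 ^ 4 ∣ Nat.card R := by
    rw [← R.card_mul_index] at h16
    exact (Nat.Coprime.pow_left 4 ((Nat.coprime_two_left).2 hc.1)).dvd_of_dvd_mul_right (by exact_mod_cast h16)
  have h7 := h6.trans hd
  have h9 : Odd (q ^ 4 - q ^ 2 + 1) := by
    have hle : q ^ 2 ≤ q ^ 4 := Nat.pow_le_pow_right hq.pos (by norm_num)
    refine (Nat.even_sub hle |>.2 ?_).add_one
    simp [Nat.even_pow]
  have h10 : 2 ^ 4 ∣ 4 := (Nat.Coprime.pow_left 4 ((Nat.coprime_two_left).2 h9)).dvd_of_dvd_mul_right h7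
  revert h10
  decide

end Cfsg.Agent.H177.OM
end

-- part: H936/Odm/Co3Data
section
prune_inst 0x106075445c22120008180594b3003a44fc000192006b8801f9c00742094ef343a0048f017cf01e128178baf0704ac040001001d9427000002e00be004007002094ab72e2b23cbd04b7000fc0f887180c00000000000000000000000000041004000000000
set_option linter.all false

/-!
# Real elements of orders 3 and 5 of `Co3` (helper936)

`gX = gS * gT` for involutions `gS`, `gT` (suffixes `A`, `B` : order 3, fixed ranks 8, 6; `C`, `D` : order 5, fixed ranks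
8, 4 on the Leech lattice).

Generated by a script; checked by the kernel.
-/

set_option autoImplicit false
set_option maxRecDepth 100000

namespace Cfsg.Agent.H936.Odm.Co3Data

open Cfsg Cfsg.Agent.SporadicA Cfsg.Agent.SporadicStructure.Co0Matrix Cfsg.Agent.CoOneType.CoEval
open Cfsg.Agent.LThreeCo1.Ev Cfsg.Agent.LThreeMB.Fix Cfsg.Agent.MFive.FixN Cfsg.Agent.H573.Spor.Co0
open Cfsg.Agent.LThreeMB (fr)
open Cfsg.Spor (Co1)

/-- matrix code -/
def nSA : ℕ := 0xa429094a128421094a128425084a108521093a128421473a12841d084a10a429073a0e8421073a0e841d083a108421474a0e8421074a12851d084a10949ce8425074a4e841d074a0e74252939d28425093a528425073a0e7424e8421094a928421074a0ea41d083a10949ce84250939ce8425074a12941ce8421074a12a421073a0e8425084a148421093a0e8521074a8e8425084a108421094a0e8429093a0e841d484a108521074a0e8421494a0e8425083a10939ce841d073a528425094a0e941d2939d284250749d2841d073a12941d28421074a128521093a92841d083a10949d2841d0739ce8425093a12742528421073a8e8421093a12a425084a108421493a128421093a0e8525083a10939ce841d0949d2841d094a127424e8421073a128429074a128425483a108421073a128421094a0e841d0a4a90949d2841d094a4e841d093a0e941ce8421094a0e8421073a1284250a3a908421093a0ea421094a12841d083a14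

/-- matrix code -/
def nTA : ℕ := 0xa42108421094a508425084212952528521084214949d0842508420e941ce8429084210739d08425484212941d2842148421074a50851d084212941ce84210a421073a54842508420e9424e8421085210939d0841d0852129424e842108429093a508425084292741ce852108421473a50841d08421274252949ce74a4e8421274a12939d083a10949d2739ce8421293a1274a5083a10939d293a528420e73a12949d083a1084210a4210949d4841d084212741d28421084210749d0a4250a42127424e8421484210939d0852508420e7425294a4e93a4e8420e94a0e749d083a10842908421094a50841d48420e7424e842108421093a50a41d0a420e941d2842108521074a50842508520e741d28421084290749d0841d08428e9425293a5274a528421293a0e739d083a1094a52949ce8420e73a0e93a5083a10a421084210739d0841d08420e751ce939ce949d28420e94a1273a5083a1093a4e739d28421274a0e94a5083a10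

/-- matrix code -/
def nXA : ℕ := 0x9c6718c6317bdf18c6338c6318ce718ce2f9bdf38c6337bdf17bdef7c5af8be2f7bdef8c62f7be717bdf39c5b38be337cdef8c62f7cdf17cdef7c5af8bdaf7bdf38c62f7be717ce6f7c62f8bdaf9be6f8c62f7cdf17bdf37c62f7c5f18c6319ae718c62f8c6318bdf18ce2f7ce6f8c62f7be6d7bdef7c62f9c5ed6c6317bdf16c5af8c6318bdf19c5f18b62d7bdf18c62f6c62d8bdf19b5f18c6317bdf18b62f8c5b18bded7c5f18c6319cd718c62f8c6318bdf18be2f9bdef8c62f7bded9cdef7c6338be337bdef8c6337bded7be737c62f8ce2f7bdef8c62f9bdf17cdf37b62f8be2f7bdf38c62f9cded7bdef9c62f8be2f7be6f8c62f9bdf19be6f7c5af7c5f18c6315ce718c62f8c6318bdf18bdaf7cdef8c6339bdf17bdef7c6338be337be738c62f7bdf17bdef7b6339c5f18c5b17bded8c62f8b6316bdf18cdb37bdef8c62f7bdf19bdef9c62f8be2f9cdef8c62f7bdf17be6f9b62f8be2f7bdef8c6337ce719bdef7b62f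

/-- matrix code -/
def nSB : ℕ := 0xb3a10942108421084a1294a508421075a10942108421084a1294a50842108424e84a4e94a4e741d084212949d2841ce83a4e94a52942508420e74a5294a10742108421083a16739d0842108424e83a52749ce942508421293a5284252849d294a4e742508420e73a52841ce84a5293a52742508421293a4e8425283a5274a52741d08420e94a4e8425284a4e949d2942508420e939ce8425283a52939d27425084212749d2841d2839d294a52941d084212939d2841d2849ce749d2742508421294a5294a10742108421083a0e759d084210841d284a5274a4e9425084212749ce94a10b42108421083a0e739d08421094a10742108421083a0e73ad08421094a10742108421085a0e739d08421094a10742108421083a0eb39d0842108424e849d273a52942508420e949d28424e849d2949d2941d08421274a4e84252839ce93a4e942508421294a4e841d284a52939ce941d08420e94a528425284a4e73a52941d08421273a52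

/-- matrix code -/
def nTB : ℕ := 0xa4a5094a50942108421084a50949d2941928421284a4e939ce74212842109320e8420e84a4e749d29421284210849d074a509421084210a3a5093a4e9420e8421283a5273a4e9419284210942128421283a52749d27420e83210942128418e839d2939d29421284210849d0949d07421085210839d094a52942128420e83a4e94a4e9420e6421084a50739d0742908421084a5094a4e84a50949d09521084210849d073a4e839d094a50742148421084a5074a4e849d073a509421084214849d074a5283a50749d4942108421083a5074a52839d0939d0942108429084a5093a5283a5074a5074210a4210849d093a5283a5493a509421084210839d094a4e9420e8420e84a5293a527320e84210942126420e849d274a4e742128421084a5093a50742108421083a5473a529421284212649ce73a529420e842109420e83212849d2949ce9420e84210742128421284a5294a5294212841909420e84212839ce94a52742128420c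

/-- matrix code -/
def nXB : ℕ := 0xa429084a5094212842508421094a12939d27421284a5093a0e739d284250a4290839d07420e841d08421073a0e84210839d094212a42508521074a0e8421084a507420ea41d08521093a1284210839d07420e842548421494a1284210849d09428e852508421093a0e84214a49d074212842508421073a1284210849d075212841d0a421094a0e939d27420e83a5073a1294a4e84250939ce9420e839d094a0e93a52842508521084a507420e842508421074a8e8421083a5474212842508429093a0e949ce9420e84a5093a1273a4e841d085210839d094212841d08421093a92949ce9421283a5073a0e949d2841d0949d27420e849d074a0e74a52841d084210849d49420e841d08429074a1284214a3a509420e841d08421094a0e939ce94212849d074a12749ce842508421083a5074292851d08421074a128421083a509520e84250a421073a12949d274212839d094a12939ce841d08421084a5094212841d48421473a0e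

/-- matrix code -/
def nSC : ℕ := 0xa4212842129421084a1284a508521285212842927421084a0e83a508420e8428e852129421083a0e83a5084212949d0749d083a4e7425094212939d08420ea42129429084a0e849d08420e842928520e7421084a12849d08420e8520e8428e9421083a12849d08421294a50939d0849ce741d07421293a5093a5093a50839d27425094212739d08420e842127521084a12a39d08421284212a420e7429083a1283a50842128420e8420e9421484a1283a50a420e8420e8420e74210a4a0e84a5484212949d0949d0849d2942507420e739d0842128420e9421084a8e839d084292939d074a5084a52741d07421273a50842128420e9521083a0ea4a508420e939d094a50839ce941d09420e93a5094a50739d083a52941d09420e73a50842128421294210a3a12839d48420e84212842127421483a0e849d0a4212a420e8420e7421083a0e839d08520e8420e842127421083a9284a508428e93a5073a5084a4e942507420e939d0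

/-- matrix code -/
def nTC : ℕ := 0xa42108421094a508425084212952528521084214949d0842508420e941ce8429084210739d08425484212941d2842148421074a50851d084212941ce84210a421073a54842508420e9424e8421085210939d0841d0852129424e842108429093a508425084292741ce852108421473a50841d08421274252949ce74a4e8421274a12939d083a10949d2739ce8421293a1274a5083a10939d293a528420e73a12949d083a1084210a4210949d4841d084212741d28421084210749d0a4250a42127424e8421484210939d0852508420e7425294a4e93a4e8420e94a0e749d083a10842908421094a50841d48420e7424e842108421093a50a41d0a420e941d2842108521074a50842508520e741d28421084290749d0841d08428e9425293a5274a528421293a0e739d083a1094a52949ce8420e73a0e93a5083a10a421084210739d0841d08420e751ce939ce949d28420e94a1273a5083a1093a4e739d28421274a0e94a5083a10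

/-- matrix code -/
def nXC : ℕ := 0xac6317c6317c6317cdf18c62f7ce317cdf38be738bdef8c62f7be718c5ef8c62d7c6317b5b17bdf18c6339be318c6317c6319c62d7bded8c5af9be318c5b19c6317b6317be718c5af7be317be738cdef8bdef8c6337cdf18c5ef8c62d7c6319c6317be718c62f7bdad8c6317c5b17c6317be716b62f9be317be6f8be6f8be738c62f7bdf18c5f38c6317b5b19b6319bdf18c62f7be318b6319b6317c6317bdf18c62f9be2d8c6319c62d9c5b17bdf18b62f7be318b6317c6317c5b19be6d8c62f7be317cdef8bdef8cdf38c62f7cdf18c66f9bdef8bdef8bdef8d62f7bdf18b5ef8b5b17c6319c6317bdf16c6337be318c5b17c62d7c6319bdf18c62f9bdb17bdef8cdef8be6f8c62f9be718c66f7bdef8bdf38cdef8c6339bdf18c5f38c6317c6317c6319bdf18b5b37be2d8c6319c5b17c6317bded8c6337bdb19bdef8bdef8bdef8b62f7bdf18d5ef8c62d9c6317c62d9bdf16c62f7be318c6317b62d7c62d7be718c6337be31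

/-- matrix code -/
def nSD : ℕ := 0xa425083a109421284a5294a1294a108525084a109420e849ce93a1274a1094a127425283a5074210641d08424e8425084a1094212a3a4e74a0e74a10841d084a907420e84a4e94a0e94a1074a129325284a5094210842508425284250a4a1074212849ce74a1293a108425084a149420e839d294a0e93a1094a12741d2649d09421084250841ce841d084a1094212849d273a8e94a108425084a107420e83a5273a1294a1493a127424e849d094190841d084252841d484a109421283a4e93a1293a1094a0e9424e849d073210842508424e93a12941ce83a4c94210842508424e93a0e741d284a507420c84250842529498e941d2839d094210841d08425293a1294252839d07421084250641d2841d084a109520e84a5274a1273a1094a0e7424e83a509421084250831d293a0e9425284a5094210831d0841ce94a12941ce84a5074210841cc841d28425084a107421284a5293a0e73a90841d084a1074292839d294a1274a10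

/-- matrix code -/
def nTD : ℕ := 0xa4a5094a50942108421084a50949d2941928421284a4e939ce74212842109320e8420e84a4e749d29421284210849d074a509421084210a3a5093a4e9420e8421283a5273a4e9419284210942128421283a52749d27420e83210942128418e839d2939d29421284210849d0949d07421085210839d094a52942128420e83a4e94a4e9420e6421084a50739d0742908421084a5094a4e84a50949d09521084210849d073a4e839d094a50742148421084a5074a4e849d073a509421084214849d074a5283a50749d4942108421083a5074a52839d0939d0942108429084a5093a5283a5074a5074210a4210849d093a5283a5493a509421084210839d094a4e9420e8420e84a5293a527320e84210942126420e849d274a4e742128421084a5093a50742108421083a5473a529421284212649ce73a529420e842109420e83212849d2949ce9420e84210742128421284a5294a5294212841909420e84212839ce94a52742128420c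

/-- matrix code -/
def nXD : ℕ := 0xa3a509425084a10942509425084a529421283a129424e8498e83a1274210849d0951d084a10941d094250839d29418e83a0e9425284a1284a0e742109421283992941d283a1283a0e94210849d0741d084a1094250941d484a4e9420e84a127425263a1283a12742109421284a0e7424e84a128398e94210849d07425084a10741d074250a4a529421264a12741d284a0e84a0e742109420e83a12741ce84a1284a129321084a507425083a10941d494250849ce849d49425083a10742509425083a4e9421283a0e7425283a0e84a129419084a5074250a4a1074250941d0839d284a50941d084a107525074250849ce849d09425483a1094250741d0849d29420e84a0e931d284a0e83a129421084a50741d083a90942507425083a529421284a0e941ce83a1264a127421084a50941d083a10741d0951d084a529420e84a129424e83a0e84a0e9420c7321284a129425284a1284a129421084a509425084a14941d0741d083a4e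

theorem okSA : okN nSA = true := Cfsg.Agent.Co0Q.okz_of (by decide +kernel)
theorem okTA : okN nTA = true := Cfsg.Agent.Co0Q.okz_of (by decide +kernel)
theorem okXA : okN nXA = true := Cfsg.Agent.Co0Q.okz_of (by decide +kernel)
theorem okSB : okN nSB = true := Cfsg.Agent.Co0Q.okz_of (by decide +kernel)
theorem okTB : okN nTB = true := Cfsg.Agent.Co0Q.okz_of (by decide +kernel)
theorem okXB : okN nXB = true := Cfsg.Agent.Co0Q.okz_of (by decide +kernel)
theorem okSC : okN nSC = true := Cfsg.Agent.Co0Q.okz_of (by decide +kernel)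
theorem okTC : okN nTC = true := (congrArg okN (show nTC = nTA by decide +kernel)).trans okTA
theorem okXC : okN nXC = true := Cfsg.Agent.Co0Q.okz_of (by decide +kernel)
theorem okSD : okN nSD = true := Cfsg.Agent.Co0Q.okz_of (by decide +kernel)
theorem okTD : okN nTD = true := (congrArg okN (show nTD = nTB by decide +kernel)).trans okTB
theorem okXD : okN nXD = true := Cfsg.Agent.Co0Q.okz_of (by decide +kernel)

/-- element -/
def gSA : Co0 := mk (ok_of_okN okSA)
theorem repSA : _root_.Cfsg.Agent.CoOneType.CoEval.Rep gSA (dec nSA) := rep_mk _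
/-- element -/
def gTA : Co0 := mk (ok_of_okN okTA)
theorem repTA : _root_.Cfsg.Agent.CoOneType.CoEval.Rep gTA (dec nTA) := rep_mk _
/-- element -/
def gXA : Co0 := mk (ok_of_okN okXA)
theorem repXA : _root_.Cfsg.Agent.CoOneType.CoEval.Rep gXA (dec nXA) := rep_mk _
/-- element -/
def gSB : Co0 := mk (ok_of_okN okSB)
theorem repSB : _root_.Cfsg.Agent.CoOneType.CoEval.Rep gSB (dec nSB) := rep_mk _
/-- element -/
def gTB : Co0 := mk (ok_of_okN okTB)
theorem repTB : _root_.Cfsg.Agent.CoOneType.CoEval.Rep gTB (dec nTB) := rep_mk _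
/-- element -/
def gXB : Co0 := mk (ok_of_okN okXB)
theorem repXB : _root_.Cfsg.Agent.CoOneType.CoEval.Rep gXB (dec nXB) := rep_mk _
/-- element -/
def gSC : Co0 := mk (ok_of_okN okSC)
theorem repSC : _root_.Cfsg.Agent.CoOneType.CoEval.Rep gSC (dec nSC) := rep_mk _
/-- element -/
def gTC : Co0 := mk (ok_of_okN okTC)
theorem repTC : _root_.Cfsg.Agent.CoOneType.CoEval.Rep gTC (dec nTC) := rep_mk _
/-- element -/
def gXC : Co0 := mk (ok_of_okN okXC)
theorem repXC : _root_.Cfsg.Agent.CoOneType.CoEval.Rep gXC (dec nXC) := rep_mk _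
/-- element -/
def gSD : Co0 := mk (ok_of_okN okSD)
theorem repSD : _root_.Cfsg.Agent.CoOneType.CoEval.Rep gSD (dec nSD) := rep_mk _
/-- element -/
def gTD : Co0 := mk (ok_of_okN okTD)
theorem repTD : _root_.Cfsg.Agent.CoOneType.CoEval.Rep gTD (dec nTD) := rep_mk _
/-- element -/
def gXD : Co0 := mk (ok_of_okN okXD)
theorem repXD : _root_.Cfsg.Agent.CoOneType.CoEval.Rep gXD (dec nXD) := rep_mk _

/-- the elements -/
def e : ℕ → Co0
  | 0 => gSA
  | 1 => gTA
  | 2 => gXA
  | 3 => gSB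
  | 4 => gTB
  | 5 => gXB
  | 6 => gSC
  | 7 => gTC
  | 8 => gXC
  | 9 => gSD
  | 10 => gTD
  | _ => gXD

/-- their matrices -/
def Ms : ℕ → List (List ℤ)
  | 0 => dec nSA
  | 1 => dec nTA
  | 2 => dec nXA
  | 3 => dec nSB
  | 4 => dec nTB
  | 5 => dec nXB
  | 6 => dec nSC
  | 7 => dec nTC
  | 8 => dec nXC
  | 9 => dec nSD
  | 10 => dec nTD
  | _ => dec nXD

theorem hM : ∀ i, _root_.Cfsg.Agent.CoOneType.CoEval.Rep (e i) (Ms i)
  | 0 => repSA
  | 1 => repTA
  | 2 => repXA
  | 3 => repSB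
  | 4 => repTB
  | 5 => repXB
  | 6 => repSC
  | 7 => repTC
  | 8 => repXC
  | 9 => repSD
  | 10 => repTD
  | _ + 11 => repXD

theorem sq_SA : gSA ^ 2 = 1 := by
  have h := eq_of_eqB hM (w := [0, 0]) (w' := []) (by delta Cfsg.Agent.LThreeCo1.Ev.eqB; rewrite [Cfsg.Agent.Co0Q.foldZ_eq]; decide +kernel)
  simpa only [e, pow_succ, mul_assoc, _root_.pow_zero, _root_.one_mul, _root_.List.map_cons, _root_.List.map_nil, _root_.List.prod_cons, _root_.List.prod_nil, _root_.mul_one] using h
theorem sq_TA : gTA ^ 2 = 1 := by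
  have h := eq_of_eqB hM (w := [1, 1]) (w' := []) (by delta Cfsg.Agent.LThreeCo1.Ev.eqB; rewrite [Cfsg.Agent.Co0Q.foldZ_eq]; decide +kernel)
  simpa only [e, pow_succ, mul_assoc, _root_.pow_zero, _root_.one_mul, _root_.List.map_cons, _root_.List.map_nil, _root_.List.prod_cons, _root_.List.prod_nil, _root_.mul_one] using h
theorem x_eqA : gXA = gSA * gTA := by
  have h := eq_of_eqB hM (w := [2]) (w' := [0, 1]) (by delta Cfsg.Agent.LThreeCo1.Ev.eqB; rewrite [Cfsg.Agent.Co0Q.foldZ_eq]; decide +kernel)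
  simpa [e, pow_succ, mul_assoc] using h
theorem x_powA : gXA ^ 3 = 1 := by
  have h := eq_of_eqB hM (w := [2, 2, 2]) (w' := []) (by delta Cfsg.Agent.LThreeCo1.Ev.eqB; rewrite [Cfsg.Agent.Co0Q.foldZ_eq]; decide +kernel)
  simpa only [e, pow_succ, mul_assoc, _root_.pow_zero, _root_.one_mul, _root_.List.map_cons, _root_.List.map_nil, _root_.List.prod_cons, _root_.List.prod_nil, _root_.mul_one] using h
theorem x_neA : gXA ≠ 1 := by
  have h := ne_of_neB' hM (w := [2]) (w' := []) (by delta Cfsg.Agent.LThreeCo1.Ev.neB'; rewrite [Cfsg.Agent.Co0Q.foldZ_eq]; decide +kernel)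
  simpa [e, pow_succ, mul_assoc] using h
theorem memSA : gSA.1 ∈ Spor.Co3 := mem_Co3 repSA (by decide +kernel)
theorem memTA : gTA.1 ∈ Spor.Co3 := mem_Co3 repTA (by decide +kernel)

/-- fixed vectors and dual vectors -/
def vwA : List (List ℤ × List ℤ) := [
  ([1, 1, 1, 1, 1, 1, 1, 1, 1, 1, 1, 1, 1, 1, 1, 1, 1, 1, 1, 1, 1, 1, 1, 5],
   [-1, 1, 3, 3, 3, 3, 1, 1, 5, -3, 3, 1, -1, 1, 7, 1, -1, 1, 1, 1, 1, -1, -1, -1]),
  ([0, 0, 2, 0, -2, 2, 0, 0, 0, -2, 2, 0, 2, -2, 2, 0, -2, -2, 0, 0, 2, -2, 0, 0],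
   [-2, -2, 0, 2, 2, 2, 2, 0, 0, 4, 0, 2, 4, -2, 0, 2, 0, -2, 0, 0, 0, 0, -2, -2]),
  ([-2, 0, 0, 0, 0, -2, 0, 0, 0, 0, -2, 0, -4, 2, -2, -2, 0, 0, 0, 0, 0, 0, -2, -2],
   [-1, -1, 1, 1, 1, 1, 1, -1, 1, -1, 1, 1, -1, -1, 1, 1, -1, -1, 1, -1, 1, -1, -1, 3]),
  ([0, 0, -2, 0, 0, -2, 0, -2, 0, 2, -2, 0, -2, 0, 0, -2, 0, -2, -2, 0, -2, 2, 0, -2],
   [-2, 0, 0, 2, 2, 2, 0, 2, -2, 2, 0, 0, 4, 0, 0, 0, 0, 0, -2, 2, -2, 0, -2, 2]),
  ([0, 2, 0, 0, 0, 2, 0, 0, 0, -2, 2, 0, 0, 0, 0, 0, -2, 0, 2, 0, 2, -2, -4, 0],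
   [-1, 1, -1, 1, 1, 1, -1, 3, 1, -1, -1, -1, 1, 1, -1, -1, 1, 1, -3, 3, -3, 1, -1, 3]),
  ([1, 3, 1, 1, -1, 3, -1, 1, 1, -1, 1, 1, 1, -1, 1, 1, -1, -1, 1, 1, -1, -1, -1, 3],
   [-1, -1, -1, 1, 1, 1, 1, 1, -1, 5, -1, 1, 1, -1, -1, 1, 1, -1, -1, 1, -1, 1, -1, -1]),
  ([1, 1, -1, -1, -1, 3, 1, 1, -1, -1, 1, 1, 3, -1, 1, 1, -1, 1, 1, 1, -1, -3, -1, -1],
   [-1, 1, -1, 1, 1, 1, -1, 3, -3, 3, -1, -1, 1, 1, 3, -1, 1, 1, -3, 3, -3, 1, -1, -1]),
  ([-2, 0, 0, 0, 0, -2, -2, -2, 0, 0, -2, -2, -2, 0, -2, 0, 2, 0, 0, 0, -2, 0, 2, -2],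
   [-2, 0, 2, 2, 2, 2, 0, 0, 4, -4, 2, 0, 2, 0, 2, 0, -2, 0, 0, 0, 0, -2, -2, 2])]

theorem frA : fr (QuotientGroup.mk gXA : Co1) = 2 ^ 8 :=
  Cfsg.Agent.MFive.FixN.card_fix (n := 3) (by decide) repXA (vw := vwA) (by decide +kernel) (by delta Cfsg.Agent.LThreeMB.Fix.fixB; rewrite [Cfsg.Agent.Co0Q.ap_eq]; decide +kernel)
    (by decide +kernel) (Cfsg.Agent.Co0Q.Sp.spanN_of repXA (by decide +kernel))

theorem sq_SB : gSB ^ 2 = 1 := by
  have h := eq_of_eqB hM (w := [3, 3]) (w' := []) (by delta Cfsg.Agent.LThreeCo1.Ev.eqB; rewrite [Cfsg.Agent.Co0Q.foldZ_eq]; decide +kernel)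
  simpa only [e, pow_succ, mul_assoc, _root_.pow_zero, _root_.one_mul, _root_.List.map_cons, _root_.List.map_nil, _root_.List.prod_cons, _root_.List.prod_nil, _root_.mul_one] using h
theorem sq_TB : gTB ^ 2 = 1 := by
  have h := eq_of_eqB hM (w := [4, 4]) (w' := []) (by delta Cfsg.Agent.LThreeCo1.Ev.eqB; rewrite [Cfsg.Agent.Co0Q.foldZ_eq]; decide +kernel)
  simpa only [e, pow_succ, mul_assoc, _root_.pow_zero, _root_.one_mul, _root_.List.map_cons, _root_.List.map_nil, _root_.List.prod_cons, _root_.List.prod_nil, _root_.mul_one] using h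
theorem x_eqB : gXB = gSB * gTB := by
  have h := eq_of_eqB hM (w := [5]) (w' := [3, 4]) (by delta Cfsg.Agent.LThreeCo1.Ev.eqB; rewrite [Cfsg.Agent.Co0Q.foldZ_eq]; decide +kernel)
  simpa [e, pow_succ, mul_assoc] using h
theorem x_powB : gXB ^ 3 = 1 := by
  have h := eq_of_eqB hM (w := [5, 5, 5]) (w' := []) (by delta Cfsg.Agent.LThreeCo1.Ev.eqB; rewrite [Cfsg.Agent.Co0Q.foldZ_eq]; decide +kernel)
  simpa only [e, pow_succ, mul_assoc, _root_.pow_zero, _root_.one_mul, _root_.List.map_cons, _root_.List.map_nil, _root_.List.prod_cons, _root_.List.prod_nil, _root_.mul_one] using h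
theorem x_neB : gXB ≠ 1 := by
  have h := ne_of_neB' hM (w := [5]) (w' := []) (by delta Cfsg.Agent.LThreeCo1.Ev.neB'; rewrite [Cfsg.Agent.Co0Q.foldZ_eq]; decide +kernel)
  simpa [e, pow_succ, mul_assoc] using h
theorem memSB : gSB.1 ∈ Spor.Co3 := mem_Co3 repSB (by decide +kernel)
theorem memTB : gTB.1 ∈ Spor.Co3 := mem_Co3 repTB (by decide +kernel)

/-- fixed vectors and dual vectors -/
def vwB : List (List ℤ × List ℤ) := [
  ([-1, 1, -1, 1, -1, -1, -3, -1, -1, 1, 1, 1, 1, 1, -1, -1, -1, 1, -1, -1, -1, 1, 1, 1],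
   [-1, 1, 1, 1, 1, 1, -1, 1, -1, 1, 1, -1, -1, 1, 1, -1, -1, 1, -1, 1, -1, -1, -1, 3]),
  ([0, 0, 0, -2, 0, 0, 2, 0, 0, 0, -2, 0, 0, -2, 0, 0, 2, -2, 0, 0, 2, 2, 0, 0],
   [1, 1, 1, -1, 1, 1, 1, 1, -1, 3, 3, -1, 1, 3, 1, -1, 1, 3, 1, -1, 3, -1, 3, -3]),
  ([0, 0, 0, 0, 0, 2, 2, 0, 0, 0, 0, 2, 0, 0, 0, 0, 2, 0, 0, 2, 2, 2, 0, 2],
   [1, 1, 1, 1, 1, 1, 1, 1, 5, 1, 1, 1, -3, 1, 1, 1, 1, 1, 1, 1, 1, 1, 1, -3]),
  ([-1, -1, -1, 1, -1, 1, -1, -1, -1, -1, 1, 1, -1, 1, -1, -1, -1, 1, -1, 1, -1, -1, -1, -3],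
   [0, 0, 0, 0, 2, 2, 2, 2, -2, 4, 2, 0, 2, 2, 0, 0, 2, 2, 0, 0, 2, 0, 2, 0]),
  ([1, -1, 1, -1, 1, -1, 1, 1, 1, -1, -1, -3, -1, -1, 1, 1, -1, -1, 1, -1, -1, 1, -1, 1],
   [-1, -1, -1, -1, 1, 1, 1, 1, 1, 3, 1, -1, 1, 1, -1, -1, 1, 1, -1, -1, 1, -1, 1, -1]),
  ([1, -1, -1, 1, 1, 1, 1, -1, 1, -1, 1, 1, -1, 1, -1, -1, 1, 1, 1, 3, -1, -1, -1, -1],
   [0, 2, 2, 2, 0, 0, -2, 0, 2, -2, 0, 0, 2, 0, 2, 0, -2, 0, 0, 2, -2, 0, -2, -4])]

theorem frB : fr (QuotientGroup.mk gXB : Co1) = 2 ^ 6 :=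
  Cfsg.Agent.MFive.FixN.card_fix (n := 3) (by decide) repXB (vw := vwB) (by decide +kernel) (by delta Cfsg.Agent.LThreeMB.Fix.fixB; rewrite [Cfsg.Agent.Co0Q.ap_eq]; decide +kernel)
    (by decide +kernel) (Cfsg.Agent.Co0Q.Sp.spanN_of repXB (by decide +kernel))

theorem sq_SC : gSC ^ 2 = 1 := by
  have h := eq_of_eqB hM (w := [6, 6]) (w' := []) (by delta Cfsg.Agent.LThreeCo1.Ev.eqB; rewrite [Cfsg.Agent.Co0Q.foldZ_eq]; decide +kernel)
  simpa only [e, pow_succ, mul_assoc, _root_.pow_zero, _root_.one_mul, _root_.List.map_cons, _root_.List.map_nil, _root_.List.prod_cons, _root_.List.prod_nil, _root_.mul_one] using h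
theorem sq_TC : gTC ^ 2 = 1 := by
  have h := eq_of_eqB hM (w := [7, 7]) (w' := []) (by delta Cfsg.Agent.LThreeCo1.Ev.eqB; rewrite [Cfsg.Agent.Co0Q.foldZ_eq]; decide +kernel)
  simpa only [e, pow_succ, mul_assoc, _root_.pow_zero, _root_.one_mul, _root_.List.map_cons, _root_.List.map_nil, _root_.List.prod_cons, _root_.List.prod_nil, _root_.mul_one] using h
theorem x_eqC : gXC = gSC * gTC := by
  have h := eq_of_eqB hM (w := [8]) (w' := [6, 7]) (by delta Cfsg.Agent.LThreeCo1.Ev.eqB; rewrite [Cfsg.Agent.Co0Q.foldZ_eq]; decide +kernel)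
  simpa [e, pow_succ, mul_assoc] using h
theorem x_powC : gXC ^ 5 = 1 := by
  have h := eq_of_eqB hM (w := [8, 8, 8, 8, 8]) (w' := []) (by delta Cfsg.Agent.LThreeCo1.Ev.eqB; rewrite [Cfsg.Agent.Co0Q.foldZ_eq]; decide +kernel)
  simpa only [e, pow_succ, mul_assoc, _root_.pow_zero, _root_.one_mul, _root_.List.map_cons, _root_.List.map_nil, _root_.List.prod_cons, _root_.List.prod_nil, _root_.mul_one] using h
theorem x_neC : gXC ≠ 1 := by
  have h := ne_of_neB' hM (w := [8]) (w' := []) (by delta Cfsg.Agent.LThreeCo1.Ev.neB'; rewrite [Cfsg.Agent.Co0Q.foldZ_eq]; decide +kernel)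
  simpa [e, pow_succ, mul_assoc] using h
theorem memSC : gSC.1 ∈ Spor.Co3 := mem_Co3 repSC (by decide +kernel)
theorem memTC : gTC.1 ∈ Spor.Co3 := mem_Co3 repTC (by decide +kernel)

/-- fixed vectors and dual vectors -/
def vwC : List (List ℤ × List ℤ) := [
  ([-1, -1, -1, -1, 1, -1, -1, -1, 1, -1, -1, -1, 1, -1, -1, 1, -1, 1, 1, -1, -1, 1, -1, -3],
   [-1, 1, 3, 7, 3, 3, 1, 1, 1, -3, 3, 1, 3, 1, 3, 1, -1, 1, 1, 1, 1, -1, -1, -1]),
  ([0, 0, 0, 0, -2, 0, 0, 0, -2, 0, 0, 0, -2, 0, 0, -2, 0, -2, -2, 0, 0, -2, 0, -2],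
   [-2, 0, 2, 4, 4, 4, 2, 2, 0, 2, 2, 2, 4, 0, 2, 2, 0, 0, 0, 2, 0, 0, -2, 2]),
  ([0, 2, 0, 0, 0, 0, 0, -2, 2, 0, 0, -2, 0, 2, 0, 0, 2, 0, 0, 2, 0, 0, 0, 2],
   [-1, 1, 1, -3, 1, 1, -1, 1, -1, 5, 1, -1, -1, 1, 1, -1, -1, 1, -1, 1, -1, -1, -1, 3]),
  ([0, 2, -2, -2, 0, 0, 0, -2, 2, 0, 0, 0, 0, 0, 0, 0, 0, 0, 0, 0, -2, 0, -2, -2],
   [0, 2, 0, 0, 0, 0, -2, 2, 2, -2, 0, -2, 0, 2, 0, -2, 0, 2, -2, 2, -2, 0, 0, 0]),
  ([-1, -1, -1, -1, -1, -1, -1, -1, -1, 1, 1, -1, 1, -1, -1, 1, -1, 1, -1, 1, -1, -1, 1, -3],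
   [0, 0, 2, 0, 0, 0, 0, -2, 2, -2, 2, 0, -2, 0, 2, 0, -2, 0, 2, -2, 2, -2, 0, 0]),
  ([0, 0, 2, 0, 0, 0, 0, 0, -2, 2, 2, 2, 0, -2, 0, 0, 0, 0, 0, 0, 0, 0, 2, 2],
   [-2, 0, 0, 6, 2, 2, 0, 2, 2, 2, 0, 0, 0, 0, 0, 0, 0, 0, -2, 2, -2, 0, -2, -2]),
  ([0, 0, -2, 0, 2, 0, 0, 0, 0, 0, 0, 2, 0, -2, 0, 0, 0, 0, 2, -2, 0, 2, 0, -2],
   [-1, 1, 3, 1, 1, 1, -1, -1, 1, -1, 3, -1, 1, 1, 3, -1, -3, 1, 1, -1, 1, -3, -1, -1]),
  ([1, 1, -1, -1, 1, 1, -1, -1, 3, -1, -1, -1, 1, 1, 1, 1, 1, 1, -1, -1, -1, 1, -1, 1],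
   [-1, 1, 1, 1, 1, 1, -1, 1, 3, 1, 1, -1, 3, 1, 1, -1, -1, 1, -1, 1, -1, -1, -1, -5])]

theorem frC : fr (QuotientGroup.mk gXC : Co1) = 2 ^ 8 :=
  Cfsg.Agent.MFive.FixN.card_fix (n := 5) (by decide) repXC (vw := vwC) (by decide +kernel) (by delta Cfsg.Agent.LThreeMB.Fix.fixB; rewrite [Cfsg.Agent.Co0Q.ap_eq]; decide +kernel)
    (by decide +kernel) (Cfsg.Agent.Co0Q.Sp.spanN_of repXC (by decide +kernel))

theorem sq_SD : gSD ^ 2 = 1 := by
  have h := eq_of_eqB hM (w := [9, 9]) (w' := []) (by delta Cfsg.Agent.LThreeCo1.Ev.eqB; rewrite [Cfsg.Agent.Co0Q.foldZ_eq]; decide +kernel)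
  simpa only [e, pow_succ, mul_assoc, _root_.pow_zero, _root_.one_mul, _root_.List.map_cons, _root_.List.map_nil, _root_.List.prod_cons, _root_.List.prod_nil, _root_.mul_one] using h
theorem sq_TD : gTD ^ 2 = 1 := by
  have h := eq_of_eqB hM (w := [10, 10]) (w' := []) (by delta Cfsg.Agent.LThreeCo1.Ev.eqB; rewrite [Cfsg.Agent.Co0Q.foldZ_eq]; decide +kernel)
  simpa only [e, pow_succ, mul_assoc, _root_.pow_zero, _root_.one_mul, _root_.List.map_cons, _root_.List.map_nil, _root_.List.prod_cons, _root_.List.prod_nil, _root_.mul_one] using h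
theorem x_eqD : gXD = gSD * gTD := by
  have h := eq_of_eqB hM (w := [11]) (w' := [9, 10]) (by delta Cfsg.Agent.LThreeCo1.Ev.eqB; rewrite [Cfsg.Agent.Co0Q.foldZ_eq]; decide +kernel)
  simpa [e, pow_succ, mul_assoc] using h
theorem x_powD : gXD ^ 5 = 1 := by
  have h := eq_of_eqB hM (w := [11, 11, 11, 11, 11]) (w' := []) (by delta Cfsg.Agent.LThreeCo1.Ev.eqB; rewrite [Cfsg.Agent.Co0Q.foldZ_eq]; decide +kernel)
  simpa only [e, pow_succ, mul_assoc, _root_.pow_zero, _root_.one_mul, _root_.List.map_cons, _root_.List.map_nil, _root_.List.prod_cons, _root_.List.prod_nil, _root_.mul_one] using h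
theorem x_neD : gXD ≠ 1 := by
  have h := ne_of_neB' hM (w := [11]) (w' := []) (by delta Cfsg.Agent.LThreeCo1.Ev.neB'; rewrite [Cfsg.Agent.Co0Q.foldZ_eq]; decide +kernel)
  simpa [e, pow_succ, mul_assoc] using h
theorem memSD : gSD.1 ∈ Spor.Co3 := mem_Co3 repSD (by decide +kernel)
theorem memTD : gTD.1 ∈ Spor.Co3 := mem_Co3 repTD (by decide +kernel)

/-- fixed vectors and dual vectors -/
def vwD : List (List ℤ × List ℤ) := [
  ([0, 0, 0, 2, -2, 0, 0, 0, 0, -2, 0, 0, 0, 0, -2, 0, 0, -2, -2, 2, 0, 0, 0, -2],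
   [-1, -1, 1, 1, 1, 1, 1, -1, 1, -1, 1, 1, -1, -1, 1, 1, -1, -1, 1, -1, 1, -1, -1, 3]),
  ([-1, -1, -1, -1, -1, -1, -1, -1, -1, -1, -1, -1, -1, -1, -1, -1, -1, -1, -1, -1, -1, -1, -1, -5],
   [1, 1, 1, 1, 1, 1, 1, 1, 1, 1, 1, 1, 1, 1, 1, 1, 1, 1, 1, 1, 1, 1, 1, -3]),
  ([-1, 1, 1, 1, 1, -1, 1, -1, -1, -1, -1, -1, -1, -1, -1, 1, -1, -1, 1, -1, -1, -1, -1, -3],
   [-1, 5, 1, 1, 1, 1, -1, 1, -1, 1, 1, -1, -1, 1, 1, -1, -1, 1, -1, 1, -1, -1, -1, -1]),
  ([0, 0, -2, -2, 2, 2, 0, -2, 0, 0, 0, 0, 0, 0, 0, 0, -2, 0, 0, -2, 0, 0, 0, -2],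
   [-1, 3, 1, 1, 1, 1, 1, -1, 1, -1, 1, 1, -1, -1, 1, 1, -1, -1, 1, -1, 1, -1, -1, -1])]

theorem frD : fr (QuotientGroup.mk gXD : Co1) = 2 ^ 4 :=
  Cfsg.Agent.MFive.FixN.card_fix (n := 5) (by decide) repXD (vw := vwD) (by decide +kernel) (by delta Cfsg.Agent.LThreeMB.Fix.fixB; rewrite [Cfsg.Agent.Co0Q.ap_eq]; decide +kernel)
    (by decide +kernel) (Cfsg.Agent.Co0Q.Sp.spanN_of repXD (by decide +kernel))

end Cfsg.Agent.H936.Odm.Co3Data

private theorem dce_3ecc6abfc4d7 : _root_.True := by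
  try have : _root_.True := by simp only [_root_.Cfsg.Agent.H936.Odm.Co3Data.e.eq_11]
  try have : _root_.True := by simp only [_root_.Cfsg.Agent.H936.Odm.Co3Data.e.eq_3]
  try have : _root_.True := by simp only [_root_.Cfsg.Agent.H936.Odm.Co3Data.e.eq_6]
  try have : _root_.True := by simp only [_root_.Cfsg.Agent.H936.Odm.Co3Data.e.eq_5]
  try have : _root_.True := by simp only [_root_.Cfsg.Agent.H936.Odm.Co3Data.e.eq_9]
  try have : _root_.True := by simp only [_root_.Cfsg.Agent.H936.Odm.Co3Data.e.eq_7]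
  try have : _root_.True := by simp only [_root_.Cfsg.Agent.H936.Odm.Co3Data.e.eq_12]
  try have : _root_.True := by simp only [_root_.Cfsg.Agent.H936.Odm.Co3Data.e.eq_10]
  try have : _root_.True := by simp only [_root_.Cfsg.Agent.H936.Odm.Co3Data.e.eq_4]
  try have : _root_.True := by simp only [_root_.Cfsg.Agent.H936.Odm.Co3Data.e.eq_8]
  try have : _root_.True := by simp only [_root_.Cfsg.Agent.H936.Odm.Co3Data.e.eq_1]
  try have : _root_.True := by simp only [_root_.Cfsg.Agent.H936.Odm.Co3Data.e.eq_2]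
  exact _root_.True.intro
end

-- part: H729/OdmChar_mg
section
prune_inst 0x100000000010200000405000000000000800008000000100204000000000200000020000000000000000000000000200000000000000000000000000000080080000000000000000000000000000000000000000000000000000000000000
set_option linter.all false
open scoped Cfsg.Agent.FastGrp

-- part: H729/OdmChar
section
/-!
# TEAM ODDM (S4785): the characteristic prime is real in the orthogonal groups, `q` odd (helper729)

* `ut F t`     : the unipotent isometry `(a, b, c) ↦ (a, b + t a, c - 2 t b - t² a)` of `2 (b² + a c)`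
* `rq_char`    : `RQ Q p`, dimension at least five
* `realP_char` : `RealP (POmega F Q) p`, dimension at least five
-/

set_option autoImplicit false
set_option linter.unusedSectionVars false
set_option linter.style.haveILetI false

namespace Cfsg.Agent.H729.OdmChar

open QuadraticMap Module
open Cfsg.Agent.LieClassical.OrthCore Cfsg.Agent.LieClassical.OrthFinite Cfsg.Agent.LieClassical.OrthForms
open Cfsg.Agent.H160.QSpin Cfsg.Agent.H160.QDisc Cfsg.Agent.H160.QModel Cfsg.Agent.H160.QFinal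
open Cfsg.Agent.H160.QReal Cfsg.Agent.H160.QSemi
open Cfsg.Agent.H453.OddM

section three

variable (F : Type*) [Field F]

/-- the unipotent isometries -/
def ut (t : F) : (F × F × F) ≃ₗ[F] (F × F × F) where
  toFun x := (x.1, x.2.1 + t * x.1, x.2.2 - 2 * t * x.2.1 - t ^ 2 * x.1)
  invFun x := (x.1, x.2.1 - t * x.1, x.2.2 + 2 * t * x.2.1 - t ^ 2 * x.1)
  map_add' x y := by
    refine Prod.ext rfl (Prod.ext ?_ ?_)
    · show x.2.1 + y.2.1 + t * (x.1 + y.1) = (x.2.1 + t * x.1) + (y.2.1 + t * y.1)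
      ring
    · show x.2.2 + y.2.2 - 2 * t * (x.2.1 + y.2.1) - t ^ 2 * (x.1 + y.1) =
        (x.2.2 - 2 * t * x.2.1 - t ^ 2 * x.1) + (y.2.2 - 2 * t * y.2.1 - t ^ 2 * y.1)
      ring
  map_smul' c x := by
    refine Prod.ext rfl (Prod.ext ?_ ?_)
    · show c * x.2.1 + t * (c * x.1) = c * (x.2.1 + t * x.1)
      ring
    · show c * x.2.2 - 2 * t * (c * x.2.1) - t ^ 2 * (c * x.1) = c * (x.2.2 - 2 * t * x.2.1 - t ^ 2 * x.1)
      ring
  left_inv x := by
    refine Prod.ext rfl (Prod.ext ?_ ?_)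
    · show x.2.1 + t * x.1 - t * x.1 = x.2.1
      ring
    · show (x.2.2 - 2 * t * x.2.1 - t ^ 2 * x.1) + 2 * t * (x.2.1 + t * x.1) - t ^ 2 * x.1 = x.2.2
      ring
  right_inv x := by
    refine Prod.ext rfl (Prod.ext ?_ ?_)
    · show x.2.1 - t * x.1 + t * x.1 = x.2.1
      ring
    · show (x.2.2 + 2 * t * x.2.1 - t ^ 2 * x.1) - 2 * t * (x.2.1 - t * x.1) - t ^ 2 * x.1 = x.2.2
      ring

theorem ut_apply (t : F) (x : F × F × F) :
    ut F t x = (x.1, x.2.1 + t * x.1, x.2.2 - 2 * t * x.2.1 - t ^ 2 * x.1) := rfl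

/-- the inverting reflection -/
def yt : (F × F × F) ≃ₗ[F] (F × F × F) where
  toFun x := (x.1, -x.2.1, x.2.2)
  invFun x := (x.1, -x.2.1, x.2.2)
  map_add' x y := by
    refine Prod.ext rfl (Prod.ext ?_ rfl)
    show -(x.2.1 + y.2.1) = -x.2.1 + -y.2.1
    ring
  map_smul' c x := by
    refine Prod.ext rfl (Prod.ext ?_ rfl)
    show -(c * x.2.1) = c * -x.2.1
    ring
  left_inv x := by
    refine Prod.ext rfl (Prod.ext ?_ rfl)
    exact neg_neg _
  right_inv x := by
    refine Prod.ext rfl (Prod.ext ?_ rfl)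
    exact neg_neg _

theorem yt_apply (x : F × F × F) : yt F x = (x.1, -x.2.1, x.2.2) := rfl

theorem ut_add (s t : F) : ut F (s + t) = ut F s * ut F t := by
  apply LinearEquiv.ext
  intro x
  rw [LinearEquiv.mul_apply, ut_apply, ut_apply, ut_apply]
  refine Prod.ext rfl (Prod.ext ?_ ?_)
  · show x.2.1 + (s + t) * x.1 = (x.2.1 + t * x.1) + s * x.1
    ring
  · show x.2.2 - 2 * (s + t) * x.2.1 - (s + t) ^ 2 * x.1 =
      (x.2.2 - 2 * t * x.2.1 - t ^ 2 * x.1) - 2 * s * (x.2.1 + t * x.1) - s ^ 2 * x.1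
    ring

theorem ut_zero : ut F 0 = 1 := by
  apply LinearEquiv.ext
  intro x
  rw [ut_apply]
  refine Prod.ext rfl (Prod.ext ?_ ?_)
  · show x.2.1 + 0 * x.1 = x.2.1
    ring
  · show x.2.2 - 2 * 0 * x.2.1 - 0 ^ 2 * x.1 = x.2.2
    ring

theorem ut_pow (k : ℕ) : ut F 1 ^ k = ut F k := by
  induction k with
  | zero => rw [pow_zero, Nat.cast_zero, ut_zero]
  | succ k ih => rw [pow_succ, ih, Nat.cast_succ, ut_add]

theorem ut_eq_one {t : F} (h : ut F t = 1) : t = 0 := by
  have h1 := congrArg (fun f : (F × F × F) ≃ₗ[F] (F × F × F) => (f (1, 0, 0)).2.1) h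
  simpa [ut_apply] using h1

theorem orderOf_ut (p : ℕ) [CharP F p] : orderOf (ut F 1) = p := by
  apply Nat.dvd_antisymm
  · apply orderOf_dvd_of_pow_eq_one
    rw [ut_pow, CharP.cast_eq_zero, ut_zero]
  · have h := pow_orderOf_eq_one (ut F 1)
    rw [ut_pow] at h
    exact (CharP.cast_eq_zero_iff F p _).1 (ut_eq_one F h)

theorem yt_ut (t : F) : yt F * ut F t * (yt F)⁻¹ = (ut F t)⁻¹ := by
  have h1 : (ut F t)⁻¹ = ut F (-t) := by
    rw [inv_eq_iff_mul_eq_one, ← ut_add, add_neg_cancel, ut_zero]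
  rw [h1, mul_inv_eq_iff_eq_mul]
  apply LinearEquiv.ext
  intro x
  rw [LinearEquiv.mul_apply, LinearEquiv.mul_apply, ut_apply, ut_apply, yt_apply, yt_apply]
  refine Prod.ext rfl (Prod.ext ?_ ?_)
  · show -(x.2.1 + t * x.1) = -x.2.1 + -t * x.1
    ring
  · show x.2.2 - 2 * t * x.2.1 - t ^ 2 * x.1 = x.2.2 - 2 * (-t) * -x.2.1 - (-t) ^ 2 * x.1
    ring

/-- the bilinear form `2 b b' + a c' + c a'` -/
def B3 : LinearMap.BilinForm F (F × F × F) :=
  LinearMap.mk₂ F (fun x y => 2 * x.2.1 * y.2.1 + x.1 * y.2.2 + x.2.2 * y.1)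
    (fun x x' y => by
      show 2 * (x.2.1 + x'.2.1) * y.2.1 + (x.1 + x'.1) * y.2.2 + (x.2.2 + x'.2.2) * y.1 = _
      ring)
    (fun c x y => by
      show 2 * (c * x.2.1) * y.2.1 + (c * x.1) * y.2.2 + (c * x.2.2) * y.1 = c * _
      ring)
    (fun x y y' => by
      show 2 * x.2.1 * (y.2.1 + y'.2.1) + x.1 * (y.2.2 + y'.2.2) + x.2.2 * (y.1 + y'.1) = _
      ring)
    (fun c x y => by
      show 2 * x.2.1 * (c * y.2.1) + x.1 * (c * y.2.2) + x.2.2 * (c * y.1) = c * _
      ring)

theorem B3_apply (x y : F × F × F) : B3 F x y = 2 * x.2.1 * y.2.1 + x.1 * y.2.2 + x.2.2 * y.1 := rfl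

theorem nondeg_B3 (h2 : (2 : F) ≠ 0) : Nondeg (qf (B3 F)) := by
  refine nondeg_qf h2 (fun x y => by rw [B3_apply, B3_apply]; ring) ?_
  intro x hx
  have h1 := hx (0, 0, 1)
  have h3 := hx (0, 1, 0)
  have h4 := hx (1, 0, 0)
  rw [B3_apply] at h1 h3 h4
  simp only [mul_zero, mul_one, add_zero, zero_add, mul_eq_zero, h2, false_or] at h1 h3 h4
  exact Prod.ext h1 (Prod.ext h3 h4)

theorem ut_mem (t : F) : ut F t ∈ O (qf (B3 F)) := by
  apply mem_O_qf
  intro x y
  rw [B3_apply, B3_apply, ut_apply, ut_apply]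
  ring

theorem yt_mem : yt F ∈ O (qf (B3 F)) := by
  apply mem_O_qf
  intro x y
  rw [B3_apply, B3_apply, yt_apply, yt_apply]
  ring

end three

section main

variable {F : Type*} [Field F] [Fintype F] [DecidableEq F]

/-- **the characteristic is real**, dimension at least five -/
theorem rq_char (h2 : (2 : F) ≠ 0) {p : ℕ} [CharP F p] (hp : Odd p)
    {V : Type*} [AddCommGroup V] [Module F V] [FiniteDimensional F V] [Finite V] {Q : QuadraticForm F V}
    (hQ : Nondeg Q) (hd : 5 ≤ finrank F V) : RQ Q p := by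
  obtain ⟨m, hm⟩ : ∃ m, finrank F V = 3 + (m + 1 + 1) := ⟨finrank F V - 5, by omega⟩
  have hQ₁ := nondeg_B3 F h2
  obtain ⟨Q₀, hQ₀, hdc₀⟩ := exists_form h2 (cls_mul (dc_cases hQ) (dc_cases hQ₁)) (m + 1)
  have hnd := nondeg_prod hQ₁ hQ₀
  have hdc1 : dc (qf (B3 F)) * dc (qf (B3 F)) = 1 := by
    rcases dc_cases hQ₁ with h | h <;> rw [h] <;> norm_num
  obtain ⟨e, he⟩ := exists_iso h2 hnd hQ (by rw [hm]; simp) (by
    rw [dc_prod, hdc₀, mul_comm (dc Q), ← mul_assoc, hdc1, one_mul])
  refine RQ.cj ?_ he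
  obtain ⟨⟨w, hw⟩, w', hw', hw''⟩ := Cfsg.Agent.ClassicalGeometry.Universal.exists_isSquare_and_not h2 Q₀
    (nondeg_bilin hQ₀) (by simp)
  have hw0 : Q₀ w ≠ 0 := by rw [hw]; exact one_ne_zero
  classical
  refine rq_adjust hnd (x := pr (ut F 1) 1) (y := pr (yt F) 1) hp (pr_mem_O (ut_mem F 1) (O Q₀).one_mem)
    (pr_mem_O (yt_mem F) (O Q₀).one_mem) (by rw [orderOf_pr, orderOf_ut F p, orderOf_one, Nat.lcm_one_right])
    ?_ (Or.inr ?_) ?_
  · have h1 := congrArg (fun t => pr t (1 : (Fin (m + 1 + 1) → F) ≃ₗ[F] (Fin (m + 1 + 1) → F))) (yt_ut F 1)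
    exact h1
  · refine ⟨pr 1 (refl Q₀ w hw0), pr_mem_O (O _).one_mem (refl_mem_O hw0), ?_, ?_⟩
    · rw [det_pr, map_one, one_mul, det_refl]
    · rw [← pr_mul, ← pr_mul, one_mul, mul_one, one_mul, mul_one]
  · refine ⟨pr 1 (refl Q₀ w hw0 * refl Q₀ w' hw'), ?_, ?_⟩
    · have h1 : El Q₀ (-1) (refl Q₀ w hw0 * refl Q₀ w' hw') := by
        refine ⟨(O Q₀).mul_mem (refl_mem_O hw0) (refl_mem_O hw'), ?_, ?_⟩
        · rw [map_mul, det_refl, det_refl, neg_mul_neg, one_mul]
        · have h3 : (⟨refl Q₀ w hw0 * refl Q₀ w' hw', (O Q₀).mul_mem (refl_mem_O hw0) (refl_mem_O hw')⟩ : O Q₀) =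
              ⟨refl Q₀ w hw0, refl_mem_O hw0⟩ * ⟨refl Q₀ w' hw', refl_mem_O hw'⟩ := rfl
          rw [h3, map_mul, spin_refl h2, spin_refl h2, if_pos (by rw [hw]; exact IsSquare.one), if_neg hw'', mul_one]
      have h3 := El.pr h2 hQ₁ hQ₀ (El.one (qf (B3 F))) h1
      rwa [one_mul] at h3
    · rw [← pr_mul, ← pr_mul, one_mul, mul_one, one_mul, mul_one]

end main

/-- **`RealP (POmega F Q) p`** in odd characteristic `p`, dimension at least five -/
theorem realP_char {ι : Type} [Fintype ι] [DecidableEq ι] {F : Type*} [Field F] [Fintype F] (h2 : (2 : F) ≠ 0)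
    {p : ℕ} [CharP F p] (hp : Odd p) {Q : QuadraticForm F (ι → F)} (hQ : Nondeg Q) (h5 : 5 ≤ Fintype.card ι) :
    RealP (Cfsg.POmega F ⇑Q) p := by
  classical
  exact realP_pomega h2 hQ h5 hp (rq_char h2 hp hQ (by rw [finrank_fintype_fun_eq_card]; omega))

end Cfsg.Agent.H729.OdmChar
end

-- part: H210/DoRes/SpAbs
section
/-!
# No projective representation of degree `2n+2` for a group like `PSp_2n`, abstract part (helper210)
-/

set_option autoImplicit false

namespace Cfsg.Agent.H210.DoRes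

open Module
open scoped commutatorElement

section spabs

variable {F V G S T κ : Type*} [Field F] [AddCommGroup V] [Module F V] [FiniteDimensional F V]
  [Group G] [Group S] [Group T] [Fintype κ] [DecidableEq κ] {ρ : G →* (V ≃ₗ[F] V)} {π : G →* S}

theorem sp_abs (h : PR ρ π) (h2 : (2 : F) ≠ 0) (hn : 4 ≤ Fintype.card κ)
    (hdim : finrank F V = 2 * Fintype.card κ + 2)
    (φ : κ → T →* S) (hφ : ∀ i j, i ≠ j → ∀ A B, Commute (φ i A) (φ j B))
    (hsym : ∀ σ ∈ alternatingGroup κ, ∃ w : S, ∀ i A, w * φ i A * w⁻¹ = φ (σ i) A)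
    {a b x y x' y' : T} (ha : ⁅x, y⁆ = a) (hb : ⁅x', y'⁆ = b) (hab : ⁅a, b⁆ = a * a) (hb2 : b * b = a * a)
    (hprod : ((Finset.univ : Finset κ).toList.map fun i => φ i (a * a)).prod = 1)
    (hne : ∀ i k, i ≠ k → φ i (a * a) * φ k (a * a) ≠ 1) : False := by
  classical
  set A : κ → G := fun i => h.cm (φ i x) (φ i y) with hA
  set B : κ → G := fun i => h.cm (φ i x') (φ i y') with hB
  set C : κ → G := fun i => ⁅A i, B i⁆ with hC
  have πA : ∀ i, π (A i) = φ i a := fun i => by rw [hA]; dsimp only; rw [h.π_cm, ← map_commutatorElement, ha]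
  have πB : ∀ i, π (B i) = φ i b := fun i => by rw [hB]; dsimp only; rw [h.π_cm, ← map_commutatorElement, hb]
  have πC : ∀ i, π (C i) = φ i (a * a) := fun i => by
    rw [hC]; dsimp only; rw [map_commutatorElement, πA, πB, ← map_commutatorElement, hab]
  have hCcm : ∀ i, C i = h.cm (φ i a) (φ i b) := fun i => h.comm_eq_cm (πA i) (πB i)
  -- commutation between different planes
  have AA : ∀ i j, i ≠ j → Commute (A i) (A j) := fun i j hij =>
    h.commute_cm (by rw [πA]; exact hφ i j hij _ _) (by rw [πA]; exact hφ i j hij _ _)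
  have AB : ∀ i j, i ≠ j → Commute (A i) (B j) := fun i j hij =>
    h.commute_cm (by rw [πA]; exact hφ i j hij _ _) (by rw [πA]; exact hφ i j hij _ _)
  have BB : ∀ i j, i ≠ j → Commute (B i) (B j) := fun i j hij =>
    h.commute_cm (by rw [πB]; exact hφ i j hij _ _) (by rw [πB]; exact hφ i j hij _ _)
  -- squares
  have sqA : ∀ i, ∃ z, π z = 1 ∧ A i * A i = z * C i := fun i =>
    h.exists_mul (by rw [map_mul, πA, πC, ← map_mul])
  have sqB : ∀ i, ∃ z, π z = 1 ∧ B i * B i = z * C i := fun i =>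
    h.exists_mul (by rw [map_mul, πB, πC, ← map_mul, hb2])
  have AC : ∀ i j, Commute (A i) (C j) := by
    intro i j
    by_cases hij : i = j
    · subst hij
      obtain ⟨z, hz, e⟩ := sqA i
      have e' : C i = z⁻¹ * (A i * A i) := by rw [e, inv_mul_cancel_left]
      rw [e']
      exact ((h.central (by rw [map_inv, hz, inv_one]) (A i)).symm).mul_right
        ((Commute.refl (A i)).mul_right (Commute.refl (A i)))
    · rw [hCcm]
      exact h.commute_cm (by rw [πA]; exact hφ i j hij _ _) (by rw [πA]; exact hφ i j hij _ _)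
  have BC : ∀ i j, Commute (B i) (C j) := by
    intro i j
    by_cases hij : i = j
    · subst hij
      obtain ⟨z, hz, e⟩ := sqB i
      have e' : C i = z⁻¹ * (B i * B i) := by rw [e, inv_mul_cancel_left]
      rw [e']
      exact ((h.central (by rw [map_inv, hz, inv_one]) (B i)).symm).mul_right
        ((Commute.refl (B i)).mul_right (Commute.refl (B i)))
    · rw [hCcm]
      exact h.commute_cm (by rw [πB]; exact hφ i j hij _ _) (by rw [πB]; exact hφ i j hij _ _)
  have CC : ∀ i j, Commute (C i) (C j) := by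
    intro i j
    have hc : C i = A i * B i * (A i)⁻¹ * (B i)⁻¹ := commutatorElement_def _ _
    rw [hc]
    exact (((AC i j).mul_left (BC i j)).mul_left (AC i j).inv_left).mul_left (BC i j).inv_left
  have ABC : ∀ i, A i * B i = C i * (B i * A i) := by
    intro i
    have hc : C i = A i * B i * (A i)⁻¹ * (B i)⁻¹ := commutatorElement_def _ _
    rw [hc]; group
  have C2 : ∀ i, C i * C i = 1 := by
    intro i
    obtain ⟨z, hz, e⟩ := sqA i
    have e1 : A i * B i * (A i)⁻¹ = C i * B i := by rw [ABC]; group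
    have e2 : (A i * A i) * B i * (A i * A i)⁻¹ = C i * C i * B i := by
      calc (A i * A i) * B i * (A i * A i)⁻¹ = A i * (A i * B i * (A i)⁻¹) * (A i)⁻¹ := by group
        _ = A i * (C i * B i) * (A i)⁻¹ := by rw [e1]
        _ = C i * (A i * B i * (A i)⁻¹) := by rw [← mul_assoc (A i), (AC i i).eq]; group
        _ = C i * C i * B i := by rw [e1, mul_assoc]
    have e3 : Commute (A i * A i) (B i) := by
      rw [e]
      exact (h.central hz (B i)).mul_left (BC i i).symm
    rw [e3.eq, mul_inv_cancel_right] at e2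
    exact mul_eq_right.1 e2.symm
  -- symmetry
  have sym : ∀ σ ∈ alternatingGroup κ, ∃ g : G, (∀ i, g * A i * g⁻¹ = A (σ i)) ∧ (∀ i, g * C i * g⁻¹ = C (σ i)) := by
    intro σ hσ
    obtain ⟨w, hw⟩ := hsym σ hσ
    obtain ⟨g, rfl⟩ := h.surj w
    refine ⟨g, fun i => ?_, fun i => ?_⟩
    · show g * h.cm _ _ * g⁻¹ = h.cm _ _
      rw [h.conj_cm, hw, hw]
    · rw [hCcm, hCcm, h.conj_cm, hw, hw]
  -- the linear involutions
  set c : κ → V →ₗ[F] V := fun i => (ρ (C i) : V →ₗ[F] V) with hcdef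
  have cv : ∀ i v, c i v = ρ (C i) v := fun i v => rfl
  have ρmul : ∀ g k v, ρ (g * k) v = ρ g (ρ k v) := fun g k v => by rw [map_mul, LinearEquiv.mul_apply]
  have hcc2 : ∀ i v, c i (c i v) = v := fun i v => by
    rw [cv, cv, ← ρmul, C2, map_one]; rfl
  have hcc : ∀ i j v, c i (c j v) = c j (c i v) := fun i j v => by
    rw [cv, cv, cv, cv, ← ρmul, ← ρmul, (CC i j).eq]
  have comm_c : ∀ {g : G} {j : κ}, Commute g (C j) → ∀ v, ρ g (c j v) = c j (ρ g v) := fun {g j} hg v => by
    rw [cv, cv, ← ρmul, ← ρmul, hg.eq]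
  have pres : ∀ {g : G}, (∀ j, Commute g (C j)) → ∀ (I : Finset κ), ∀ v ∈ W c I, ρ g v ∈ W c I := by
    intro g hg I v hv j
    rw [← comm_c (hg j), hv j]
    split_ifs <;> simp only [_root_.map_neg]
  have hg : ∀ σ ∈ alternatingGroup κ, ∃ g : V ≃ₗ[F] V, ∀ i v, g (c i v) = c (σ i) (g v) := by
    intro σ hσ
    obtain ⟨g, -, hgC⟩ := sym σ hσ
    refine ⟨ρ g, fun i v => ?_⟩
    rw [cv, cv, ← ρmul, ← ρmul, ← hgC]
    congr 2
    group
  have h3 : 3 ≤ Fintype.card κ := by omega
  have inst : Nonempty κ := by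
    rw [← Fintype.card_pos_iff]; omega
  obtain ⟨i0⟩ := inst
  -- a uniform scalar
  obtain ⟨z0, hz0, ez0⟩ := sqA i0
  have sqAll : ∀ i, A i * A i = z0 * C i := by
    intro i
    obtain ⟨σ, hσ, hσi⟩ : ∃ σ ∈ alternatingGroup κ, σ i0 = i := by
      obtain ⟨σ, hσ, e⟩ := exists_alt_map h3 (J := {i0}) (J' := {i}) (by simp)
      refine ⟨σ, hσ, ?_⟩
      have := congrArg (fun K : Finset κ => i ∈ K) e
      simp at this
      exact this.symm
    obtain ⟨g, hgA, hgC⟩ := sym σ hσ
    rw [← hσi, ← hgA, ← hgC]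
    calc g * A i0 * g⁻¹ * (g * A i0 * g⁻¹) = g * (A i0 * A i0) * g⁻¹ := by group
      _ = g * (z0 * C i0) * g⁻¹ := by rw [ez0]
      _ = z0 * (g * C i0 * g⁻¹) := by rw [← mul_assoc g, ← (h.central hz0 g).eq]; group
  obtain ⟨ζ, hζ⟩ := h.scal z0 hz0
  have hV : 0 < finrank F V := by omega
  have : Nontrivial V := Module.nontrivial_of_finrank_pos hV
  have hζ0 : ζ ≠ 0 := by
    rintro rfl
    obtain ⟨v, hv⟩ := exists_ne (0 : V)
    exact hv ((ρ z0).map_eq_zero_iff.1 (by rw [hζ, zero_smul]))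
  have sqA' : ∀ i v, ρ (A i) (ρ (A i) v) = ζ • c i v := fun i v => by
    rw [← ρmul, sqAll, ρmul, hζ, cv]
  have anti : ∀ (I : Finset κ) i, i ∈ I → ∀ v ∈ W c I, ρ (A i) (ρ (B i) v) = - ρ (B i) (ρ (A i) v) := by
    intro I i hi v hv
    rw [← ρmul, ABC, ρmul, ρmul, ← cv]
    exact W_neg (pres (BC i) I _ (pres (AC i) I _ hv)) hi
  -- dimensions
  have even_d : ∀ I : Finset κ, I.Nonempty → Even (finrank F (W c I)) := by
    rintro I ⟨i, hi⟩
    exact even_sub h2 (a := (ρ (A i) : V →ₗ[F] V)) (b := (ρ (B i) : V →ₗ[F] V)) (ρ (A i)).injective (ρ (B i)).injective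
      (fun v hv => pres (AC i) I v hv) (fun v hv => pres (BC i) I v hv) (fun v hv => anti I i hi v hv)
  have four_d : ∀ I : Finset κ, 2 ≤ I.card → 4 ∣ finrank F (W c I) := by
    intro I hI
    obtain ⟨i, hi, j, hj, hij⟩ := Finset.one_lt_card.1 hI
    have sw : ∀ {g k : G}, Commute g k → ∀ v, ρ g (ρ k v) = ρ k (ρ g v) := fun {g k} hgk v => by
      rw [← ρmul, ← ρmul, hgk.eq]
    refine four_dvd_sub h2 (a := ρ (A i)) (b := ρ (B i)) (a' := ρ (A j)) (b' := ρ (B j)) hζ0
      (fun v hv => pres (AC i) I v hv) (fun v hv => pres (BC i) I v hv)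
      (fun v hv => pres (AC j) I v hv) (fun v hv => pres (BC j) I v hv) ?_
      (fun v hv => anti I i hi v hv) (fun v hv => anti I j hj v hv)
      (fun v _ => sw (AA i j hij) v) (fun v _ => sw (AB i j hij) v) (fun v _ => sw (AB j i hij.symm) v)
    intro v hv
    rw [sw (AA j i hij.symm), sqA', sqA', W_neg hv hj]
    rw [smul_neg, map_neg, map_smul, W_neg hv hi, smul_neg, smul_neg, smul_neg, neg_neg, smul_smul]
  -- parity
  obtain ⟨ε, hε⟩ := h.scal (((Finset.univ : Finset κ).toList.map C).prod) (by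
    rw [map_list_prod, List.map_map, ← hprod]
    congr 2
    funext i
    exact πC i)
  have par : ∀ I : Finset κ, finrank F (W c I) ≠ 0 → ε = (-1) ^ I.card := by
    intro I hI
    obtain ⟨v, hv, hv0⟩ := Submodule.exists_mem_ne_zero_of_ne_bot (p := W c I) (by
      rintro hb; rw [hb, finrank_bot] at hI; exact hI rfl)
    have e1 := list_prod_apply (ρ := ρ) (C := C) (J := I) (v := v) (θ := 1) (fun i => by
      rw [← cv, hv i]; split_ifs <;> simp) (Finset.univ : Finset κ).toList
    rw [hε, list_prod_sign, one_pow, mul_one] at e1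
    exact smul_left_injective F hv0 e1
  -- counting
  have hmid : ∀ I : Finset κ, 2 ≤ I.card → I.card + 1 ≤ Fintype.card κ → finrank F (W c I) = 0 := by
    intro I h1 h4
    by_contra h0
    have h5 := choose_mul_le h2 hcc h3 hg I
    have h6 := le_choose (n := Fintype.card κ) (k := I.card) (by omega) h4
    have h7 : 4 ≤ finrank F (W c I) := Nat.le_of_dvd (Nat.pos_of_ne_zero h0) (four_d I h1)
    have h8 := Nat.mul_le_mul h6 h7
    omega
  have hd1 : ∀ i, finrank F (W c {i}) = finrank F (W c {i0}) := fun i =>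
    finrank_W_of_card h3 hg (by simp)
  have htot := sum_eq h2 hcc2 hcc
  set TT : Finset (Finset κ) := insert ∅ (insert Finset.univ (Finset.univ.image fun i : κ => ({i} : Finset κ))) with hTT
  have hsub : ∑ J ∈ TT, finrank F (W c J) = ∑ J : Finset κ, finrank F (W c J) := by
    refine Finset.sum_subset (Finset.subset_univ _) fun J _ hJ => hmid J ?_ ?_
    · by_contra hlt
      apply hJ
      have : J.card = 0 ∨ J.card = 1 := by omega
      rcases this with h0 | h0
      · rw [Finset.card_eq_zero] at h0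
        rw [hTT, h0]; exact Finset.mem_insert_self _ _
      · obtain ⟨i, rfl⟩ := Finset.card_eq_one.1 h0
        rw [hTT]
        refine Finset.mem_insert_of_mem (Finset.mem_insert_of_mem ?_)
        exact Finset.mem_image_of_mem _ (Finset.mem_univ i)
    · by_contra hlt
      apply hJ
      have h5 : J.card = Fintype.card κ := le_antisymm (Finset.card_le_univ J) (by omega)
      have h6 : J = Finset.univ := (Finset.card_eq_iff_eq_univ J).1 h5
      rw [hTT, h6]
      exact Finset.mem_insert_of_mem (Finset.mem_insert_self _ _)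
  have hu0 : (∅ : Finset κ) ≠ Finset.univ := by
    intro e
    have := congrArg Finset.card e
    rw [Finset.card_empty, Finset.card_univ] at this; omega
  have hsum : ∑ J ∈ TT, finrank F (W c J) =
      finrank F (W c ∅) + (finrank F (W c Finset.univ) + Fintype.card κ * finrank F (W c {i0})) := by
    rw [hTT, Finset.sum_insert, Finset.sum_insert, Finset.sum_image]
    · rw [Finset.sum_congr rfl fun i _ => hd1 i, Finset.sum_const, Finset.card_univ, smul_eq_mul]
    · intro i _ j _ hij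
      exact Finset.singleton_injective hij
    · rw [Finset.mem_image]
      rintro ⟨i, -, hi⟩
      have := congrArg Finset.card hi
      rw [Finset.card_singleton, Finset.card_univ] at this; omega
    · rw [Finset.mem_insert, Finset.mem_image]
      rintro (e | ⟨i, -, hi⟩)
      · exact hu0 e
      · have := congrArg Finset.card hi
        rw [Finset.card_singleton, Finset.card_empty] at this; omega
  rw [← hsub, hsum, hdim] at htot
  obtain ⟨k, hk⟩ := even_d {i0} (Finset.singleton_nonempty i0)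
  obtain ⟨m, hm⟩ := four_d Finset.univ (by rw [Finset.card_univ]; omega)
  have hk1 : k ≤ 1 := by
    by_contra hk2
    have : Fintype.card κ * 4 ≤ Fintype.card κ * finrank F (W c {i0}) := Nat.mul_le_mul_left _ (by omega)
    omega
  interval_cases k
  · -- `c i c j = 1`
    rw [hk] at htot
    obtain ⟨i, j, hij⟩ : ∃ i j : κ, i ≠ j := Fintype.exists_ne_of_one_lt_card (by omega) i0 |>.elim
      fun b hb => ⟨b, i0, hb⟩
    apply hne i j hij
    rw [← πC, ← πC, ← map_mul]
    refine h.conv _ 1 fun v => ?_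
    rw [one_smul, ρmul, ← cv, ← cv]
    have hall : ∀ J, W c J ≤ LinearMap.ker ((c i).comp (c j) - LinearMap.id) := by
      intro J v hv
      rw [LinearMap.mem_ker, LinearMap.sub_apply, LinearMap.comp_apply, LinearMap.id_apply, sub_eq_zero]
      by_cases hJ : J ∈ TT
      · rw [hTT, Finset.mem_insert, Finset.mem_insert, Finset.mem_image] at hJ
        rcases hJ with rfl | rfl | ⟨l, -, rfl⟩
        · rw [W_pos hv (by simp), W_pos hv (by simp)]
        · rw [W_neg hv (Finset.mem_univ _), map_neg, W_neg hv (Finset.mem_univ _), neg_neg]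
        · have h0 : finrank F (W c {l}) = 0 := by rw [hd1, hk]
          rw [Submodule.finrank_eq_zero] at h0
          rw [h0] at hv
          rw [(Submodule.mem_bot F).1 hv]; simp only [_root_.map_zero]
      · have h0 : finrank F (W c J) = 0 := by
          have h9 : ∑ K ∈ Finset.univ \ TT, finrank F (W c K) = 0 := by
            have := Finset.sum_sdiff (Finset.subset_univ TT) (f := fun K => finrank F (W c K))
            omega
          exact (Finset.sum_eq_zero_iff.1 h9) J (by simp only [hJ, _root_.Finset.mem_sdiff, _root_.Finset.mem_univ, _root_.not_false_eq_true, _root_.and_self])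
        rw [Submodule.finrank_eq_zero] at h0
        rw [h0] at hv
        rw [(Submodule.mem_bot F).1 hv]; simp only [_root_.map_zero]
    have h10 : (⊤ : Submodule F V) ≤ LinearMap.ker ((c i).comp (c j) - LinearMap.id) := by
      rw [← iSup_W h2 hcc2 hcc]
      exact iSup_le hall
    have h11 := h10 (Submodule.mem_top (x := v))
    rw [LinearMap.mem_ker, LinearMap.sub_apply, LinearMap.comp_apply, LinearMap.id_apply, sub_eq_zero] at h11
    exact h11
  · have hpar1 := par {i0} (by rw [hk]; norm_num)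
    have h0 : finrank F (W c ∅) = 0 := by
      by_contra h0
      have hpar0 := par ∅ h0
      rw [hpar0, Finset.card_empty, Finset.card_singleton, pow_zero, pow_one] at hpar1
      apply h2
      have : (2 : F) = 1 - -1 := by norm_num
      rw [this, ← hpar1, sub_self]
    rw [h0, hk, hm] at htot
    omega

end spabs

end Cfsg.Agent.H210.DoRes
end

-- part: H210/DoRes/SpMain
section
/-!
# `PSp_2n(q)` has no projective representation of degree `2n+2` in odd characteristic (helper210)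
-/

set_option autoImplicit false

namespace Cfsg.Agent.H210.DoRes

open Module
open scoped commutatorElement Matrix

section blocks

variable {K : Type} [Field K] {n : ℕ}

/-- `SL_2` -/
abbrev SLT (K : Type) [Field K] : Type := Matrix.SpecialLinearGroup (Fin 2) K

/-- a matrix from `SL_2` on every hyperbolic plane -/
def MM (f : Fin n → SLT K) : Matrix (Fin n ⊕ Fin n) (Fin n ⊕ Fin n) K :=
  Matrix.fromBlocks (Matrix.diagonal fun i => f i 0 0) (Matrix.diagonal fun i => f i 0 1)
    (Matrix.diagonal fun i => f i 1 0) (Matrix.diagonal fun i => f i 1 1)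

theorem MM_mul (f g : Fin n → SLT K) : MM f * MM g = MM (f * g) := by
  unfold MM
  rw [Matrix.fromBlocks_multiply]
  simp only [Matrix.diagonal_mul_diagonal, Matrix.diagonal_add, Pi.mul_apply, Matrix.SpecialLinearGroup.coe_mul,
    Matrix.mul_apply, Fin.sum_univ_two]

theorem MM_one : MM (1 : Fin n → SLT K) = 1 := by
  unfold MM
  simp only [Matrix.fromBlocks_one, _root_.Pi.one_apply, _root_.Fin.isValue, _root_.Matrix.SpecialLinearGroup.coe_one, _root_.Matrix.one_apply_eq, _root_.Matrix.diagonal_one, _root_.ne_eq, _root_.zero_ne_one, _root_.not_false_eq_true, _root_.Matrix.one_apply_ne, _root_.Matrix.diagonal_zero, _root_.one_ne_zero]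

theorem MM_mem (f : Fin n → SLT K) : MM f ∈ Matrix.symplecticGroup (Fin n) K := by
  rw [SymplecticGroup.mem_iff]
  unfold MM Matrix.J
  rw [Matrix.fromBlocks_transpose, Matrix.fromBlocks_multiply, Matrix.fromBlocks_multiply]
  have hdet : ∀ i, f i 0 0 * f i 1 1 - f i 0 1 * f i 1 0 = 1 := fun i => by
    rw [← Matrix.det_fin_two]; exact (f i).2
  congr 1
  · simp only [Matrix.diagonal_transpose, Matrix.mul_zero, Matrix.mul_one, Matrix.mul_neg, zero_add, add_zero,
      Matrix.neg_mul, Matrix.diagonal_mul_diagonal]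
    ext i j
    by_cases h : i = j
    · subst h; simp only [_root_.Fin.isValue, _root_.Matrix.diagonal_neg, _root_.Matrix.add_apply, _root_.Matrix.diagonal_apply_eq, _root_.Matrix.zero_apply]; ring
    · simp [h]
  · simp only [Matrix.diagonal_transpose, Matrix.mul_zero, Matrix.mul_one, Matrix.mul_neg, zero_add, add_zero,
      Matrix.neg_mul, Matrix.diagonal_mul_diagonal]
    ext i j
    by_cases h : i = j
    · subst h
      simp only [_root_.Fin.isValue, _root_.Matrix.diagonal_neg, _root_.Matrix.add_apply, _root_.Matrix.diagonal_apply_eq, _root_.Matrix.neg_apply, _root_.Matrix.one_apply_eq]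
      linear_combination - hdet i
    · simp [h]
  · simp only [Matrix.diagonal_transpose, Matrix.mul_zero, Matrix.mul_one, Matrix.mul_neg, zero_add, add_zero,
      Matrix.neg_mul, Matrix.diagonal_mul_diagonal]
    ext i j
    by_cases h : i = j
    · subst h
      simp only [_root_.Fin.isValue, _root_.Matrix.diagonal_neg, _root_.Matrix.add_apply, _root_.Matrix.diagonal_apply_eq, _root_.Matrix.one_apply_eq]
      linear_combination hdet i
    · simp [h]
  · simp only [Matrix.diagonal_transpose, Matrix.mul_zero, Matrix.mul_one, Matrix.mul_neg, zero_add, add_zero,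
      Matrix.neg_mul, Matrix.diagonal_mul_diagonal]
    ext i j
    by_cases h : i = j
    · subst h; simp only [_root_.Fin.isValue, _root_.Matrix.diagonal_neg, _root_.Matrix.add_apply, _root_.Matrix.diagonal_apply_eq, _root_.Matrix.zero_apply]; ring
    · simp [h]

/-- the homomorphism -/
def ΦΦ (K : Type) [Field K] (n : ℕ) : (Fin n → SLT K) →* Matrix.symplecticGroup (Fin n) K where
  toFun f := ⟨MM f, MM_mem f⟩
  map_one' := Subtype.ext MM_one
  map_mul' f g := Subtype.ext (MM_mul f g).symm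

/-- permutation matrices -/
def PM (K : Type) [Field K] {n : ℕ} (σ : Equiv.Perm (Fin n)) : Matrix (Fin n ⊕ Fin n) (Fin n ⊕ Fin n) K :=
  ((Equiv.sumCongr σ⁻¹ σ⁻¹).toPEquiv).toMatrix

theorem PM_mem (σ : Equiv.Perm (Fin n)) : PM K σ ∈ Matrix.symplecticGroup (Fin n) K := by
  rw [SymplecticGroup.mem_iff]
  unfold PM
  rw [PEquiv.toMatrix_toPEquiv_mul, ← PEquiv.toMatrix_symm, ← Equiv.toPEquiv_symm, PEquiv.mul_toMatrix_toPEquiv]
  ext i j
  rcases i with i | i <;> rcases j with j | j <;> simp [Matrix.J, Matrix.one_apply]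

/-- as an element of the symplectic group -/
def PG (K : Type) [Field K] {n : ℕ} (σ : Equiv.Perm (Fin n)) : Matrix.symplecticGroup (Fin n) K := ⟨PM K σ, PM_mem σ⟩

theorem PG_mul (σ : Equiv.Perm (Fin n)) (f : Fin n → SLT K) :
    PG K σ * ΦΦ K n f = ΦΦ K n (fun i => f (σ⁻¹ i)) * PG K σ := by
  apply Subtype.ext
  show PM K σ * MM f = MM (fun i => f (σ⁻¹ i)) * PM K σ
  unfold PM
  rw [PEquiv.toMatrix_toPEquiv_mul, PEquiv.mul_toMatrix_toPEquiv]
  ext i j
  have e : σ⁻¹.symm = σ := rfl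
  rcases i with i | i <;> rcases j with j | j <;>
    simp only [MM, Matrix.diagonal_apply, Equiv.symm_apply_eq, e, _root_.Fin.isValue, _root_.Matrix.submatrix_apply, _root_.Equiv.sumCongr_apply, _root_.Equiv.Perm.coe_inv, _root_.Sum.map_inl, _root_.id_eq, _root_.Matrix.fromBlocks_apply₁₁, _root_.Equiv.sumCongr_symm, _root_.Matrix.fromBlocks_apply₁₂, _root_.Sum.map_inr, _root_.Matrix.fromBlocks_apply₂₁, _root_.Matrix.fromBlocks_apply₂₂]

theorem PG_conj (σ : Equiv.Perm (Fin n)) (i : Fin n) (A : SLT K) :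
    PG K σ * ΦΦ K n (Pi.mulSingle i A) * (PG K σ)⁻¹ = ΦΦ K n (Pi.mulSingle (σ i) A) := by
  rw [PG_mul, mul_inv_cancel_right]
  congr 1
  funext k
  rw [Pi.mulSingle_apply, Pi.mulSingle_apply]
  by_cases h : k = σ i
  · rw [if_pos h, if_pos (by rw [h]; simp)]
  · rw [if_neg h, if_neg (fun h' => h (by rw [← h']; simp))]

theorem list_single {M : Type*} [Monoid M] (L : List (Fin n)) (hL : L.Nodup) (x : M) (k : Fin n) :
    (L.map fun i => (Pi.mulSingle i x : Fin n → M)).prod k = if k ∈ L then x else 1 := by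
  induction L with
  | nil => simp
  | cons i L ih =>
    rw [List.nodup_cons] at hL
    rw [List.map_cons, List.prod_cons, Pi.mul_apply, ih hL.2, Pi.mulSingle_apply]
    by_cases h : k = i
    · subst h
      rw [if_pos rfl, if_neg hL.1, if_pos (by simp), mul_one]
    · rw [if_neg h, one_mul]
      by_cases h' : k ∈ L
      · rw [if_pos h', if_pos (by simp [h'])]
      · rw [if_neg h', if_neg (by simp [h', h])]

theorem quat_group {T : Type*} [Group T] {i j t m : T} (hii : i * i = m) (hjj : j * j = m)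
    (hij : i * j = m * (j * i)) (hm : ∀ x, Commute m x) (hmm : m * m = 1) (hti : t * i = j * t)
    (htj : t * j = i * j * t) :
    ∃ a b : T, ⁅j, t⁆ = a ∧ ⁅i, t⁆ = b ∧ ⁅a, b⁆ = a * a ∧ b * b = a * a ∧ a * a = m := by
  have mi : m⁻¹ = m := inv_eq_of_mul_eq_one_left hmm
  have ea : ⁅j, t⁆ = i⁻¹ := by
    have : t * j * t⁻¹ = i * j := by rw [htj, mul_inv_cancel_right]
    have e2 : t * j⁻¹ * t⁻¹ = (i * j)⁻¹ := by rw [← this]; group
    rw [commutatorElement_def]
    calc j * t * j⁻¹ * t⁻¹ = j * (t * j⁻¹ * t⁻¹) := by group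
      _ = i⁻¹ := by rw [e2]; group
  have eb : ⁅i, t⁆ = i * j⁻¹ := by
    have : t * i * t⁻¹ = j := by rw [hti, mul_inv_cancel_right]
    have e2 : t * i⁻¹ * t⁻¹ = j⁻¹ := by rw [← this]; group
    rw [commutatorElement_def]
    calc i * t * i⁻¹ * t⁻¹ = i * (t * i⁻¹ * t⁻¹) := by group
      _ = i * j⁻¹ := by rw [e2]
  have e1 : i⁻¹ * i⁻¹ = m := by rw [← mul_inv_rev, hii, mi]
  have e3 : j⁻¹ * i = m * (i * j⁻¹) := by
    calc j⁻¹ * i = j⁻¹ * (i * j) * j⁻¹ := by group
      _ = j⁻¹ * (m * (j * i)) * j⁻¹ := by rw [hij]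
      _ = m * (i * j⁻¹) := by rw [← mul_assoc j⁻¹ m, ← (hm j⁻¹).eq]; group
  refine ⟨i⁻¹, i * j⁻¹, ea, eb, ?_, ?_, e1⟩
  · rw [e1, commutatorElement_def]
    calc i⁻¹ * (i * j⁻¹) * i⁻¹⁻¹ * (i * j⁻¹)⁻¹ = (j⁻¹ * i) * (j * i⁻¹) := by group
      _ = m := by rw [e3]; group
  · rw [e1]
    calc i * j⁻¹ * (i * j⁻¹) = i * (j⁻¹ * i) * j⁻¹ := by group
      _ = i * (m * (i * j⁻¹)) * j⁻¹ := by rw [e3]
      _ = m * (i * i) * (j⁻¹ * j⁻¹) := by rw [← mul_assoc i m, ← (hm i).eq]; group
      _ = m := by rw [hii, hmm, one_mul, ← mul_inv_rev, hjj, mi]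

theorem exists_quat [Fintype K] (h2 : (2 : K) ≠ 0) : ∃ a b x y x' y' : SLT K, ⁅x, y⁆ = a ∧ ⁅x', y'⁆ = b ∧ ⁅a, b⁆ = a * a ∧
    b * b = a * a ∧ ((a * a : SLT K) : Matrix (Fin 2) (Fin 2) K) = -1 := by
  obtain ⟨u, v, huv⟩ := exists_two_sq h2 (-1 : K)
  obtain ⟨i, hi⟩ : ∃ i : SLT K, (i : Matrix (Fin 2) (Fin 2) K) = !![0, 1; -1, 0] :=
    ⟨⟨!![0, 1; -1, 0], by rw [Matrix.det_fin_two]; simp⟩, rfl⟩
  obtain ⟨j, hj⟩ : ∃ j : SLT K, (j : Matrix (Fin 2) (Fin 2) K) = !![u, v; v, -u] :=
    ⟨⟨!![u, v; v, -u], by rw [Matrix.det_fin_two]; simp; linear_combination -huv⟩, rfl⟩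
  obtain ⟨t, ht⟩ : ∃ t : SLT K, (t : Matrix (Fin 2) (Fin 2) K) =
      !![(1 + u + v) / 2, (1 + v - u) / 2; (-1 + v - u) / 2, (1 - u - v) / 2] :=
    ⟨⟨!![(1 + u + v) / 2, (1 + v - u) / 2; (-1 + v - u) / 2, (1 - u - v) / 2], by
      rw [Matrix.det_fin_two]; simp only [_root_.Fin.isValue, _root_.Matrix.of_apply, _root_.Matrix.cons_val', _root_.Matrix.cons_val_zero, _root_.Matrix.cons_val_fin_one, _root_.Matrix.cons_val_one]; field_simp; linear_combination -2 * huv⟩, rfl⟩
  have h1m : (-1 : Matrix (Fin 2) (Fin 2) K) = !![-1, 0; 0, -1] := by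
    ext a b; (revert a b; simp only [_root_.Fin.forall_fin_succ, _root_.Matrix.neg_apply, _root_.Matrix.of_apply, _root_.Matrix.cons_val', _root_.Matrix.cons_val_fin_one, Fin.isValue, _root_.Matrix.cons_val_zero, _root_.Matrix.cons_val_succ, _root_.IsEmpty.forall_iff, _root_.and_true, _root_.Matrix.one_apply_eq, Nat.reduceAdd, _root_.Fin.succ_zero_eq_one, _root_.ne_eq, _root_.zero_ne_one, _root_.not_false_eq_true, _root_.Matrix.one_apply_ne, _root_.neg_zero, _root_.and_self, _root_.Fin.succ_ne_zero, _root_.neg_inj, _root_.true_and])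
  have hm1 : ((i * i : SLT K) : Matrix (Fin 2) (Fin 2) K) = -1 := by
    rw [Matrix.SpecialLinearGroup.coe_mul, hi, Matrix.mul_fin_two, h1m]
    simp
  have hjj : j * j = i * i := by
    apply Subtype.ext
    rw [hm1, Matrix.SpecialLinearGroup.coe_mul, hj, Matrix.mul_fin_two, h1m]
    have e1 : u * u + v * v = -1 := by linear_combination huv
    have e2 : u * v + v * -u = 0 := by ring
    have e3 : v * u + -u * v = 0 := by ring
    have e4 : v * v + -u * -u = -1 := by linear_combination huv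
    rw [e1, e2, e3, e4]
  have hij : i * j = (i * i) * (j * i) := by
    apply Subtype.ext
    rw [Matrix.SpecialLinearGroup.coe_mul (i * i), hm1, Matrix.SpecialLinearGroup.coe_mul,
      Matrix.SpecialLinearGroup.coe_mul, hi, hj, Matrix.mul_fin_two, Matrix.mul_fin_two, h1m, Matrix.mul_fin_two]
    simp
  have hti : t * i = j * t := by
    apply Subtype.ext
    rw [Matrix.SpecialLinearGroup.coe_mul, Matrix.SpecialLinearGroup.coe_mul, hi, hj, ht, Matrix.mul_fin_two,
      Matrix.mul_fin_two]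
    ext a b
    (revert a b; simp only [_root_.Fin.forall_fin_succ, _root_.MulZeroClass.mul_zero, _root_.mul_neg, _root_.mul_one, _root_.zero_add, _root_.add_zero, _root_.Matrix.of_apply, _root_.Matrix.cons_val', _root_.Matrix.cons_val_fin_one, _root_.neg_mul, Fin.isValue, _root_.Matrix.cons_val_zero, _root_.Matrix.cons_val_succ, _root_.forall_const]) <;> (repeat' with_reducible apply And.intro) <;> field_simp <;>
      first
      | linear_combination (-1 : K) * huv
      | linear_combination (1 : K) * huv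
  have htj : t * j = i * j * t := by
    apply Subtype.ext
    rw [Matrix.SpecialLinearGroup.coe_mul, Matrix.SpecialLinearGroup.coe_mul, Matrix.SpecialLinearGroup.coe_mul, hi, hj,
      ht, Matrix.mul_fin_two, Matrix.mul_fin_two, Matrix.mul_fin_two]
    ext a b
    (revert a b; simp only [_root_.Fin.forall_fin_succ, _root_.mul_neg, _root_.Matrix.of_apply, _root_.Matrix.cons_val', _root_.Matrix.cons_val_fin_one, _root_.MulZeroClass.zero_mul, _root_.one_mul, _root_.zero_add, _root_.neg_mul, _root_.add_zero, _root_.neg_zero, Fin.isValue, _root_.Matrix.cons_val_zero, _root_.Matrix.cons_val_succ, _root_.forall_const]) <;> (repeat' with_reducible apply And.intro) <;> field_simp <;>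
      first
      | linear_combination (-1 : K) * huv
      | linear_combination (1 : K) * huv
      | linear_combination (0 : K) * huv
  have hcm : ∀ x : SLT K, Commute (i * i) x := fun x => by
    apply Subtype.ext
    rw [Matrix.SpecialLinearGroup.coe_mul (i * i), Matrix.SpecialLinearGroup.coe_mul x, hm1, neg_one_mul, mul_neg_one]
  have hmm : (i * i) * (i * i) = (1 : SLT K) := by
    apply Subtype.ext
    rw [Matrix.SpecialLinearGroup.coe_mul (i * i), hm1, neg_mul_neg, one_mul]; rfl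
  obtain ⟨a, b, h1, h3, h4, h5, h6⟩ := quat_group rfl hjj hij hcm hmm hti htj
  exact ⟨a, b, j, t, i, t, h1, h3, h4, h5, by rw [h6, hm1]⟩

end blocks

section

variable {F V G S : Type*} [Field F] [AddCommGroup V] [Module F V]
  [Group G] [Group S] {ρ : G →* (V ≃ₗ[F] V)} {π : G →* S}

theorem sp_case [FiniteDimensional F V] (h : PR ρ π) (h2 : (2 : F) ≠ 0) {n : ℕ} (hn : 4 ≤ n)
    (hdim : finrank F V = 2 * n + 2)
    {K : Type} [Field K] [Fintype K] (hK : (2 : K) ≠ 0) (e : S ≃* Cfsg.PSp n K) : False := by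
  classical
  obtain ⟨a, b, x, y, x', y', ha, hb, hab, hb2, hm⟩ := exists_quat hK
  let q : Matrix.symplecticGroup (Fin n) K →* S :=
    e.symm.toMonoidHom.comp (QuotientGroup.mk' (Subgroup.center (Matrix.symplecticGroup (Fin n) K)))
  have q_one : ∀ x, q x = 1 → x ∈ Subgroup.center (Matrix.symplecticGroup (Fin n) K) := fun x hx => by
    have : (QuotientGroup.mk' (Subgroup.center (Matrix.symplecticGroup (Fin n) K))) x = 1 :=
      e.symm.injective (hx.trans (map_one e.symm).symm)
    exact (QuotientGroup.eq_one_iff x).1 this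
  have q_one' : ∀ x ∈ Subgroup.center (Matrix.symplecticGroup (Fin n) K), q x = 1 := fun x hx => by
    have : (QuotientGroup.mk' (Subgroup.center (Matrix.symplecticGroup (Fin n) K))) x = 1 :=
      (QuotientGroup.eq_one_iff x).2 hx
    show e.symm _ = 1
    rw [this, map_one]
  let φ : Fin n → SLT K →* S := fun i => (q.comp (ΦΦ K n)).comp (MonoidHom.mulSingle (fun _ : Fin n => SLT K) i)
  have φa : ∀ i A, φ i A = q (ΦΦ K n (Pi.mulSingle i A)) := fun _ _ => rfl
  refine sp_abs (κ := Fin n) h h2 (by rwa [Fintype.card_fin]) (by rw [Fintype.card_fin]; exact hdim) φ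
    (fun i j hij A B => ?_) (fun σ _ => ⟨q (PG K σ), fun i A => ?_⟩) ha hb hab hb2 ?_ (fun i k hik h1 => ?_)
  · exact (Pi.mulSingle_commute (f := fun _ : Fin n => SLT K) hij A B).map (q.comp (ΦΦ K n))
  · rw [φa, φa, ← map_inv, ← map_mul, ← map_mul, PG_conj]
  · have e1 : ((Finset.univ : Finset (Fin n)).toList.map fun i => φ i (a * a)) =
        ((Finset.univ : Finset (Fin n)).toList.map fun i => (Pi.mulSingle i (a * a) : Fin n → SLT K)).map
          (q.comp (ΦΦ K n)) := by
      rw [List.map_map]; rfl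
    rw [e1, ← map_list_prod]
    have e2 : ((Finset.univ : Finset (Fin n)).toList.map fun i => (Pi.mulSingle i (a * a) : Fin n → SLT K)).prod =
        fun _ => a * a := by
      funext k
      rw [list_single _ (Finset.nodup_toList _), if_pos (by simp only [_root_.Finset.mem_toList, _root_.Finset.mem_univ])]
    rw [e2]
    apply q_one'
    rw [Subgroup.mem_center_iff]
    intro g
    have e3 : ((ΦΦ K n fun _ => a * a : Matrix.symplecticGroup (Fin n) K) : Matrix (Fin n ⊕ Fin n) (Fin n ⊕ Fin n) K) = -1 := by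
      show MM (fun _ => a * a) = -1
      unfold MM
      simp only [hm]
      ext i j
      rcases i with i | i <;> rcases j with j | j <;> simp [Matrix.diagonal_apply, Matrix.one_apply] <;> split_ifs <;> simp
    apply Subtype.ext
    show (g : Matrix (Fin n ⊕ Fin n) (Fin n ⊕ Fin n) K) * _ = _ * (g : Matrix (Fin n ⊕ Fin n) (Fin n ⊕ Fin n) K)
    rw [e3, mul_neg_one, neg_one_mul]
  · rw [φa, φa, ← map_mul, ← map_mul] at h1
    have hc := q_one _ h1
    obtain ⟨l, hl⟩ : ∃ l : Fin n, l ∉ ({i, k} : Finset (Fin n)) := by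
      by_contra hcon
      push Not at hcon
      have h3 : (Finset.univ : Finset (Fin n)) ⊆ {i, k} := fun l _ => hcon l
      have h4 := Finset.card_le_card h3
      rw [Finset.card_univ, Fintype.card_fin, Finset.card_pair hik] at h4
      omega
    rw [Finset.mem_insert, Finset.mem_singleton, not_or] at hl
    have h3 := PG_mul (K := K) (Equiv.swap i l) (Pi.mulSingle i (a * a) * Pi.mulSingle k (a * a))
    rw [Subgroup.mem_center_iff.1 hc] at h3
    have h4 := mul_right_cancel h3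
    have h5 := congrFun (congrFun (congrArg (fun M : Matrix.symplecticGroup (Fin n) K =>
      (M : Matrix (Fin n ⊕ Fin n) (Fin n ⊕ Fin n) K)) h4) (Sum.inl i)) (Sum.inl i)
    have e3 : ((Pi.mulSingle i (a * a) * Pi.mulSingle k (a * a) : Fin n → SLT K) i) = a * a := by
      rw [Pi.mul_apply, Pi.mulSingle_eq_same, Pi.mulSingle_eq_of_ne hik, mul_one]
    have e4 : ((Pi.mulSingle i (a * a) * Pi.mulSingle k (a * a) : Fin n → SLT K) ((Equiv.swap i l)⁻¹ i)) = 1 := by
      rw [Equiv.swap_inv, Equiv.swap_apply_left, Pi.mul_apply, Pi.mulSingle_eq_of_ne hl.1, Pi.mulSingle_eq_of_ne hl.2, mul_one]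
    have e5 : ∀ f : Fin n → SLT K, ((ΦΦ K n f : Matrix.symplecticGroup (Fin n) K) :
        Matrix (Fin n ⊕ Fin n) (Fin n ⊕ Fin n) K) (Sum.inl i) (Sum.inl i) = f i 0 0 := by
      intro f
      show MM f _ _ = _
      simp [MM]
    simp only [e5] at h5
    rw [e3, e4, hm] at h5
    apply hK
    have : (2 : K) = 1 - -1 := by norm_num
    simp at h5
    rw [this, h5]; ring

end

end Cfsg.Agent.H210.DoRes
end

-- part: H210/DoRes/OmAbs
section
/-!
# No irreducible projective representation of degree `n₀ + 1` for a group like `Ω_n₀`, abstract part (helper210)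
-/

set_option autoImplicit false

namespace Cfsg.Agent.H210.DoRes

open Module
open scoped commutatorElement

section omabs

variable {F V G S κ : Type*} [Field F] [AddCommGroup V] [Module F V]
  [Group G] [Group S] [Fintype κ] [DecidableEq κ] {ρ : G →* (V ≃ₗ[F] V)} {π : G →* S}

/-- a lift of `p σ`, `σ i = i`, commutes with the lifts of `s i` -/
theorem om_fix (h : PR ρ π) (h6 : 6 ≤ Fintype.card κ) (s : κ → S) (p : alternatingGroup κ →* S)
    (hp : ∀ σ i, p σ * s i * (p σ)⁻¹ = s ((σ : Equiv.Perm κ) i)) {i : κ} {σ : alternatingGroup κ}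
    (hσ : (σ : Equiv.Perm κ) i = i) {g t : G} (hg : π g = p σ) (ht : π t = s i) : Commute g t := by
  classical
  -- the embedding of the alternating group of the complement
  let ψ : alternatingGroup {j // j ≠ i} →* alternatingGroup κ :=
    ((Equiv.Perm.ofSubtype : Equiv.Perm {j // j ≠ i} →* Equiv.Perm κ).comp (alternatingGroup {j // j ≠ i}).subtype).codRestrict
      (alternatingGroup κ) (fun τ => by
        rw [Equiv.Perm.mem_alternatingGroup]
        show Equiv.Perm.sign (Equiv.Perm.ofSubtype (τ : Equiv.Perm {j // j ≠ i})) = 1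
        rw [Equiv.Perm.sign_ofSubtype]
        exact τ.2)
  have hψ : ∀ τ, ((ψ τ : alternatingGroup κ) : Equiv.Perm κ) i = i := fun τ => by
    show Equiv.Perm.ofSubtype (τ : Equiv.Perm {j // j ≠ i}) i = i
    exact Equiv.Perm.ofSubtype_apply_of_not_mem _ (by simp)
  have hcs : ∀ τ, Commute (p (ψ τ)) (s i) := fun τ => by
    have := hp (ψ τ) i
    rw [hψ] at this
    exact mul_inv_eq_iff_eq_mul.1 this
  let K : Subgroup (alternatingGroup {j // j ≠ i}) :=
    { carrier := {τ | ∀ g, π g = p (ψ τ) → Commute g t}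
      mul_mem' := by
        intro α β hα hβ g hg
        obtain ⟨g1, hg1⟩ := h.surj (p (ψ α))
        have e : g = g1 * (g1⁻¹ * g) := by group
        rw [e]
        refine (hα g1 hg1).mul_left (hβ _ ?_)
        rw [map_mul, map_inv, hg1, hg, map_mul, map_mul, inv_mul_cancel_left]
      one_mem' := by
        intro g hg
        exact h.central (by rw [hg, map_one, map_one]) t
      inv_mem' := by
        intro α hα g hg
        have := hα g⁻¹ (by rw [map_inv, hg, map_inv, map_inv, inv_inv])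
        exact Commute.inv_left_iff.1 this }
  have hK : commutator (alternatingGroup {j // j ≠ i}) ≤ K := by
    rw [commutator_def, Subgroup.commutator_le]
    intro α _ β _ g hg
    have e : π g = π (h.cm (p (ψ α)) (p (ψ β))) := by rw [hg, h.π_cm, ← map_commutatorElement, ← map_commutatorElement]
    obtain ⟨z, hz, rfl⟩ := h.exists_mul e
    refine (h.central hz t).mul_left (h.commute_cm ?_ ?_).symm
    · rw [ht]; exact (hcs α).symm
    · rw [ht]; exact (hcs β).symm
  rw [commutator_alternatingGroup_eq_top (by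
    rw [Nat.card_eq_fintype_card, Fintype.card_subtype_compl, Fintype.card_subtype_eq]; omega)] at hK
  -- `σ` comes from the complement
  have h1 : ∀ x, (σ : Equiv.Perm κ) x ≠ i ↔ x ≠ i := fun x => by
    rw [not_iff_not]
    constructor
    · intro hx
      exact (σ : Equiv.Perm κ).injective (hx.trans hσ.symm)
    · rintro rfl; exact hσ
  have h3 : Equiv.Perm.ofSubtype ((σ : Equiv.Perm κ).subtypePerm (p := fun j => j ≠ i) h1) = (σ : Equiv.Perm κ) :=
    Equiv.Perm.ofSubtype_subtypePerm (p := fun j => j ≠ i) h1 (fun x hx hxi => hx (by rw [hxi, hσ]))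
  have h4 : (σ : Equiv.Perm κ).subtypePerm (p := fun j => j ≠ i) h1 ∈ alternatingGroup {j // j ≠ i} := by
    rw [Equiv.Perm.mem_alternatingGroup, ← Equiv.Perm.sign_ofSubtype, h3]
    exact σ.2
  have h5 : ψ ⟨_, h4⟩ = σ := Subtype.ext h3
  exact hK (Subgroup.mem_top ⟨_, h4⟩) g (by rw [h5]; exact hg)

/-- an equivariant choice of lifts -/
theorem om_lifts (h : PR ρ π) (h6 : 6 ≤ Fintype.card κ) (s : κ → S) (p : alternatingGroup κ →* S)
    (hp : ∀ σ i, p σ * s i * (p σ)⁻¹ = s ((σ : Equiv.Perm κ) i)) :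
    ∃ t : κ → G, (∀ i, π (t i) = s i) ∧ ∀ (σ : alternatingGroup κ) g, π g = p σ → ∀ i,
      g * t i * g⁻¹ = t ((σ : Equiv.Perm κ) i) := by
  classical
  have : Nonempty κ := by rw [← Fintype.card_pos_iff]; omega
  obtain ⟨i0⟩ := this
  obtain ⟨t0, ht0⟩ := h.surj (s i0)
  have hσ : ∀ i, ∃ σ : alternatingGroup κ, (σ : Equiv.Perm κ) i0 = i := by
    intro i
    obtain ⟨σ, hσ, e⟩ := exists_alt_map (κ := κ) (by omega) (J := {i0}) (J' := {i}) (by simp)
    refine ⟨⟨σ, hσ⟩, ?_⟩
    have := congrArg (fun K : Finset κ => i ∈ K) e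
    simp at this
    exact this.symm
  choose σ hσ using hσ
  choose g hg using fun i => h.surj (p (σ i))
  refine ⟨fun i => g i * t0 * (g i)⁻¹, fun i => ?_, fun τ k hk i => ?_⟩
  · rw [map_mul, map_mul, map_inv, hg, ht0, hp, hσ]
  · dsimp only
    have hc : Commute ((g ((τ : Equiv.Perm κ) i))⁻¹ * k * g i) t0 := by
      refine om_fix h h6 s p hp (i := i0) (σ := (σ ((τ : Equiv.Perm κ) i))⁻¹ * τ * σ i) ?_ ?_ ht0
      · show ((σ ((τ : Equiv.Perm κ) i) : Equiv.Perm κ))⁻¹ ((τ : Equiv.Perm κ) ((σ i : Equiv.Perm κ) i0)) = i0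
        rw [hσ, Equiv.Perm.inv_eq_iff_eq, hσ]
      · rw [map_mul, map_mul, map_inv, hg, hg, hk, map_mul, map_mul, map_inv]
    have e := hc.eq
    have e2 : k * (g i * t0 * (g i)⁻¹) * k⁻¹ =
        g ((τ : Equiv.Perm κ) i) * (((g ((τ : Equiv.Perm κ) i))⁻¹ * k * g i) * t0) * ((g i)⁻¹ * k⁻¹) := by group
    rw [e2, e]
    group

omit [DecidableEq κ] in
/-- pairwise anticommuting lifts: `2^m ∣ dim V` -/
theorem om_cliff [FiniteDimensional F V] (h : PR ρ π) (h2 : (2 : F) ≠ 0) {m : ℕ} {t : κ → G} {z l : G}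
    (hz : π z = 1) (hz2 : z * z = 1) (hzn : ∀ v, ρ z v = -v) (hl : π l = 1) (htt : ∀ i, t i * t i = l)
    (hac : ∀ i j, i ≠ j → t i * t j = z * (t j * t i)) (hm : 2 * (m + 1) ≤ Fintype.card κ) (hV : 0 < finrank F V) :
    2 ^ m ∣ finrank F V := by
  classical
  obtain ⟨e⟩ : Nonempty (Fin (m + 1) × Fin 2 ↪ κ) := by
    rw [Function.Embedding.nonempty_iff_card_le]
    simp only [_root_.Fintype.card_prod, _root_.Fintype.card_fin]; omega
  have cz := h.central hz
  have cl := h.central hl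
  obtain ⟨lam, hlam⟩ := h.scal l hl
  have : Nontrivial V := Module.nontrivial_of_finrank_pos hV
  have hlam0 : lam ≠ 0 := by
    rintro rfl
    obtain ⟨v, hv⟩ := exists_ne (0 : V)
    exact hv ((ρ l).map_eq_zero_iff.1 (by rw [hlam, zero_smul]))
  have ρmul : ∀ g k v, ρ (g * k) v = ρ g (ρ k v) := fun g k v => by rw [map_mul, LinearEquiv.mul_apply]
  set f : Fin (m + 1) → G := fun k => t (e (k, 0)) * t (e (k, 1)) with hf
  have ene : ∀ {a b : Fin (m + 1) × Fin 2}, a ≠ b → e a ≠ e b := fun hab h' => hab (e.injective h')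
  -- `t b` commutes with `f k` if `b` is not in the pair `k`
  have tf : ∀ b k, b ≠ e (k, 0) → b ≠ e (k, 1) → Commute (t b) (f k) := by
    intro b k h0 h1
    show t b * (t (e (k, 0)) * t (e (k, 1))) = t (e (k, 0)) * t (e (k, 1)) * t b
    rw [← mul_assoc, hac _ _ h0, mul_assoc, mul_assoc, hac _ _ h1, ← mul_assoc (t (e (k, 0))), ← (cz _).eq,
      mul_assoc, ← mul_assoc z z, hz2, one_mul, mul_assoc]
  have ff : ∀ k k', k ≠ k' → Commute (f k) (f k') := fun k k' hk =>
    (tf _ _ (ene (by simp [hk])) (ene (by simp [hk]))).mul_left (tf _ _ (ene (by simp [hk])) (ene (by simp [hk])))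
  have ff' : ∀ k k', Commute (f k) (f k') := fun k k' => by
    by_cases hk : k = k'
    · rw [hk]
    · exact ff k k' hk
  have fsq : ∀ k, f k * f k = z * (l * l) := by
    intro k
    show t (e (k, 0)) * t (e (k, 1)) * (t (e (k, 0)) * t (e (k, 1))) = _
    have h01 : e (k, (1 : Fin 2)) ≠ e (k, 0) := ene (by simp)
    calc t (e (k, 0)) * t (e (k, 1)) * (t (e (k, 0)) * t (e (k, 1)))
        = t (e (k, 0)) * (t (e (k, 1)) * t (e (k, 0))) * t (e (k, 1)) := by simp only [mul_assoc]
      _ = t (e (k, 0)) * (z * (t (e (k, 0)) * t (e (k, 1)))) * t (e (k, 1)) := by rw [hac _ _ h01]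
      _ = z * ((t (e (k, 0)) * t (e (k, 0))) * (t (e (k, 1)) * t (e (k, 1)))) := by
          rw [← mul_assoc (t (e (k, 0))) z, ← (cz _).eq]; simp only [mul_assoc]
      _ = z * (l * l) := by rw [htt, htt]
  -- the involutions
  have d4 : ∀ k : Fin m, (f 0 * f k.succ) * (f 0 * f k.succ) = (l * l) * (l * l) := by
    intro k
    calc (f 0 * f k.succ) * (f 0 * f k.succ) = f 0 * (f k.succ * f 0) * f k.succ := by simp only [mul_assoc]
      _ = (f 0 * f 0) * (f k.succ * f k.succ) := by rw [(ff' k.succ 0).eq]; simp only [mul_assoc]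
      _ = z * (l * l) * (z * (l * l)) := by rw [fsq, fsq]
      _ = (z * z) * ((l * l) * (l * l)) := by
          rw [mul_assoc z, ← mul_assoc (l * l) z, ← (cz (l * l)).eq]; simp only [mul_assoc]
      _ = (l * l) * (l * l) := by rw [hz2, one_mul]
  set c : Fin m → V →ₗ[F] V := fun k => (lam⁻¹ * lam⁻¹) • (ρ (f 0 * f k.succ) : V →ₗ[F] V) with hc
  have cv : ∀ k v, c k v = (lam⁻¹ * lam⁻¹) • ρ (f 0 * f k.succ) v := fun k v => rfl
  have hdvd := two_pow_dvd (c := c) h2 ?_ ?_ (fun k => ρ (t (e (k.succ, 1)))) ?_ ?_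
  · rwa [Fintype.card_fin] at hdvd
  · intro k v
    rw [cv, cv, map_smul, ← ρmul, d4, ρmul, ρmul, ρmul, hlam, hlam, hlam, hlam]
    simp only [smul_smul]
    have : lam⁻¹ * lam⁻¹ * (lam⁻¹ * lam⁻¹) * (lam * (lam * (lam * lam))) = 1 := by field_simp
    rw [show lam⁻¹ * lam⁻¹ * (lam⁻¹ * lam⁻¹ * (lam * (lam * (lam * lam)))) =
      lam⁻¹ * lam⁻¹ * (lam⁻¹ * lam⁻¹) * (lam * (lam * (lam * lam))) by ring, this, one_smul]
  · intro k k' v
    have hcom : Commute (f 0 * f k.succ) (f 0 * f k'.succ) :=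
      ((ff' _ _).mul_right (ff' _ _)).mul_left ((ff' _ _).mul_right (ff' _ _))
    rw [cv, cv, cv, cv, map_smul, map_smul, ← ρmul, ← ρmul, hcom.eq]
  · intro k k' hk v
    have hcom : Commute (t (e (k'.succ, 1))) (f 0 * f k.succ) := by
      refine (tf _ _ (ene ?_) (ene ?_)).mul_right (tf _ _ (ene ?_) (ene ?_))
      · simp
      · simp
      · simp
      · simp only [ne_eq, Prod.mk.injEq, Fin.succ_inj, and_true]
        exact fun h' => hk h'.symm
    rw [cv, cv, map_smul, ← ρmul, ← ρmul, hcom.eq]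
  · intro k v
    have h1 : Commute (t (e (k.succ, 1))) (f 0) := by
      refine tf _ _ (ene ?_) (ene ?_)
      · simp
      · simp
    have h3 : t (e (k.succ, 1)) * f k.succ = z * (f k.succ * t (e (k.succ, 1))) := by
      show t (e (k.succ, 1)) * (t (e (k.succ, 0)) * t (e (k.succ, 1))) =
        z * (t (e (k.succ, 0)) * t (e (k.succ, 1)) * t (e (k.succ, 1)))
      rw [← mul_assoc, hac _ _ (ene (by simp))]
      simp only [mul_assoc]
    have h4 : t (e (k.succ, 1)) * (f 0 * f k.succ) = z * ((f 0 * f k.succ) * t (e (k.succ, 1))) := by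
      rw [← mul_assoc, h1.eq, mul_assoc, h3, ← mul_assoc (f 0) z, ← (cz (f 0)).eq]
      simp only [mul_assoc]
    rw [cv, cv, map_smul, ← ρmul, h4, ρmul, hzn, ρmul, smul_neg]

theorem two_pow_not_dvd {m : ℕ} (hm : 3 ≤ m) : ¬ 2 ^ m ∣ 2 * m + 4 := by
  intro h
  rcases Nat.eq_or_lt_of_le hm with rfl | h4
  · revert h; decide
  · have h1 : ∀ m : ℕ, 4 ≤ m → 2 * m + 4 < 2 ^ m := by
      intro m hm
      induction m, hm using Nat.le_induction with
      | base => norm_num
      | succ k hk ih => rw [pow_succ]; omega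
    exact absurd (Nat.le_of_dvd (by omega) h) (not_le.2 (h1 m (by omega)))

theorem om_abs [FiniteDimensional F V] (h : PR ρ π) (h2 : (2 : F) ≠ 0) {n : ℕ} (hn : 4 ≤ n)
    (hκ : Fintype.card κ = 2 * n + 1) (hdim : finrank F V = 2 * n + 2)
    (hirr : ∀ U : Submodule F V, (∀ g, ∀ v ∈ U, ρ g v ∈ U) → U = ⊥ ∨ U = ⊤)
    (s : κ → S) (hs2 : ∀ i, s i * s i = 1) (hss : ∀ i j, Commute (s i) (s j))
    (hprod : ((Finset.univ : Finset κ).toList.map s).prod = 1) (hs1 : ∀ i, s i ≠ 1)
    (p : alternatingGroup κ →* S) (hp : ∀ σ i, p σ * s i * (p σ)⁻¹ = s ((σ : Equiv.Perm κ) i))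
    (hgen : ∀ H : Subgroup S, (∀ i j, i ≠ j → ∀ x, Commute x (s i) → Commute x (s j) → x ∈ H) → H = ⊤) : False := by
  classical
  obtain ⟨t, πt, ht⟩ := om_lifts h (by omega) s p hp
  have hV : 0 < finrank F V := by omega
  have : Nontrivial V := Module.nontrivial_of_finrank_pos hV
  obtain ⟨v0, hv0⟩ := exists_ne (0 : V)
  have ρmul : ∀ g k v, ρ (g * k) v = ρ g (ρ k v) := fun g k v => by rw [map_mul, LinearEquiv.mul_apply]
  have h3 : 3 ≤ Fintype.card κ := by omega
  have : Nonempty κ := by rw [← Fintype.card_pos_iff]; omega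
  obtain ⟨i0⟩ := this
  -- the common square
  obtain ⟨l, hl, hll⟩ : ∃ l, π l = 1 ∧ ∀ i, t i * t i = l := by
    refine ⟨t i0 * t i0, by rw [map_mul, πt, hs2], fun i => ?_⟩
    obtain ⟨σ, hσ, e⟩ := exists_alt_map (κ := κ) h3 (J := {i0}) (J' := {i}) (by simp)
    have e' : σ i0 = i := by
      have := congrArg (fun K : Finset κ => i ∈ K) e
      simp at this
      exact this.symm
    obtain ⟨g, hg⟩ := h.surj (p ⟨σ, hσ⟩)
    have e1 := ht ⟨σ, hσ⟩ g hg i0
    simp only [e'] at e1
    have cl := h.central (z := t i0 * t i0) (by rw [map_mul, πt, hs2]) g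
    rw [← e1]
    calc g * t i0 * g⁻¹ * (g * t i0 * g⁻¹) = g * (t i0 * t i0) * g⁻¹ := by group
      _ = t i0 * t i0 := by rw [← cl.eq, mul_inv_cancel_right]
  have cl := h.central hl
  obtain ⟨lam, hlam⟩ := h.scal l hl
  have hlam0 : lam ≠ 0 := by
    rintro rfl
    exact hv0 ((ρ l).map_eq_zero_iff.1 (by rw [hlam, zero_smul]))
  -- scalars of square 1
  have sgn : ∀ z, π z = 1 → z * z = 1 → z = 1 ∨ ∀ v, ρ z v = -v := by
    intro z hz hz2
    obtain ⟨a, ha⟩ := h.scal z hz
    have e : (a * a) • v0 = (1 : F) • v0 := by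
      rw [mul_smul, ← ha, ← ha, ← ρmul, hz2, map_one, one_smul]; rfl
    have e2 := smul_left_injective F hv0 e
    rcases mul_self_eq_one_iff.1 e2 with h1 | h1
    · left
      apply h.inj
      ext v
      rw [ha, h1, one_smul, map_one]; rfl
    · right
      intro v
      rw [ha, h1, neg_one_smul]
  -- the lifts commute
  have tt : ∀ i j, Commute (t i) (t j) := by
    by_contra hcon
    push Not at hcon
    obtain ⟨i, j, hij⟩ := hcon
    have hne : i ≠ j := by rintro rfl; exact hij (Commute.refl _)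
    set z := h.cm (s i) (s j) with hz
    have hzπ : π z = 1 := h.cm_ker (hss i j)
    have hz2 : z * z = 1 := h.cm_sq (hs2 i) (hss i j)
    have cz := h.central hzπ
    rcases sgn z hzπ hz2 with h1 | h1
    · exact hij (h.commute_of_cm (by rw [πt, πt]; exact h1))
    · have hac : ∀ i' j', i' ≠ j' → t i' * t j' = z * (t j' * t i') := by
        intro i' j' hij'
        obtain ⟨σ, hσ, e1, e2⟩ := exists_alt_pair (κ := κ) (by omega) hne hij'
        obtain ⟨g, hg⟩ := h.surj (p ⟨σ, hσ⟩)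
        have f1 := ht ⟨σ, hσ⟩ g hg i
        have f2 := ht ⟨σ, hσ⟩ g hg j
        simp only [e1] at f1
        simp only [e2] at f2
        have e0 : t i * t j = z * (t j * t i) := by
          have := h.comm_eq_cm (πt i) (πt j)
          rw [commutatorElement_def] at this
          rw [hz, ← this]; group
        rw [← f1, ← f2]
        calc g * t i * g⁻¹ * (g * t j * g⁻¹) = g * (t i * t j) * g⁻¹ := by group
          _ = g * (z * (t j * t i)) * g⁻¹ := by rw [e0]
          _ = z * (g * t j * g⁻¹ * (g * t i * g⁻¹)) := by rw [← mul_assoc g, ← (cz g).eq]; group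
      obtain ⟨m, rfl⟩ := Nat.exists_eq_add_of_le' (show 1 ≤ n by omega)
      have hd := om_cliff h h2 (m := m) (t := t) hzπ hz2 h1 hl hll hac (by omega) hV
      rw [hdim] at hd
      exact two_pow_not_dvd (m := m) (by omega) (by convert hd using 1; ring)
  -- the product of all lifts
  have hRsq : ∀ L : List κ, (L.map t).prod * (L.map t).prod = l ^ L.length := by
    intro L
    induction L with
    | nil => simp
    | cons i L ih =>
      have hc : Commute (t i) (L.map t).prod := Commute.list_prod_right _ _ (fun x hx => by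
        obtain ⟨j, -, rfl⟩ := List.mem_map.1 hx
        exact tt i j)
      rw [List.map_cons, List.prod_cons, List.length_cons, pow_succ']
      calc t i * (L.map t).prod * (t i * (L.map t).prod)
          = t i * ((L.map t).prod * t i) * (L.map t).prod := by simp only [mul_assoc]
        _ = (t i * t i) * ((L.map t).prod * (L.map t).prod) := by rw [← hc.eq]; simp only [mul_assoc]
        _ = l * l ^ L.length := by rw [hll, ih]
  obtain ⟨μ, hμ⟩ := h.scal (((Finset.univ : Finset κ).toList.map t).prod) (by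
    rw [map_list_prod, List.map_map, ← hprod]
    congr 2
    funext i
    exact πt i)
  have hμ2 : μ * μ = lam ^ (2 * n + 1) := by
    have e := hRsq (Finset.univ : Finset κ).toList
    rw [Finset.length_toList, Finset.card_univ, hκ] at e
    have hpow : ∀ (k : ℕ) v, ρ (l ^ k) v = lam ^ k • v := by
      intro k
      induction k with
      | zero => intro v; simp only [_root_.pow_zero, _root_.map_one, _root_.LinearEquiv.coe_one, _root_.id_eq, _root_.one_smul]
      | succ k ih => intro v; rw [pow_succ', ρmul, ih, hlam, smul_smul, pow_succ']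
    have e2 := congrArg (fun g => ρ g v0) e
    rw [ρmul, hμ, hμ, smul_smul, hpow] at e2
    exact smul_left_injective F hv0 e2
  have hμ0 : μ ≠ 0 := by
    rintro rfl
    rw [zero_mul] at hμ2
    exact pow_ne_zero _ hlam0 hμ2.symm
  set θ : F := μ / lam ^ n with hθ
  have hθ0 : θ ≠ 0 := div_ne_zero hμ0 (pow_ne_zero _ hlam0)
  have hθ2 : θ * θ = lam := by
    rw [hθ, div_mul_div_comm, hμ2, ← pow_add, div_eq_iff (pow_ne_zero _ hlam0)]
    ring
  have hθN : θ ^ (2 * n + 1) = μ := by
    rw [pow_succ, pow_mul, pow_two, hθ2, hθ, mul_div_cancel₀ _ (pow_ne_zero _ hlam0)]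
  -- the involutions
  set c : κ → V →ₗ[F] V := fun i => θ⁻¹ • (ρ (t i) : V →ₗ[F] V) with hc
  have cv : ∀ i v, c i v = θ⁻¹ • ρ (t i) v := fun i v => rfl
  have tv : ∀ i v, ρ (t i) v = θ • c i v := fun i v => by rw [cv, smul_smul, mul_inv_cancel₀ hθ0, one_smul]
  have hcc2 : ∀ i v, c i (c i v) = v := fun i v => by
    rw [cv, cv, map_smul, ← ρmul, hll, hlam, smul_smul, smul_smul, ← hθ2]
    have : θ⁻¹ * θ⁻¹ * (θ * θ) = 1 := by field_simp
    rw [this, one_smul]
  have hcc : ∀ i j v, c i (c j v) = c j (c i v) := fun i j v => by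
    rw [cv, cv, cv, cv, map_smul, map_smul, ← ρmul, ← ρmul, (tt i j).eq]
  have hg : ∀ σ ∈ alternatingGroup κ, ∃ g : V ≃ₗ[F] V, ∀ i v, g (c i v) = c (σ i) (g v) := by
    intro σ hσ
    obtain ⟨g, hg⟩ := h.surj (p ⟨σ, hσ⟩)
    refine ⟨ρ g, fun i v => ?_⟩
    have e := ht ⟨σ, hσ⟩ g hg i
    simp only at e
    rw [cv, cv, map_smul, ← ρmul, ← ρmul, ← e]
    congr 3
    group
  have par : ∀ J : Finset κ, finrank F (W c J) ≠ 0 → Even J.card := by
    intro J hJ
    obtain ⟨v, hv, hv0'⟩ := Submodule.exists_mem_ne_zero_of_ne_bot (p := W c J) (by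
      rintro hb; rw [hb, finrank_bot] at hJ; exact hJ rfl)
    have e1 := list_prod_apply (ρ := ρ) (C := t) (J := J) (v := v) (θ := θ) (fun i => by
      rw [tv, hv i]; split_ifs <;> simp) (Finset.univ : Finset κ).toList
    rw [hμ, list_prod_sign, hκ, hθN] at e1
    have e2 := smul_left_injective F hv0' e1
    by_contra hodd
    rw [Nat.not_even_iff_odd] at hodd
    rw [hodd.neg_one_pow] at e2
    have e3 : (2 : F) * μ = 0 := by linear_combination e2
    rcases mul_eq_zero.1 e3 with h' | h'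
    · exact h2 h'
    · exact hμ0 h'
  have hmid : ∀ J : Finset κ, 2 ≤ J.card → J.card + 2 ≤ Fintype.card κ → finrank F (W c J) = 0 := by
    intro J h1 h4
    by_contra h0
    have h5 := choose_mul_le h2 hcc h3 hg J
    have h6 := lt_choose_two (n := Fintype.card κ) (k := J.card) (by omega) h1 h4
    have h7 : 1 ≤ finrank F (W c J) := Nat.pos_of_ne_zero h0
    have h8 := Nat.mul_le_mul_left ((Fintype.card κ).choose J.card) h7
    omega
  set KK : κ → Finset κ := fun i => Finset.univ.erase i with hKK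
  have cardK : ∀ i, (KK i).card = 2 * n := fun i => by
    rw [hKK]; dsimp only; rw [Finset.card_erase_of_mem (Finset.mem_univ i), Finset.card_univ, hκ]; omega
  have hd1 : ∀ i, finrank F (W c (KK i)) = finrank F (W c (KK i0)) := fun i =>
    finrank_W_of_card h3 hg (by rw [cardK, cardK])
  have KKinj : Function.Injective KK := fun i j hij => by
    by_contra hne
    have : j ∈ KK i := Finset.mem_erase.2 ⟨Ne.symm hne, Finset.mem_univ j⟩
    rw [hij] at this
    exact (Finset.mem_erase.1 this).1 rfl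
  have htot := sum_eq h2 hcc2 hcc
  set TT : Finset (Finset κ) := insert ∅ (Finset.univ.image KK) with hTT
  have hsub0 : ∀ J : Finset κ, J ∉ TT → finrank F (W c J) = 0 := by
    intro J hJ
    by_contra h0
    have hev := par J h0
    apply h0
    apply hmid J
    · by_contra hlt
      apply hJ
      have : J.card = 0 ∨ J.card = 1 := by omega
      rcases this with h1 | h1
      · rw [Finset.card_eq_zero] at h1
        rw [hTT, h1]; exact Finset.mem_insert_self _ _
      · rw [h1] at hev; exact absurd hev (by decide)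
    · by_contra hlt
      apply hJ
      have h5 := Finset.card_le_univ J
      obtain ⟨k, hk⟩ := hev
      have h6 : J.card = 2 * n := by omega
      have h7 : Jᶜ.card = 1 := by rw [Finset.card_compl]; omega
      obtain ⟨i, hi⟩ := Finset.card_eq_one.1 h7
      rw [hTT]
      refine Finset.mem_insert_of_mem (Finset.mem_image.2 ⟨i, Finset.mem_univ i, ?_⟩)
      rw [hKK]; dsimp only
      rw [← compl_compl J, hi]
      ext x; simp only [_root_.Finset.mem_erase, _root_.ne_eq, _root_.Finset.mem_univ, _root_.and_true, _root_.Finset.mem_compl, _root_.Finset.mem_singleton]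
  have hsub : ∑ J ∈ TT, finrank F (W c J) = ∑ J : Finset κ, finrank F (W c J) :=
    Finset.sum_subset (Finset.subset_univ _) fun J _ hJ => hsub0 J hJ
  have hsum : ∑ J ∈ TT, finrank F (W c J) = finrank F (W c ∅) + (2 * n + 1) * finrank F (W c (KK i0)) := by
    rw [hTT, Finset.sum_insert, Finset.sum_image]
    · rw [Finset.sum_congr rfl fun i _ => hd1 i, Finset.sum_const, Finset.card_univ, smul_eq_mul, hκ]
    · intro i _ j _ hij
      exact KKinj hij
    · rw [Finset.mem_image]
      rintro ⟨i, -, hi⟩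
      have := congrArg Finset.card hi
      rw [cardK, Finset.card_empty] at this; omega
  rw [← hsub, hsum, hdim] at htot
  have hd1le : finrank F (W c (KK i0)) ≤ 1 := by
    by_contra hlt
    have : (2 * n + 1) * 2 ≤ (2 * n + 1) * finrank F (W c (KK i0)) := Nat.mul_le_mul_left _ (by omega)
    omega
  have hWbot : ∀ J, J ∉ TT → W c J = ⊥ := fun J hJ => Submodule.finrank_eq_zero.1 (hsub0 J hJ)
  have hd1e : finrank F (W c (KK i0)) = 1 := by
    by_contra hne1
    have h0 : finrank F (W c (KK i0)) = 0 := by omega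
    apply hs1 i0
    rw [← πt]
    refine h.conv _ θ fun v => ?_
    rw [tv]
    have hall : ∀ J, W c J ≤ LinearMap.ker (c i0 - LinearMap.id) := by
      intro J w hw
      rw [LinearMap.mem_ker, LinearMap.sub_apply, LinearMap.id_apply, sub_eq_zero]
      by_cases hJ : J ∈ TT
      · rw [hTT, Finset.mem_insert, Finset.mem_image] at hJ
        rcases hJ with rfl | ⟨i, -, rfl⟩
        · exact W_pos hw (by simp)
        · have h00 : finrank F (W c (KK i)) = 0 := by rw [hd1, h0]
          rw [Submodule.finrank_eq_zero] at h00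
          rw [h00] at hw
          rw [(Submodule.mem_bot F).1 hw]; simp only [_root_.map_zero]
      · rw [hWbot J hJ] at hw
        rw [(Submodule.mem_bot F).1 hw]; simp
    have h10 : (⊤ : Submodule F V) ≤ LinearMap.ker (c i0 - LinearMap.id) := by
      rw [← iSup_W h2 hcc2 hcc]
      exact iSup_le hall
    have h11 := h10 (Submodule.mem_top (x := v))
    rw [LinearMap.mem_ker, LinearMap.sub_apply, LinearMap.id_apply, sub_eq_zero] at h11
    rw [h11]
  have hL1 : finrank F (W c ∅) = 1 := by rw [hd1e] at htot; omega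
  -- elements centralising `s i` centralise `t i`
  have cent : ∀ i g, Commute (π g) (s i) → Commute g (t i) := by
    intro i g hgi
    apply h.commute_of_cm
    rw [πt]
    -- `z = ⁅t i, g⁆`
    have hzπ : π (h.cm (s i) (π g)) = 1 := h.cm_ker hgi.symm
    have hz2 : h.cm (s i) (π g) * h.cm (s i) (π g) = 1 := h.cm_sq (hs2 i) hgi.symm
    have hcomm := h.comm_eq_cm (πt i) (rfl : π g = π g)
    rcases sgn _ hzπ hz2 with h1 | h1
    · rw [h1] at hcomm
      rw [← πt i]
      exact h.cm_one_of_commute (commutatorElement_eq_one_iff_commute.1 hcomm).symm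
    · exfalso
      have e1 : ∀ v, ρ g (c i v) = - c i (ρ g v) := by
        intro v
        have e2 : t i * g = h.cm (s i) (π g) * (g * t i) := by
          rw [← hcomm, commutatorElement_def]; group
        have e3 : ρ (t i) (ρ g v) = - ρ g (ρ (t i) v) := by
          rw [← ρmul, e2, ρmul, h1, ρmul]
        rw [cv, cv, map_smul, e3, smul_neg, neg_neg]
      set Um : Submodule F V := LinearMap.ker (c i + LinearMap.id) with hUm
      set Up : Submodule F V := LinearMap.ker (c i - LinearMap.id) with hUp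
      have memm : ∀ v, v ∈ Um ↔ c i v = -v := fun v => by
        rw [hUm, LinearMap.mem_ker, LinearMap.add_apply, LinearMap.id_apply, add_eq_zero_iff_eq_neg]
      have memp : ∀ v, v ∈ Up ↔ c i v = v := fun v => by
        rw [hUp, LinearMap.mem_ker, LinearMap.sub_apply, LinearMap.id_apply, sub_eq_zero]
      have d1 : finrank F Um ≤ finrank F Up := by
        have hle : Um.map (ρ g : V →ₗ[F] V) ≤ Up := by
          rintro w ⟨v, hv, rfl⟩
          have hv' := (memm v).1 hv
          rw [memp]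
          have e4 := e1 v
          rw [hv', map_neg, neg_inj] at e4
          exact e4.symm
        have e5 : finrank F (Um.map (ρ g : V →ₗ[F] V)) = finrank F Um :=
          (LinearEquiv.finrank_eq ((ρ g).submoduleMap Um)).symm
        rw [← e5]
        exact Submodule.finrank_mono hle
      have d2 : Um ⊓ Up = ⊥ := by
        rw [eq_bot_iff]
        rintro v ⟨hv1, hv3⟩
        rw [SetLike.mem_coe, memm] at hv1
        rw [SetLike.mem_coe, memp] at hv3
        rw [hv3] at hv1
        have : (2 : F) • v = 0 := by rw [two_smul]; nth_rw 2 [hv1]; rw [add_neg_cancel]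
        rcases smul_eq_zero.1 this with h' | h'
        · exact absurd h' h2
        · rw [Submodule.mem_bot]; exact h'
      have d3 := Submodule.finrank_sup_add_finrank_inf_eq Um Up
      rw [d2, finrank_bot, add_zero] at d3
      have d4 : finrank F ↥(Um ⊔ Up) ≤ finrank F V := Submodule.finrank_le _
      have d5 := sum_le h2 hcc ((Finset.univ.erase i).image KK) Um (by
        intro J hJ
        obtain ⟨j, hj, rfl⟩ := Finset.mem_image.1 hJ
        intro v hv
        rw [memm]
        exact W_neg hv (Finset.mem_erase.2 ⟨(Finset.mem_erase.1 hj).1.symm, Finset.mem_univ i⟩))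
      rw [Finset.sum_image (fun a _ b _ hab => KKinj hab), Finset.sum_congr rfl (fun j _ => (hd1 j).trans hd1e),
        Finset.sum_const, Finset.card_erase_of_mem (Finset.mem_univ i), Finset.card_univ, hκ, smul_eq_mul] at d5
      omega
  -- the line `L`
  have four : (4 : F) ≠ 0 := by
    have : (4 : F) = 2 * 2 := by norm_num
    rw [this]; exact mul_ne_zero h2 h2
  have proj : ∀ i j, i ≠ j → ∀ v, c i v = v → c j v = v → v ∈ W c ∅ := by
    intro i j hij v hvi hvj
    set T : V →ₗ[F] V := (c i + LinearMap.id).comp (c j + LinearMap.id) with hT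
    have Tv : ∀ w, T w = c i (c j w + w) + (c j w + w) := fun w => rfl
    have Tv' : ∀ w, T w = c j (c i w + w) + (c i w + w) := fun w => by
      rw [Tv, map_add, map_add, hcc]; abel
    have hall : ∀ J, W c J ≤ (W c ∅).comap T := by
      intro J w hw
      rw [Submodule.mem_comap]
      by_cases hJ : J ∈ TT
      · rw [hTT, Finset.mem_insert, Finset.mem_image] at hJ
        rcases hJ with rfl | ⟨k, -, rfl⟩
        · rw [Tv, W_pos hw (by simp), map_add, W_pos hw (by simp)]
          exact Submodule.add_mem _ (Submodule.add_mem _ hw hw) (Submodule.add_mem _ hw hw)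
        · by_cases hik : i = k
          · have : j ∈ KK k := Finset.mem_erase.2 ⟨fun e => hij (by rw [hik, e]), Finset.mem_univ j⟩
            rw [Tv, W_neg hw this, neg_add_cancel, map_zero, add_zero]
            exact Submodule.zero_mem _
          · have : i ∈ KK k := Finset.mem_erase.2 ⟨hik, Finset.mem_univ i⟩
            rw [Tv', W_neg hw this, neg_add_cancel, map_zero, add_zero]
            exact Submodule.zero_mem _
      · rw [hWbot J hJ] at hw
        rw [(Submodule.mem_bot F).1 hw, map_zero]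
        exact Submodule.zero_mem _
    have h10 : (⊤ : Submodule F V) ≤ (W c ∅).comap T := by
      rw [← iSup_W h2 hcc2 hcc]
      exact iSup_le hall
    have h11 := h10 (Submodule.mem_top (x := v))
    rw [Submodule.mem_comap, Tv, hvj, map_add, hvi] at h11
    have h12 : v + v + (v + v) = (4 : F) • v := by
      rw [show (4 : F) = 1 + 1 + (1 + 1) by norm_num, add_smul, add_smul, one_smul]
    rw [h12] at h11
    have h13 := Submodule.smul_mem _ (4 : F)⁻¹ h11
    rwa [smul_smul, inv_mul_cancel₀ four, one_smul] at h13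
  have presL : ∀ i j, i ≠ j → ∀ g, Commute (π g) (s i) → Commute (π g) (s j) → ∀ v ∈ W c ∅, ρ g v ∈ W c ∅ := by
    intro i j hij g hgi hgj v hv
    have e : ∀ k, Commute (π g) (s k) → c k (ρ g v) = ρ g v := by
      intro k hk
      have e1 := cent k g hk
      have e2 : c k (ρ g v) = ρ g (c k v) := by
        rw [cv, cv, map_smul, ← ρmul, ← ρmul, e1.eq]
      rw [e2, W_pos hv (by simp)]
    exact proj i j hij _ (e i hgi) (e j hgj)
  let H : Subgroup S :=
    { carrier := {x | ∀ g, π g = x → ∀ v, v ∈ W c ∅ ↔ ρ g v ∈ W c ∅}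
      mul_mem' := by
        intro x y hx hy g hg v
        obtain ⟨g1, hg1⟩ := h.surj x
        have e : g = g1 * (g1⁻¹ * g) := by group
        have hg2 : π (g1⁻¹ * g) = y := by rw [map_mul, map_inv, hg1, hg, inv_mul_cancel_left]
        rw [e, ρmul, ← hx g1 hg1, ← hy _ hg2]
      one_mem' := by
        intro g hg v
        obtain ⟨a, ha⟩ := h.scal g hg
        have ha0 : a ≠ 0 := by
          rintro rfl
          exact hv0 ((ρ g).map_eq_zero_iff.1 (by rw [ha, zero_smul]))
        rw [ha]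
        constructor
        · intro hv; exact Submodule.smul_mem _ _ hv
        · intro hv
          have := Submodule.smul_mem _ a⁻¹ hv
          rwa [smul_smul, inv_mul_cancel₀ ha0, one_smul] at this
      inv_mem' := by
        intro x hx g hg v
        have e := hx g⁻¹ (by rw [map_inv, hg, inv_inv]) (ρ g v)
        rw [← ρmul, inv_mul_cancel, map_one] at e
        exact e.symm }
  have hH : H = ⊤ := by
    apply hgen
    intro i j hij x hxi hxj g hg v
    constructor
    · exact presL i j hij g (by rw [hg]; exact hxi) (by rw [hg]; exact hxj) v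
    · intro hv
      have := presL i j hij g⁻¹ (by rw [map_inv, hg]; exact hxi.inv_left) (by rw [map_inv, hg]; exact hxj.inv_left) _ hv
      rwa [← ρmul, inv_mul_cancel, map_one] at this
  rcases hirr (W c ∅) (fun g v hv => by
    have : π g ∈ H := by rw [hH]; exact Subgroup.mem_top _
    exact (this g rfl v).1 hv) with hb | hb
  · rw [hb, finrank_bot] at hL1; omega
  · rw [hb, finrank_top] at hL1; omega

end omabs

end Cfsg.Agent.H210.DoRes
end

-- part: H210/DoRes/OmMain
section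
/-!
# `Ω_(2n+1)(q)` has no irreducible projective representation of degree `2n+2` in odd characteristic (helper210)
-/

set_option autoImplicit false

namespace Cfsg.Agent.H210.DoRes

open Module
open scoped commutatorElement Matrix
open Cfsg.Agent.LieClassical.OrthFourCommon

section

variable {F V G S : Type*} [Field F] [AddCommGroup V] [Module F V]
  [Group G] [Group S] {ρ : G →* (V ≃ₗ[F] V)} {π : G →* S}

theorem om_case' [FiniteDimensional F V] (h : PR ρ π) (h2 : (2 : F) ≠ 0) {n : ℕ} (hn : 4 ≤ n)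
    (hdim : finrank F V = 2 * n + 2)
    (hirr : ∀ U : Submodule F V, (∀ g, ∀ v ∈ U, ρ g v ∈ U) → U = ⊥ ∨ U = ⊤)
    {K : Type} [Field K] [Fintype K] (hK : (2 : K) ≠ 0)
    (e : S ≃* (commutator (IG K (Fin (2 * n + 1))) ⧸ Subgroup.center (commutator (IG K (Fin (2 * n + 1)))))) : False := by
  classical
  set κ := Fin (2 * n + 1) with hκd
  have hκ : Fintype.card κ = 2 * n + 1 := Fintype.card_fin _
  have ho : Odd (Fintype.card κ) := ⟨n, hκ⟩
  set Ω := commutator (IG K κ) with hΩ
  let q : Ω →* S := e.symm.toMonoidHom.comp (QuotientGroup.mk' (Subgroup.center Ω))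
  have q_surj : Function.Surjective q := e.symm.surjective.comp (QuotientGroup.mk'_surjective _)
  have q_one : ∀ x, q x = 1 → x ∈ Subgroup.center Ω := fun x hx => by
    have : (QuotientGroup.mk' (Subgroup.center Ω)) x = 1 := e.symm.injective (hx.trans (map_one e.symm).symm)
    exact (QuotientGroup.eq_one_iff x).1 this
  let sΩ : κ → Ω := fun i => ⟨sI i, sI_mem hK ho i⟩
  let pΩ : alternatingGroup κ →* Ω :=
    ((pI K κ).comp (alternatingGroup κ).subtype).codRestrict Ω (fun σ => pI_mem (by omega) σ.2)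
  have conjΩ : ∀ (σ : alternatingGroup κ) i, pΩ σ * sΩ i * (pΩ σ)⁻¹ = sΩ ((σ : Equiv.Perm κ) i) := fun σ i =>
    Subtype.ext (sI_conj hK (pI K κ σ) (pI_ee (K := K) (σ : Equiv.Perm κ) i))
  have hlist : ∀ L : List κ, ((L.map sΩ).prod : Ω) = ((L.map fun i => (sI i : IG K κ)).prod : IG K κ) := by
    intro L
    induction L with
    | nil => rfl
    | cons i L ih => rw [List.map_cons, List.prod_cons, List.map_cons, List.prod_cons, ← ih]; rfl
  refine om_abs (κ := κ) h h2 hn hκ hdim hirr (fun i => q (sΩ i)) (fun i => ?_) (fun i j => ?_) ?_ (fun i hi => ?_)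
    (q.comp pΩ) (fun σ i => ?_) (fun H hH => ?_)
  · rw [← map_mul, ← map_one q]
    congr 1
    exact Subtype.ext (sI_sq i)
  · exact (show Commute (sΩ i) (sΩ j) from Subtype.ext (sI_comm i j)).map q
  · have e1 : ((Finset.univ : Finset κ).toList.map fun i => q (sΩ i)) = ((Finset.univ : Finset κ).toList.map sΩ).map q := by
      rw [List.map_map]; rfl
    rw [e1, ← map_list_prod, ← map_one q]
    congr 1
    apply Subtype.ext
    rw [hlist, list_sI_univ ho]; rfl
  · have hc := q_one _ hi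
    obtain ⟨j, hj⟩ : ∃ j : κ, j ≠ i := Fintype.exists_ne_of_one_lt_card (by omega) i
    obtain ⟨σ, hσ, h1⟩ := exists_alt_map (κ := κ) (by omega) (J := {i}) (J' := {j}) (by simp)
    have e' : σ i = j := by
      have := congrArg (fun K : Finset κ => j ∈ K) h1
      simp at this
      exact this.symm
    have e2 := conjΩ ⟨σ, hσ⟩ i
    rw [Subgroup.mem_center_iff.1 hc, mul_inv_cancel_right] at e2
    simp only [e'] at e2
    have e3 : (sI i : IG K κ) = sI j := congrArg Subtype.val e2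
    have e4 : rI (ee K i) = rI (ee K j) := mul_left_cancel e3
    have e5 := congrFun (congrArg (fun g : IG K κ => g (ee K i)) e4) i
    simp only [rI_ee, if_pos, ee_apply, if_neg hj.symm] at e5
    apply hK
    have : (2 : K) = 1 - -1 := by norm_num
    rw [this, e5, sub_self]
  · show q (pΩ σ) * q (sΩ i) * (q (pΩ σ))⁻¹ = q (sΩ _)
    rw [← map_inv, ← map_mul, ← map_mul, conjΩ]
  · have hle : Ω ≤ (H.comap q).map Ω.subtype := by
      refine gen_two hK (by omega) _ fun i j hij g hg hgi hgj => ?_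
      refine ⟨⟨g, hg⟩, ?_, rfl⟩
      have key : ∀ k, g (ee K k) = ee K k → Commute (q ⟨g, hg⟩) (q (sΩ k)) := by
        intro k hk
        refine (show Commute (⟨g, hg⟩ : Ω) (sΩ k) from Subtype.ext ?_).map q
        exact mul_inv_eq_iff_eq_mul.1 (sI_conj hK g hk)
      exact hH i j hij _ (key i hgi) (key j hgj)
    rw [eq_top_iff]
    intro y _
    obtain ⟨x, rfl⟩ := q_surj y
    obtain ⟨x', hx', he⟩ := hle x.2
    have : x' = x := Subtype.ext he
    rw [← this]
    exact hx'

theorem om_case [FiniteDimensional F V] (h : PR ρ π) (h2 : (2 : F) ≠ 0) {n : ℕ} (hn : 4 ≤ n)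
    (hdim : finrank F V = 2 * n + 2)
    (hirr : ∀ U : Submodule F V, (∀ g, ∀ v ∈ U, ρ g v ∈ U) → U = ⊥ ∨ U = ⊤)
    {K : Type} [Field K] [Fintype K] (hK : (2 : K) ≠ 0)
    (e : S ≃* Cfsg.POmega K (Cfsg.quadFormOdd n K)) : False := by
  classical
  rcases Cfsg.Agent.H173.OI.shape (fun _ : Fin (2 * n + 1) => (1 : K)) hK (fun _ => one_ne_zero) with
    ⟨m, hm, ⟨f⟩⟩ | ⟨m, hm, -⟩ | ⟨m, hm, -⟩
  · have hmn : m = n := by omega
    subst hmn
    obtain ⟨e0⟩ := exists_isometryGroup_equiv (LinearEquiv.refl K (Fin (2 * m + 1) → K))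
      (Cfsg.Agent.H323.OI.dq (fun _ : Fin (2 * m + 1) => (1 : K))) (QS K (Fin (2 * m + 1))) (fun v => by
        simp [Cfsg.Agent.H323.OI.dq, QS])
    obtain ⟨e1⟩ := Cfsg.Agent.ClassicalGeometry.OddInvolutions.commutator_quot_center_congr e0
    exact om_case' h h2 hn hdim hirr hK ((e.trans f.symm).trans e1)
  · omega
  · omega

end

end Cfsg.Agent.H210.DoRes
end

-- part: H210/DoRes/Main
section
/-!
# DO-RES of S4785: no residual core `Ω_(2n+1)(q)`, `PSp_2n(q)` (`q` odd, `n ≥ 4`) in `GL_(2n+2)(F)`, `char F ≠ 2` (helper210)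
-/

set_option autoImplicit false

namespace Cfsg.Agent.H210.DoRes

open Module Cfsg Cfsg.Geo
open scoped commutatorElement Matrix
open Cfsg.Agent.LieClassical.OrthFourCommon

section

variable {ι : Type} [Fintype ι] [DecidableEq ι] {F : Type} [Field F]

/-- the action of a matrix group on `F^ι` -/
noncomputable def rhoP (P : Subgroup (GL ι F)) : P →* ((ι → F) ≃ₗ[F] (ι → F)) :=
  (glEquiv (LinearEquiv.refl F (ι → F))).toMonoidHom.comp P.subtype

theorem rhoP_apply (P : Subgroup (GL ι F)) (g : P) (v : ι → F) :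
    rhoP P g v = ((g : GL ι F) : Matrix ι ι F) *ᵥ v := rfl

theorem pr_of (P : Subgroup (GL ι F)) [Nonempty ι] {S : Type*} [Group S] (e : S ≃* P ⧸ (scalars ι F).subgroupOf P) :
    PR (rhoP P) (e.symm.toMonoidHom.comp (QuotientGroup.mk' ((scalars ι F).subgroupOf P))) := by
  have hmem : ∀ g : P, (e.symm.toMonoidHom.comp (QuotientGroup.mk' ((scalars ι F).subgroupOf P))) g = 1 ↔
      (g : GL ι F) ∈ scalars ι F := by
    intro g
    constructor
    · intro h
      have : (QuotientGroup.mk' ((scalars ι F).subgroupOf P)) g = 1 := e.symm.injective (h.trans (map_one e.symm).symm)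
      exact Subgroup.mem_subgroupOf.1 ((QuotientGroup.eq_one_iff g).1 this)
    · intro h
      have : (QuotientGroup.mk' ((scalars ι F).subgroupOf P)) g = 1 :=
        (QuotientGroup.eq_one_iff g).2 (Subgroup.mem_subgroupOf.2 h)
      show e.symm _ = 1
      rw [this, map_one]
  refine ⟨e.symm.surjective.comp (QuotientGroup.mk'_surjective _), fun g hg => ?_, fun g a hg => ?_, ?_⟩
  · obtain ⟨c, hc⟩ := (mem_scalars_iff _).1 ((hmem g).1 hg)
    refine ⟨c, fun v => ?_⟩
    rw [rhoP_apply, hc, Matrix.smul_mulVec, Matrix.one_mulVec]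
  · rw [hmem, mem_scalars_iff]
    have ha : a ≠ 0 := by
      rintro rfl
      obtain ⟨i⟩ := ‹Nonempty ι›
      have h1 : rhoP P g (Pi.single i 1) = 0 := by rw [hg, zero_smul]
      have h3 := (rhoP P g).map_eq_zero_iff.1 h1
      have h4 := congrFun h3 i
      rw [Pi.single_eq_same] at h4
      exact one_ne_zero h4
    refine ⟨Units.mk0 a ha, ?_⟩
    apply Matrix.ext_of_mulVec_single
    intro i
    have := hg (Pi.single i 1)
    rw [rhoP_apply] at this
    rw [this, Units.val_mk0, Matrix.smul_mulVec, Matrix.one_mulVec]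
  · intro g k h
    apply Subtype.ext
    exact (glEquiv (LinearEquiv.refl F (ι → F))).injective h

theorem do_res [Fintype F] (h2 : (2 : F) ≠ 0) {H P : Subgroup (GL ι F)} (hP : IsResidualCore H P) {n q : ℕ}
    (hn : 4 ≤ n) (hq : ¬ 2 ∣ q) (hdim : Fintype.card ι = 2 * n + 2) {S : Type*} [Group S]
    (e : S ≃* P ⧸ (scalars ι F).subgroupOf P)
    (hS : Cfsg.Agent.H436.IsNamed (.oodd n q) S ∨ Cfsg.Agent.H436.IsNamed (.psp n q) S) : False := by
  have hne : Nonempty ι := by
    rw [← Fintype.card_pos_iff]; omega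
  have hpr := pr_of P e
  have hfin : finrank F (ι → F) = 2 * n + 2 := by rw [Module.finrank_fintype_fun_eq_card, hdim]
  have hirr : ∀ U : Submodule F (ι → F), (∀ g, ∀ v ∈ U, rhoP P g v ∈ U) → U = ⊥ ∨ U = ⊤ := by
    intro U hU
    refine hP.absIrred.1 U ?_
    rintro _ ⟨g, hg, rfl⟩ w ⟨v, hv, rfl⟩
    rw [Matrix.toLin'_apply]
    exact hU ⟨g, hg⟩ v hv
  have two : ∀ {K : Type} [Field K] [Fintype K], Fintype.card K = q → (2 : K) ≠ 0 := by
    intro K _ _ hK h
    have h3 : ((Fintype.card K : ℕ) : K) = 0 := Nat.cast_card_eq_zero K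
    obtain ⟨m, hm⟩ := Nat.odd_iff.2 (Nat.two_dvd_ne_zero.1 hq)
    rw [hK, hm] at h3
    push_cast at h3
    rw [h, zero_mul, zero_add] at h3
    exact one_ne_zero h3
  rcases hS with hS | hS
  · obtain ⟨K, _, _, hK, ⟨f⟩⟩ := hS.real
    exact om_case hpr h2 hn hfin hirr (two hK) f
  · obtain ⟨K, _, _, hK, ⟨f⟩⟩ := hS.real
    exact sp_case hpr h2 hn hfin (two hK) f

end

end Cfsg.Agent.H210.DoRes
end

private theorem dce_f12427207512 : _root_.True := by
  try have : _root_.True := by simp only [_root_.Cfsg.Agent.H210.DoRes.MM.eq_1]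
  exact _root_.True.intro
end

-- part: H217/Odm/Min
section
prune_inst 0x106075442c2212000000059411003a44fc000190006b8801f98007420907f34200008f004e801c000028a28020000000001000d040500000040004000005002080ab52023210ad04b6000f803087180c00000000000000000000000000041004000000000
set_option linter.all false
open scoped Cfsg.Agent.FastGrp

/-!
# Minimal normal subgroups of a subgroup of odd index (TEAM ODDM, S4785, helper217)

Tools for groups whose order is divisible by the square of the relevant prime (used for `McL`).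
-/

set_option autoImplicit false
set_option linter.unusedSectionVars false
open Cfsg

namespace Cfsg.Agent.H217.Odm.Min

open Subgroup Cfsg.Agent.H453.OddM Cfsg.Agent.OrdDiv Cfsg.Agent.H257.El
open Cfsg.Agent.H361.SelfCent (card_modEq_of_perm)

universe u

/-- all the orbits have length divisible by `d` -/
theorem dvd_of_stab {A X : Type*} [Group A] [MulAction A X] [Finite A] [Finite X] {d : ℕ}
    (h : ∀ x : X, d ∣ (MulAction.stabilizer A x).index) : d ∣ Nat.card X := by
  classical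
  have := Fintype.ofFinite (Quotient (MulAction.orbitRel A X))
  rw [Nat.card_congr (MulAction.selfEquivSigmaOrbitsQuotientStabilizer A X), Nat.card_sigma]
  exact Finset.dvd_sum fun i _ => h _

variable {G : Type*} [Group G] [Finite G]

/-- conjugation of `A` on `M \ {1}` -/
theorem card_sub_one (M A : Subgroup G) (hM : ∀ a ∈ A, ∀ f ∈ M, a * f * a⁻¹ ∈ M) {d : ℕ}
    (h : ∀ f ∈ M, f ≠ 1 → d ∣ (centralizer ({f} : Set G)).relIndex A) : ∃ k, Nat.card M = d * k + 1 := by
  classical
  let X := {f : M // ¬ f = 1}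
  let act : MulAction A X :=
    { smul := fun a f => ⟨⟨a * f.1 * a⁻¹, hM a a.2 f.1 f.1.2⟩, fun h => f.2 (by
        have h1 : (a : G) * f.1 * a⁻¹ = 1 := congrArg Subtype.val h
        exact Subtype.ext (conj_eq_one_iff.1 h1))⟩
      one_smul := fun f => Subtype.ext (Subtype.ext (by change (1 : G) * f.1 * (1 : G)⁻¹ = f.1; simp))
      mul_smul := fun a b f => Subtype.ext (Subtype.ext (by
        change ((a * b : A) : G) * f.1 * ((a * b : A) : G)⁻¹ = a * (b * f.1 * (b : G)⁻¹) * (a : G)⁻¹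
        rw [Subgroup.coe_mul]; group)) }
  have h1 : d ∣ Nat.card X := by
    refine dvd_of_stab (A := A) fun f => ?_
    have h2 : MulAction.stabilizer A f = (centralizer ({((f.1 : M) : G)} : Set G)).subgroupOf A := by
      ext a
      rw [MulAction.mem_stabilizer_iff, mem_subgroupOf, mem_centralizer_singleton_iff]
      constructor
      · intro h
        have h3 : (a : G) * f.1 * (a : G)⁻¹ = f.1 := congrArg (fun z : X => ((z.1 : M) : G)) h
        calc (a : G) * (f.1 : G) = ((a : G) * f.1 * (a : G)⁻¹) * a := by group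
          _ = f.1 * a := by rw [h3]
      · intro h
        refine Subtype.ext (Subtype.ext ?_)
        change (a : G) * f.1 * (a : G)⁻¹ = f.1
        rw [h]; group
    rw [h2]
    exact h f.1 f.1.2 fun h3 => f.2 (Subtype.ext h3)
  obtain ⟨k, hk⟩ := h1
  refine ⟨k, ?_⟩
  rw [← hk, Nat.card_congr (Equiv.sumCompl (fun f : M => f = 1)).symm, Nat.card_sum, add_comm]
  congr 1
  exact Nat.card_unique

/-- `relIndex` and the intersection -/
theorem relIndex_mul (C A : Subgroup G) : C.relIndex A * Nat.card ↥(C ⊓ A) = Nat.card A := by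
  have h1 := Subgroup.card_mul_index (C.subgroupOf A)
  have h2 : Nat.card (C.subgroupOf A) = Nat.card ↥(C ⊓ A) := by
    rw [← Subgroup.inf_subgroupOf_right C A]
    exact Nat.card_congr (Subgroup.subgroupOfEquivOfLe inf_le_right).toEquiv
  rw [h2] at h1
  rw [mul_comm]
  exact h1

/-- a `2`-group acts with large orbits -/
theorem two_orbits {a : ℕ} (M S : Subgroup G) (hM : M.Normal) (hS : Nat.card S = 2 ^ (a + 1))
    (h : ∀ f ∈ M, f ≠ 1 → ¬ 4 ∣ Nat.card (centralizer ({f} : Set G))) : ∃ k, Nat.card M = 2 ^ a * k + 1 := by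
  refine card_sub_one M S (fun a _ f hf => hM.conj_mem f hf a) fun f hf hf1 => ?_
  have h1 := relIndex_mul (centralizer ({f} : Set G)) S
  have h2 : Nat.card ↥(centralizer ({f} : Set G) ⊓ S) ∣ 2 ^ (a + 1) := by
    rw [← hS]; exact Subgroup.card_dvd_of_le inf_le_right
  obtain ⟨j, -, hj⟩ := (Nat.dvd_prime_pow Nat.prime_two).1 h2
  have h3 : j < 2 := by
    by_contra hlt
    push Not at hlt
    apply h f hf hf1
    have h4 : (2 : ℕ) ^ 2 ∣ Nat.card ↥(centralizer ({f} : Set G) ⊓ S) := by rw [hj]; exact pow_dvd_pow _ hlt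
    exact h4.trans (Subgroup.card_dvd_of_le inf_le_left)
  rw [hj, hS] at h1
  have h4 : j = 0 ∨ j = 1 := by omega
  rcases h4 with rfl | rfl
  · rw [pow_zero, mul_one] at h1
    rw [h1, pow_succ]
    exact dvd_mul_right _ _
  · rw [pow_one, pow_succ] at h1
    rw [Nat.mul_right_cancel (by norm_num) h1]

/-- an element of order `r` normalising an `s`-subgroup -/
theorem modEq_cent {r s a : ℕ} (hr : r.Prime) (hs : s.Prime) {y : G} (hy : orderOf y = r) {P : Subgroup G}
    (hP : Nat.card P = s ^ a) (hyP : y ∈ normalizer (P : Set G)) :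
    ∃ c : ℕ, s ^ c ∣ Nat.card (centralizer ({y} : Set G)) ∧ s ^ a ≡ s ^ c [MOD r] := by
  have hr' : Fact r.Prime := ⟨hr⟩
  have hs' : Fact s.Prime := ⟨hs⟩
  have hconj : ∀ w : G, w ∈ P ↔ y * w * y⁻¹ ∈ P := mem_normalizer_iff.1 hyP
  let f : Equiv.Perm P :=
    { toFun := fun w => ⟨y * w * y⁻¹, (hconj w).1 w.2⟩
      invFun := fun w => ⟨y⁻¹ * w * y, (hconj _).2 (by simp [mul_assoc])⟩
      left_inv := fun w => Subtype.ext (by simp [mul_assoc])
      right_inv := fun w => Subtype.ext (by simp [mul_assoc]) }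
  have hfk : ∀ k : ℕ, ∀ w : P, (((f ^ k) w : P) : G) = y ^ k * w * (y ^ k)⁻¹ := by
    intro k
    induction k with
    | zero => intro w; simp
    | succ k ih =>
      intro w
      rw [pow_succ', Equiv.Perm.mul_apply]
      show y * ((f ^ k) w : P) * y⁻¹ = _
      rw [ih, pow_succ']
      group
  have hf : f ^ r = 1 := by
    ext w
    rw [hfk, ← hy, pow_orderOf_eq_one]
    simp
  have h6 := card_modEq_of_perm hr f hf
  let C : Subgroup P := (centralizer ({y} : Set G)).subgroupOf P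
  have hmem : ∀ w : P, f w = w ↔ w ∈ C := by
    intro w
    change f w = w ↔ w ∈ (centralizer ({y} : Set G)).subgroupOf P
    rw [mem_subgroupOf, mem_centralizer_singleton_iff]
    constructor
    · intro h
      have h9 : y * (w : G) * y⁻¹ = w := congrArg Subtype.val h
      calc (w : G) * y = (y * (w : G) * y⁻¹) * y := by rw [h9]
        _ = y * w := by group
    · intro h
      apply Subtype.ext
      change y * (w : G) * y⁻¹ = w
      rw [← h]; group
  have h7 : Nat.card {a : P // f a = a} = Nat.card C := Nat.card_congr (Equiv.subtypeEquivRight hmem)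
  obtain ⟨c, hc⟩ : ∃ c, Nat.card C = s ^ c := by
    have h8 : IsPGroup s P := IsPGroup.of_card hP
    exact IsPGroup.iff_card.1 (h8.to_subgroup C)
  refine ⟨c, ?_, ?_⟩
  · rw [← hc]
    have h8 : C.map P.subtype ≤ centralizer ({y} : Set G) := by
      rintro _ ⟨w, hw, rfl⟩
      exact hw
    rw [← Subgroup.card_map_of_injective (K := C) P.subtype_injective]
    exact Subgroup.card_dvd_of_le h8
  · rw [h7, hc, hP] at h6
    exact h6

/-- a subgroup of order `25` acts freely on a normal elementary abelian `p`-subgroup -/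
theorem free25 {p : ℕ} (hp : p.Prime) (hp5 : ¬ 5 ∣ p - 1) (hpne : p ≠ 5) (M : Subgroup G) (hM : M.Normal)
    (hexp : ∀ f ∈ M, f ≠ 1 → orderOf f = p)
    (h5 : ∀ g : G, orderOf g = 5 → ¬ p ^ 2 ∣ Nat.card (centralizer ({g} : Set G)))
    (hpp : ∀ f : G, orderOf f = p → ¬ 25 ∣ Nat.card (centralizer ({f} : Set G))) (A : Subgroup G)
    (hA : Nat.card A = 25) : ∃ k, Nat.card M = 25 * k + 1 := by
  have hf5 : Fact (Nat.Prime 5) := ⟨by norm_num⟩
  have hfp : Fact p.Prime := ⟨hp⟩
  have hcomm : ∀ a ∈ A, ∀ b ∈ A, a * b = b * a := by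
    have h1 := IsPGroup.isMulCommutative_of_card_eq_prime_sq (p := 5) (G := A) (by rw [hA]; norm_num)
    intro a ha b hb
    exact congrArg Subtype.val (mul_comm' (⟨a, ha⟩ : A) ⟨b, hb⟩)
  refine card_sub_one M A (fun a _ f hf => hM.conj_mem f hf a) fun f hf hf1 => ?_
  have h1 := relIndex_mul (centralizer ({f} : Set G)) A
  have h2 : Nat.card ↥(centralizer ({f} : Set G) ⊓ A) = 1 := by
    by_contra hne
    -- an element of order 5
    have h3 : Nat.card ↥(centralizer ({f} : Set G) ⊓ A) ∣ 5 ^ 2 := by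
      have : (5 : ℕ) ^ 2 = Nat.card A := by rw [hA]; norm_num
      rw [this]; exact Subgroup.card_dvd_of_le inf_le_right
    have h4 : 5 ∣ Nat.card ↥(centralizer ({f} : Set G) ⊓ A) := by
      obtain ⟨j, -, hj⟩ := (Nat.dvd_prime_pow hf5.1).1 h3
      rw [hj]
      refine dvd_pow_self _ ?_
      rintro rfl
      exact hne (by rw [hj, pow_zero])
    obtain ⟨⟨g, hgm⟩, hg⟩ := exists_prime_orderOf_dvd_card' 5 h4
    rw [Subgroup.orderOf_mk] at hg
    have hgC : g ∈ centralizer ({f} : Set G) := hgm.1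
    have hgA : g ∈ A := hgm.2
    -- the fixed points of `g`
    let D : Subgroup G := M ⊓ centralizer ({g} : Set G)
    have hfD : f ∈ D := ⟨hf, mem_centralizer_singleton_iff.2 (mem_centralizer_singleton_iff.1 hgC).symm⟩
    have hDn : ∀ a ∈ A, ∀ d ∈ D, a * d * a⁻¹ ∈ D := by
      rintro a ha d ⟨hd1, hd2⟩
      refine ⟨hM.conj_mem d hd1 a, ?_⟩
      have hd2' := mem_centralizer_singleton_iff.1 hd2
      change a * d * a⁻¹ ∈ centralizer ({g} : Set G)
      rw [mem_centralizer_singleton_iff]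
      have h5 := hcomm a ha g hgA
      have h6 : a⁻¹ * g = g * a⁻¹ := by rw [inv_mul_eq_iff_eq_mul, ← mul_assoc, h5, mul_inv_cancel_right]
      calc a * d * a⁻¹ * g = a * d * (a⁻¹ * g) := by group
        _ = a * (d * g) * a⁻¹ := by rw [h6]; group
        _ = a * (g * d) * a⁻¹ := by rw [hd2']
        _ = (a * g) * d * a⁻¹ := by group
        _ = (g * a) * d * a⁻¹ := by rw [h5]
        _ = _ := by group
    have hDp : Nat.card D ∣ p := by
      have hIs : IsPGroup p D := by
        rw [IsPGroup.iff_orderOf]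
        rintro ⟨d, hd⟩
        rw [Subgroup.orderOf_mk]
        by_cases hd1 : d = 1
        · exact ⟨0, by rw [hd1, orderOf_one, pow_zero]⟩
        · exact ⟨1, by rw [hexp d hd.1 hd1, pow_one]⟩
      obtain ⟨c, hc⟩ := IsPGroup.iff_card.1 hIs
      have h5' : Nat.card D ∣ Nat.card (centralizer ({g} : Set G)) := Subgroup.card_dvd_of_le inf_le_right
      have h6 : c < 2 := by
        by_contra hlt
        push Not at hlt
        exact h5 g hg ((pow_dvd_pow p hlt).trans (hc ▸ h5'))
      rw [hc]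
      calc p ^ c ∣ p ^ 1 := pow_dvd_pow p (by omega)
        _ = p := pow_one p
    have hcard : Nat.card D = p := by
      rcases (Nat.dvd_prime hp).1 hDp with h6 | h6
      · exfalso
        rw [Subgroup.card_eq_one] at h6
        rw [h6] at hfD
        exact hf1 (Subgroup.mem_bot.1 hfD)
      · exact h6
    -- some element of `D` is centralised by `A`
    obtain ⟨d, hd, hd1, hdd⟩ : ∃ d ∈ D, d ≠ 1 ∧ ¬ 5 ∣ (centralizer ({d} : Set G)).relIndex A := by
      by_contra hno
      push Not at hno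
      obtain ⟨k, hk⟩ := card_sub_one D A hDn (d := 5) hno
      rw [hcard] at hk
      exact hp5 ⟨k, by omega⟩
    have h6 := relIndex_mul (centralizer ({d} : Set G)) A
    have h7 : (centralizer ({d} : Set G)).relIndex A ∣ 5 ^ 2 := by
      refine Dvd.intro (Nat.card ↥(centralizer ({d} : Set G) ⊓ A)) ?_
      rw [h6, hA]; norm_num
    obtain ⟨j, -, hj⟩ := (Nat.dvd_prime_pow hf5.1).1 h7
    have hj0 : j = 0 := by
      by_contra hj0
      exact hdd (hj ▸ dvd_pow_self _ hj0)
    rw [hj, hj0, pow_zero, one_mul, hA] at h6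
    apply hpp d (hexp d hd.1 hd1)
    rw [← h6]
    exact Subgroup.card_dvd_of_le inf_le_left
  rw [h2, mul_one, hA] at h1
  rw [h1]

/-- commuting copies of a group -/
theorem card_dvd_cent {K : Type*} [Group K] {m : ℕ} (hm : 2 ≤ m) (M : Subgroup G) (e : M ≃* (Fin m → K))
    {p : ℕ} (x : K) (hx : orderOf x = p) :
    ∃ f ∈ M, orderOf f = p ∧ Nat.card K ∣ Nat.card (centralizer ({f} : Set G)) := by
  classical
  let i : Fin m := ⟨0, by omega⟩
  let j : Fin m := ⟨1, by omega⟩
  have hij : i ≠ j := by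
    intro h
    have := congrArg Fin.val h
    simp [i, j] at this
  let φ : K →* G := M.subtype.comp (e.symm.toMonoidHom.comp (MonoidHom.mulSingle (fun _ : Fin m => K) i))
  let ψ : K →* G := M.subtype.comp (e.symm.toMonoidHom.comp (MonoidHom.mulSingle (fun _ : Fin m => K) j))
  have hφ : Function.Injective φ := M.subtype_injective.comp (e.symm.injective.comp (Pi.mulSingle_injective (M := fun _ : Fin m => K) i))
  have hψ : Function.Injective ψ := M.subtype_injective.comp (e.symm.injective.comp (Pi.mulSingle_injective (M := fun _ : Fin m => K) j))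
  refine ⟨φ x, (e.symm (Pi.mulSingle i x)).2, by rw [orderOf_injective φ hφ, hx], ?_⟩
  have h1 : ψ.range ≤ centralizer ({φ x} : Set G) := by
    rintro _ ⟨k, rfl⟩
    rw [mem_centralizer_singleton_iff]
    have h2 : Commute (Pi.mulSingle i x : Fin m → K) (Pi.mulSingle j k) :=
      Pi.mulSingle_commute (f := fun _ : Fin m => K) hij x k
    have h3 : e.symm (Pi.mulSingle j k) * e.symm (Pi.mulSingle i x) =
        e.symm (Pi.mulSingle i x) * e.symm (Pi.mulSingle j k) := by
      rw [← map_mul, ← map_mul, h2.eq]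
    exact congrArg Subtype.val h3
  have h2 : Nat.card K = Nat.card ψ.range := Nat.card_congr (MonoidHom.ofInjective hψ).toEquiv
  rw [h2]
  exact Subgroup.card_dvd_of_le h1

/-- centralizers in a subgroup -/
theorem card_cent_sub {T : Type*} [Group T] (R : Subgroup T) (x : R) :
    Nat.card (centralizer ({x} : Set R)) ∣ Nat.card (centralizer ({(x : T)} : Set T)) := by
  rw [← Subgroup.card_map_of_injective (K := centralizer ({x} : Set R)) R.subtype_injective]
  refine Subgroup.card_dvd_of_le ?_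
  rintro _ ⟨y, hy, rfl⟩
  rw [mem_centralizer_singleton_iff]
  exact congrArg Subtype.val (mem_centralizer_singleton_iff.1 hy)

end Cfsg.Agent.H217.Odm.Min
end

-- part: H217/Odm/McLAbs
section
prune_inst 0x106075442c2202000000059411003a44ec000190002b8801d9c006400807f30300000f007e901e0201e8a2a04048c000001000d9424000002e0086004005002084ab72c2b23cad04b7000fc0f887180c00000000000000000000000000041004000000000
set_option linter.all false
open scoped Cfsg.Agent.FastGrp

/-!
# The subgroups of `McL` of odd index and order divisible by `25` (TEAM ODDM, S4785, helper217)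
-/

set_option autoImplicit false
set_option linter.unusedSectionVars false
open Cfsg

namespace Cfsg.Agent.H217.Odm.McLAbs

open Subgroup Cfsg.Agent.H453.OddM Cfsg.Agent.OrdDiv Cfsg.Agent.H257.El Cfsg.Agent.H217.Odm.Min

universe u

/-- the local data inherited by subgroups -/
structure Fct (G : Type*) [Group G] : Prop where
  two5 : ∀ t : G, orderOf t = 2 → ¬ 25 ∣ Nat.card (centralizer ({t} : Set G))
  three5 : ∀ t : G, orderOf t = 3 → ¬ 25 ∣ Nat.card (centralizer ({t} : Set G))
  five3 : ∀ x : G, orderOf x = 5 → ¬ 9 ∣ Nat.card (centralizer ({x} : Set G))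
  five7 : ∀ x : G, orderOf x = 5 → ¬ 7 ∣ Nat.card (centralizer ({x} : Set G))
  seven : ∀ x : G, orderOf x = 7 → Nat.card (centralizer ({x} : Set G)) ∣ 14
  four : ∀ p : ℕ, p = 5 ∨ p = 7 ∨ p = 11 → ∀ x : G, orderOf x = p → ¬ 4 ∣ Nat.card (centralizer ({x} : Set G))
  norm : ∀ x : G, orderOf x = 7 → Nat.card (normalizer ((zpowers x : Subgroup G) : Set G)) ∣ 42
  ext : ∀ x : G, orderOf x = 7 → Nat.card (normalizer ((zpowers x : Subgroup G) : Set G)) = 42 →
    Nat.card (centralizer ({x} : Set G)) = 14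

theorem Fct.sub {T : Type*} [Group T] [Finite T] (h : Fct T)
    (hn : ∀ x : T, orderOf x = 7 → Nat.card (normalizer ((zpowers x : Subgroup T) : Set T)) = 42)
    (hc : ∀ x : T, orderOf x = 7 → Nat.card (centralizer ({x} : Set T)) = 14) (R : Subgroup T) : Fct R := by
  have ho : ∀ (x : R) {k : ℕ}, orderOf x = k → orderOf (x : T) = k := fun x k hx => by rw [Subgroup.orderOf_coe, hx]
  refine ⟨fun t ht hd => h.two5 t (ho t ht) (hd.trans (card_cent_sub R t)),
    fun t ht hd => h.three5 t (ho t ht) (hd.trans (card_cent_sub R t)),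
    fun t ht hd => h.five3 t (ho t ht) (hd.trans (card_cent_sub R t)),
    fun t ht hd => h.five7 t (ho t ht) (hd.trans (card_cent_sub R t)),
    fun t ht => (card_cent_sub R t).trans (h.seven t (ho t ht)),
    fun p hp t ht hd => h.four p hp t (ho t ht) (hd.trans (card_cent_sub R t)),
    fun t ht => (card_norm_dvd t).trans (h.norm t (ho t ht)), fun x hx h42 => ?_⟩
  -- the normalizer of `⟨x⟩` in `T` lies in `R`
  have h1 : (normalizer ((zpowers x : Subgroup R) : Set R)).map R.subtype ≤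
      normalizer ((zpowers (x : T) : Subgroup T) : Set T) := by
    rintro _ ⟨y, hy, rfl⟩
    have h2 := mem_normalizer_iff.1 hy
    change (y : T) ∈ normalizer ((zpowers (x : T) : Subgroup T) : Set T)
    have h3 : y * x * y⁻¹ ∈ zpowers x := (h2 x).1 (mem_zpowers x)
    have h4 : (y : T) * x * (y : T)⁻¹ ∈ zpowers (x : T) := by
      obtain ⟨k, hk⟩ := mem_zpowers_iff.1 h3
      exact mem_zpowers_iff.2 ⟨k, by
        have h5 := congrArg (Subtype.val) hk
        rwa [Subgroup.coe_zpow, Subgroup.coe_mul, Subgroup.coe_mul, Subgroup.coe_inv] at h5⟩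
    refine mem_normalizer_iff_map_conj_eq.2 ?_
    rw [MonoidHom.map_zpowers]
    apply Subgroup.eq_of_le_of_card_ge
    · rw [zpowers_le]
      exact h4
    · rw [Nat.card_zpowers, Nat.card_zpowers]
      exact (MulAut.conj (y : T)).orderOf_eq (x : T) |>.ge
  have h2 : (normalizer ((zpowers x : Subgroup R) : Set R)).map R.subtype =
      normalizer ((zpowers (x : T) : Subgroup T) : Set T) := by
    apply Subgroup.eq_of_le_of_card_ge h1
    rw [hn _ (ho x hx), Subgroup.card_map_of_injective R.subtype_injective, h42]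
  have h3 : centralizer ({(x : T)} : Set T) ≤ (centralizer ({x} : Set R)).map R.subtype := by
    intro z hz
    have h4 : z ∈ normalizer ((zpowers (x : T) : Subgroup T) : Set T) := by
      refine centralizer_le_normalizer _ ?_
      rw [mem_centralizer_iff]
      intro y hy
      obtain ⟨k, rfl⟩ := mem_zpowers_iff.1 hy
      exact ((show Commute z (x : T) from mem_centralizer_singleton_iff.1 hz).zpow_right k).eq.symm
    rw [← h2] at h4
    obtain ⟨w, -, rfl⟩ := h4
    refine ⟨w, ?_, rfl⟩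
    have h5 : (w : T) * (x : T) = (x : T) * w := mem_centralizer_singleton_iff.1 hz
    exact mem_centralizer_singleton_iff.2 (Subtype.ext h5)
  have h4 := Subgroup.card_dvd_of_le h3
  rw [hc _ (ho x hx), Subgroup.card_map_of_injective R.subtype_injective] at h4
  exact Nat.dvd_antisymm ((card_cent_sub R x).trans (h.seven _ (ho x hx))) h4

theorem prime_cases {p : ℕ} (hp : p.Prime) (hd : p ∣ 898128000) : p = 2 ∨ p = 3 ∨ p = 5 ∨ p = 7 ∨ p = 11 := by
  have h1 : p ∣ 2 ^ 7 * (3 ^ 6 * (5 ^ 3 * (7 * 11))) := by norm_num; exact hd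
  rcases (hp.dvd_mul).1 h1 with h | h
  · exact Or.inl ((Nat.prime_dvd_prime_iff_eq hp Nat.prime_two).1 (hp.dvd_of_dvd_pow h))
  rcases (hp.dvd_mul).1 h with h | h
  · exact Or.inr (Or.inl ((Nat.prime_dvd_prime_iff_eq hp Nat.prime_three).1 (hp.dvd_of_dvd_pow h)))
  rcases (hp.dvd_mul).1 h with h | h
  · exact Or.inr (Or.inr (Or.inl ((Nat.prime_dvd_prime_iff_eq hp Nat.prime_five).1 (hp.dvd_of_dvd_pow h))))
  rcases (hp.dvd_mul).1 h with h | h
  · exact Or.inr (Or.inr (Or.inr (Or.inl ((Nat.prime_dvd_prime_iff_eq hp (by norm_num)).1 h))))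
  · exact Or.inr (Or.inr (Or.inr (Or.inr ((Nat.prime_dvd_prime_iff_eq hp (by norm_num)).1 h))))

/-- no elementary abelian normal subgroups -/
theorem no_elab {G : Type*} [Group G] [Finite G] (F : Fct G) (hd : Nat.card G ∣ 898128000) (h2 : 2 ^ 7 ∣ Nat.card G)
    (h25 : 25 ∣ Nat.card G) (M : Subgroup G) (hM : M.Normal) (hne : M ≠ ⊥) {p : ℕ} (hp : p.Prime)
    (hexp : ∀ f ∈ M, f ≠ 1 → orderOf f = p) : False := by
  have hfp : Fact p.Prime := ⟨hp⟩
  have hf2 : Fact (Nat.Prime 2) := ⟨Nat.prime_two⟩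
  have hf5 : Fact (Nat.Prime 5) := ⟨Nat.prime_five⟩
  have hIs : IsPGroup p M := by
    rw [IsPGroup.iff_orderOf]
    rintro ⟨d, hd⟩
    rw [Subgroup.orderOf_mk]
    by_cases hd1 : d = 1
    · exact ⟨0, by rw [hd1, orderOf_one, pow_zero]⟩
    · exact ⟨1, by rw [hexp d hd hd1, pow_one]⟩
  obtain ⟨k, hk⟩ := IsPGroup.iff_card.1 hIs
  have hk0 : k ≠ 0 := by
    rintro rfl
    rw [pow_zero, Subgroup.card_eq_one] at hk
    exact hne hk
  have hpk : p ^ k ∣ 898128000 := by
    rw [← hk]; exact (Subgroup.card_subgroup_dvd_card M).trans hd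
  have hbd : ∀ j : ℕ, ¬ p ^ (j + 1) ∣ 898128000 → k ≤ j := by
    intro j hj
    by_contra hlt
    push Not at hlt
    exact hj ((pow_dvd_pow p hlt).trans hpk)
  obtain ⟨S, hS⟩ := Sylow.exists_subgroup_card_pow_prime 2 h2
  obtain ⟨A, hA⟩ := Sylow.exists_subgroup_card_pow_prime 5 (n := 2) (by norm_num; exact h25 : 5 ^ 2 ∣ Nat.card G)
  have hA' : Nat.card A = 25 := by rw [hA]; norm_num
  have hbig : (∀ f ∈ M, f ≠ 1 → ¬ 4 ∣ Nat.card (centralizer ({f} : Set G))) → ∃ j, p ^ k = 64 * j + 1 := by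
    intro h
    obtain ⟨j, hj⟩ := two_orbits (a := 6) M S hM hS h
    exact ⟨j, by rw [← hk, hj]; norm_num⟩
  rcases prime_cases hp ((dvd_pow_self p hk0).trans hpk) with rfl | rfl | rfl | rfl | rfl
  · obtain ⟨j, hj⟩ := free25 hp (by norm_num) (by norm_num) M hM hexp
      (fun g hg => by
        have h := F.four 5 (Or.inl rfl) g hg
        norm_num; exact h) F.two5 A hA'
    rw [hk] at hj
    have h7 := hbd 7 (by norm_num)
    interval_cases k <;> omega
  · obtain ⟨j, hj⟩ := free25 hp (by norm_num) (by norm_num) M hM hexp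
      (fun g hg => by
        have h := F.five3 g hg
        norm_num; exact h) F.three5 A hA'
    rw [hk] at hj
    have h7 := hbd 6 (by norm_num)
    interval_cases k <;> omega
  · obtain ⟨j, hj⟩ := hbig fun f hf hf1 => F.four 5 (by norm_num) f (hexp f hf hf1)
    have h7 := hbd 3 (by norm_num)
    interval_cases k <;> omega
  · obtain ⟨j, hj⟩ := hbig fun f hf hf1 => F.four 7 (by norm_num) f (hexp f hf hf1)
    have h7 := hbd 1 (by norm_num)
    interval_cases k <;> omega
  · obtain ⟨j, hj⟩ := hbig fun f hf hf1 => F.four 11 (by norm_num) f (hexp f hf hf1)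
    have h7 := hbd 1 (by norm_num)
    interval_cases k <;> omega

/-! ### simple normal subgroups -/

def nn : ℕ := 898128000
def ll : List (ℕ × ℕ) := [(2, 7), (3, 6), (5, 3), (7, 1), (11, 1)]

theorem valid_ll : valid ll nn = true := by decide +kernel

/-- nonabelian simple groups of order dividing `|McL|` -/
theorem all_four : ((cands ll nn).all fun g => (ordN g % 4 == 0) &&
    ((ordN g % 5 == 0) || (ordN g % 7 == 0) || (ordN g % 11 == 0))) = true := by decide +kernel

/-- the check for the groups of order prime to `25` -/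
def chk5 (c : ℕ) : Bool :=
  (c % 25 == 0) || (c % 7 == 0) || !((2 ^ (vt 2 c) % 5 == 1) || (2 ^ (vt 2 c) % 5 == 2)) ||
    !((3 ^ (vt 3 c) % 5 == 1) || (3 ^ (vt 3 c) % 5 == 3))

theorem all_chk5 : ((cands ll nn).all fun g => chk5 (ordN g)) = true := by decide +kernel

theorem list25 : ((cands ll nn).filter fun g => ordN g % 25 == 0) = [.alt 10, .alt 11, .psu 3 5, .j2, .mcl] := by
  decide +kernel

theorem exists_name (tab : OrderTable.{u}) (known : Known.{u}) {S : Type u} [Group S] [Finite S] [IsSimpleGroup S]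
    (hna : ¬ ∀ a b : S, a * b = b * a) (hd : Nat.card S ∣ 898128000) :
    ∃ g ∈ cands ll nn, Real g S ∧ Nat.card S = ordN g :=
  exists_good tab (known S) hna valid_ll hd

theorem sylow_check {G : Type*} [Group G] [Finite G] (F : Fct G) (M : Subgroup G) [hM : M.Normal]
    (hi : 5 ∣ M.index) {s : ℕ} (hs : s.Prime) :
    ∃ c : ℕ, (∃ y : G, orderOf y = 5 ∧ s ^ c ∣ Nat.card (centralizer ({y} : Set G))) ∧
      s ^ (Nat.card M).factorization s ≡ s ^ c [MOD 5] := by
  have hf5 : Fact (Nat.Prime 5) := ⟨Nat.prime_five⟩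
  have hfs : Fact s.Prime := ⟨hs⟩
  obtain ⟨P⟩ : Nonempty (Sylow s M) := inferInstance
  obtain ⟨y, hy, hyN⟩ := exists_normalizer' (r := 5) M hi P
  have hc : Nat.card ((P : Subgroup M).map M.subtype) = s ^ (Nat.card M).factorization s := by
    rw [Subgroup.card_map_of_injective M.subtype_injective]
    exact P.card_eq_multiplicity
  obtain ⟨c, h1, h2⟩ := modEq_cent Nat.prime_five hs hy hc hyN
  exact ⟨c, ⟨y, hy, h1⟩, h2⟩

theorem not25 {G : Type*} [Group G] [Finite G] (F : Fct G) (M : Subgroup G) [hM : M.Normal]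
    (h25 : 25 ∣ Nat.card G) (hd : Nat.card G ∣ 898128000) (hc : chk5 (Nat.card M) = true) :
    25 ∣ Nat.card M := by
  by_contra hn
  have h0 : Nat.card M ≠ 0 := Nat.card_pos.ne'
  have hle : Nat.card M < 2 ^ 300 := by
    have h1 : Nat.card M ≤ 898128000 := Nat.le_of_dvd (by norm_num) ((Subgroup.card_subgroup_dvd_card M).trans hd)
    calc Nat.card M ≤ 898128000 := h1
      _ < 2 ^ 30 := by norm_num
      _ ≤ 2 ^ 300 := Nat.pow_le_pow_right (by norm_num) (by norm_num)
  have hi : 5 ∣ M.index := by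
    by_contra hi
    rw [← Subgroup.card_mul_index M] at h25
    exact hn ((Nat.Coprime.dvd_of_dvd_mul_right (by
      have : Nat.Coprime 5 M.index := (Nat.Prime.coprime_iff_not_dvd Nat.prime_five).2 hi
      exact Nat.Coprime.pow_left 2 this) h25))
  unfold chk5 at hc
  rw [Bool.or_eq_true, Bool.or_eq_true, Bool.or_eq_true] at hc
  rcases hc with ((hc | hc) | hc) | hc
  · rw [beq_iff_eq] at hc
    exact hn (Nat.dvd_of_mod_eq_zero hc)
  · rw [beq_iff_eq] at hc
    obtain ⟨c, ⟨y, hy, h1⟩, h2⟩ := sylow_check F M hi (s := 7) (by norm_num)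
    have hc0 : c = 0 := by
      by_contra hc0
      exact F.five7 y hy ((dvd_pow_self 7 hc0).trans h1)
    have h3 : (Nat.card M).factorization 7 = 1 := by
      have h4 : 1 ≤ (Nat.card M).factorization 7 := by
        rw [← Nat.Prime.pow_dvd_iff_le_factorization (by norm_num) h0, pow_one]
        exact Nat.dvd_of_mod_eq_zero hc
      have h5 : ¬ 2 ≤ (Nat.card M).factorization 7 := by
        rw [← Nat.Prime.pow_dvd_iff_le_factorization (by norm_num) h0]
        intro h6
        have h7 := (h6.trans (Subgroup.card_subgroup_dvd_card M)).trans hd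
        norm_num at h7
      omega
    rw [h3, hc0] at h2
    exact absurd h2 (by decide)
  · rw [Bool.not_eq_true', Bool.or_eq_false_iff, beq_eq_false_iff_ne, beq_eq_false_iff_ne,
      vt_eq Nat.prime_two h0 hle] at hc
    obtain ⟨c, ⟨y, hy, h1⟩, h2⟩ := sylow_check F M hi Nat.prime_two
    have hc2 : c < 2 := by
      by_contra hc0
      push Not at hc0
      exact F.four 5 (Or.inl rfl) y hy ((pow_dvd_pow 2 hc0).trans h1)
    have h3 : c = 0 ∨ c = 1 := by omega
    rcases h3 with rfl | rfl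
    · exact hc.1 h2
    · exact hc.2 h2
  · rw [Bool.not_eq_true', Bool.or_eq_false_iff, beq_eq_false_iff_ne, beq_eq_false_iff_ne,
      vt_eq Nat.prime_three h0 hle] at hc
    obtain ⟨c, ⟨y, hy, h1⟩, h2⟩ := sylow_check F M hi Nat.prime_three
    have hc2 : c < 2 := by
      by_contra hc0
      push Not at hc0
      exact F.five3 y hy ((pow_dvd_pow 3 hc0).trans h1)
    have h3 : c = 0 ∨ c = 1 := by omega
    rcases h3 with rfl | rfl
    · exact hc.1 h2
    · exact hc.2 h2

/-- `A₁₀` has an element of order `7` commuting with an element of order `3` -/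
theorem alt_ten : ∃ x y : alternatingGroup (Fin 10), orderOf x = 7 ∧ orderOf y = 3 ∧ y * x = x * y := by
  refine ⟨⟨c[0, 1, 2, 3, 4, 5, 6], Equiv.Perm.mem_alternatingGroup.2 (by decide +kernel)⟩,
    ⟨c[7, 8, 9], Equiv.Perm.mem_alternatingGroup.2 (by decide +kernel)⟩, ?_, ?_, Subtype.ext (by decide +kernel)⟩
  · have : Fact (Nat.Prime 7) := ⟨by norm_num⟩
    exact orderOf_eq_prime (p := 7) (Subtype.ext (by decide +kernel))
      (fun h => absurd (congrArg Subtype.val h) (by decide +kernel))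
  · exact orderOf_eq_prime (p := 3) (Subtype.ext (by decide +kernel))
      (fun h => absurd (congrArg Subtype.val h) (by decide +kernel))

theorem no_alt {G : Type*} [Group G] [Finite G] (F : Fct G) {k : ℕ} (hk : 10 ≤ k)
    (f : alternatingGroup (Fin k) →* G) (hf : Function.Injective f) : False := by
  obtain ⟨i, hi⟩ := exists_alt_hom hk
  obtain ⟨x, y, hx, hy, hxy⟩ := alt_ten
  have hj : Function.Injective (f.comp i) := hf.comp hi
  have h1 := F.seven (f.comp i x) (by rw [orderOf_injective _ hj, hx])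
  have h2 : f.comp i y ∈ centralizer ({f.comp i x} : Set G) := by
    rw [mem_centralizer_singleton_iff, ← map_mul, hxy, map_mul]
  have h3 := orderOf_dvd_natCard (⟨f.comp i y, h2⟩ : centralizer ({f.comp i x} : Set G))
  rw [Subgroup.orderOf_mk, orderOf_injective _ hj, hy] at h3
  have h4 := h3.trans h1
  norm_num at h4

/-- no proper simple normal subgroup of `G`, and `G` is not simple -/
theorem no_simple {G : Type u} [Group G] [Finite G] (tab : OrderTable.{u}) (known : Known.{u}) (F : Fct G)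
    (hd : Nat.card G ∣ 898128000) (hlt : Nat.card G < 898128000) (h2 : 2 ^ 7 ∣ Nat.card G)
    (h25 : 25 ∣ Nat.card G) (hj2 : ∀ (S : Type u) [Group S], Real .j2 S → ∀ x : S, orderOf x = 7 →
      Nat.card (centralizer ({x} : Set S)) = 7) (M : Subgroup G) [hM : M.Normal] [hs : IsSimpleGroup M]
    (hna : ¬ ∀ a b : M, a * b = b * a) : False := by
  have hMd := (Subgroup.card_subgroup_dvd_card M).trans hd
  obtain ⟨g, hg, hr, hc⟩ := exists_name tab known hna hMd
  have hchk : chk5 (Nat.card M) = true := by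
    rw [hc]; exact (List.all_eq_true.1 all_chk5) g hg
  have hM25 := not25 F M h25 hd hchk
  have hg' : g ∈ ((cands ll nn).filter fun g => ordN g % 25 == 0) :=
    List.mem_filter.2 ⟨hg, by rw [beq_iff_eq, ← hc]; exact Nat.mod_eq_zero_of_dvd hM25⟩
  rw [list25] at hg'
  have h7 : Fact (Nat.Prime 7) := ⟨by norm_num⟩
  have hsq : ¬ 7 ^ 2 ∣ Nat.card G := fun h => by
    have := h.trans hd
    norm_num at this
  -- elements of order 7
  have hseven : 7 ∣ Nat.card M → ∃ (x : G) (m : ℕ), orderOf x = 7 ∧ x ∈ M ∧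
      7 * m ∣ Nat.card (normalizer ((zpowers x : Subgroup G) : Set G)) ∧ (Nat.card M / 7) % 7 = m % 7 ∧
      Nat.card G * (7 * m) = Nat.card M * Nat.card (normalizer ((zpowers x : Subgroup G) : Set G)) := by
    intro h
    obtain ⟨x, hx⟩ := exists_prime_orderOf_dvd_card' 7 h
    have hx' : orderOf (x : G) = 7 := by rw [Subgroup.orderOf_coe, hx]
    obtain ⟨m, h3, h4, h5⟩ := frattini_card h7.1 hsq M (zpowers (x : G)) (by rw [Nat.card_zpowers, hx'])
      (by rw [zpowers_le]; exact x.2)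
    exact ⟨x, m, hx', x.2, h3, h4, h5⟩
  simp only [List.mem_cons, List.not_mem_nil, or_false] at hg'
  rcases hg' with rfl | rfl | rfl | rfl | rfl
  · obtain ⟨e⟩ : Nonempty (M ≃* ↥(alternatingGroup (Fin 10))) := hr
    exact no_alt F le_rfl (M.subtype.comp e.symm.toMonoidHom) (M.subtype_injective.comp e.symm.injective)
  · obtain ⟨e⟩ : Nonempty (M ≃* ↥(alternatingGroup (Fin 11))) := hr
    exact no_alt F (by norm_num) (M.subtype.comp e.symm.toMonoidHom) (M.subtype_injective.comp e.symm.injective)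
  · have hc' : Nat.card M = 126000 := by rw [hc]; decide +kernel
    obtain ⟨x, m, hx, -, h3, h4, h5⟩ := hseven (by rw [hc']; norm_num)
    rw [hc'] at h5
    have h6 : 2 ^ 7 ∣ 126000 * 42 := by
      have h7 : 2 ^ 7 ∣ 126000 * Nat.card (normalizer ((zpowers x : Subgroup G) : Set G)) := by
        rw [← h5]; exact Dvd.dvd.mul_right h2 _
      exact h7.trans (Nat.mul_dvd_mul_left _ (F.norm x hx))
    norm_num at h6
  · have hc' : Nat.card M = 604800 := by rw [hc]; decide +kernel
    obtain ⟨x, m, hx, hxM, h3, h4, h5⟩ := hseven (by rw [hc']; norm_num)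
    rw [hc'] at h4 h5
    have h6 : 7 * m ∣ 7 * 6 := h3.trans (F.norm x hx)
    have h7' : m ∣ 6 := Nat.dvd_of_mul_dvd_mul_left (by norm_num) h6
    have h8 : m = 6 := by
      have h9 : m ≤ 6 := Nat.le_of_dvd (by norm_num) h7'
      norm_num at h4
      omega
    rw [h8] at h3 h5
    have h9 : Nat.card (normalizer ((zpowers x : Subgroup G) : Set G)) = 42 :=
      Nat.dvd_antisymm (F.norm x hx) h3
    have h10 : Nat.card G = 604800 := by rw [h9] at h5; omega
    have h11 : M = ⊤ := Subgroup.eq_top_of_card_eq M (by rw [hc', h10])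
    have h12 := F.ext x hx h9
    have h13 := hj2 M hr ⟨x, hxM⟩ (by rw [Subgroup.orderOf_mk, hx])
    have h14 : (centralizer ({x} : Set G)) ≤ (centralizer ({(⟨x, hxM⟩ : M)} : Set M)).map M.subtype := by
      intro z hz
      have hzM : z ∈ M := by rw [h11]; trivial
      refine ⟨⟨z, hzM⟩, ?_, rfl⟩
      exact mem_centralizer_singleton_iff.2 (Subtype.ext (mem_centralizer_singleton_iff.1 hz))
    have h15 := Subgroup.card_le_of_le h14
    rw [Subgroup.card_map_of_injective M.subtype_injective, h13, h12] at h15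
    omega
  · have hc' : Nat.card M = 898128000 := by rw [hc]; decide +kernel
    have h3 := Nat.le_of_dvd Nat.card_pos (Subgroup.card_subgroup_dvd_card M)
    omega

/-- **the main lemma** -/
theorem main {G : Type u} [Group G] [Finite G] (tab : OrderTable.{u}) (known : Known.{u}) (F : Fct G)
    (hd : Nat.card G ∣ 898128000) (hlt : Nat.card G < 898128000) (h2 : 2 ^ 7 ∣ Nat.card G)
    (h25 : 25 ∣ Nat.card G) (hj2 : ∀ (S : Type u) [Group S], Real .j2 S → ∀ x : S, orderOf x = 7 →
      Nat.card (centralizer ({x} : Set S)) = 7) : False := by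
  have hnt : Nontrivial G := by
    rw [← Finite.one_lt_card_iff_nontrivial]
    exact lt_of_lt_of_le (by norm_num) (Nat.le_of_dvd Nat.card_pos h2)
  obtain ⟨M, hM, hne, hmin⟩ := Cfsg.Agent.Lib.SubnormalJoin.exists_minimal_normal G
  obtain ⟨K, m, hK, hsim, hm, ⟨e⟩⟩ := Cfsg.Agent.Lib.MinNormal.exists_mulEquiv_pi M hne hmin
  have hKd := (Subgroup.card_subgroup_dvd_card K).trans hd
  by_cases hna : ∀ a b : K, a * b = b * a
  · -- abelian
    have hp : (Nat.card K).Prime := by
      let _ : CommGroup K := { (inferInstance : Group K) with mul_comm := hna }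
      exact IsSimpleGroup.prime_card
    refine no_elab F hd h2 h25 M hM hne hp fun f hf hf1 => ?_
    have hfp : Fact (Nat.card K).Prime := ⟨hp⟩
    refine orderOf_eq_prime ?_ hf1
    have h1 : (⟨f, hf⟩ : M) ^ Nat.card K = 1 := by
      apply e.injective
      rw [map_pow, map_one]
      funext i
      rw [Pi.pow_apply, Pi.one_apply]
      exact pow_card_eq_one'
    exact congrArg Subtype.val h1
  · obtain ⟨g, hg, hr, hc⟩ := exists_name tab known hna hKd
    have h4 := (List.all_eq_true.1 all_four) g hg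
    rw [Bool.and_eq_true, Bool.or_eq_true, Bool.or_eq_true, beq_iff_eq, beq_iff_eq, beq_iff_eq, beq_iff_eq, ← hc] at h4
    obtain ⟨h4, h5⟩ := h4
    by_cases hm2 : 2 ≤ m
    · obtain ⟨p, hp, hpp, hpd⟩ : ∃ p : ℕ, p.Prime ∧ (p = 5 ∨ p = 7 ∨ p = 11) ∧ p ∣ Nat.card K := by
        rcases h5 with (h5 | h5) | h5
        · exact ⟨5, by norm_num, by norm_num, Nat.dvd_of_mod_eq_zero h5⟩
        · exact ⟨7, by norm_num, by norm_num, Nat.dvd_of_mod_eq_zero h5⟩
        · exact ⟨11, by norm_num, by norm_num, Nat.dvd_of_mod_eq_zero h5⟩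
      have hfp : Fact p.Prime := ⟨hp⟩
      obtain ⟨x, hx⟩ := exists_prime_orderOf_dvd_card' p hpd
      obtain ⟨f, -, hf, hcard⟩ := card_dvd_cent hm2 M e x hx
      exact F.four p hpp f hf ((Nat.dvd_of_mod_eq_zero h4).trans hcard)
    · have hm1 : m = 1 := by omega
      subst hm1
      have e' : M ≃* K := e.trans (MulEquiv.funUnique (Fin 1) K)
      have hntK : Nontrivial K := inferInstance
      have hntM : Nontrivial M := e'.toEquiv.nontrivial
      have hsM : IsSimpleGroup M := IsSimpleGroup.isSimpleGroup_of_surjective e'.symm.toMonoidHom e'.symm.surjective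
      refine no_simple tab known F hd hlt h2 h25 hj2 M fun h => hna fun a b => ?_
      have h6 := h (e'.symm a) (e'.symm b)
      rw [← map_mul, ← map_mul] at h6
      exact e'.symm.injective h6

end Cfsg.Agent.H217.Odm.McLAbs
end

-- part: H270/Odm/Frame
section
prune_inst 0x106075444c22120000180584b1003a40bc00009200488000084003400148c040200488013830101200b888506008004000000080427800000e000c000005002090801202b008a100a0000f000080000000000000000000000000000000000004000000000
set_option linter.all false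
open scoped Cfsg.Agent.FastGrp

/-!
# S4785 (TEAM ODDM), B-ROW: invariant points of subgroups of odd index (helper270)

`exists_sq` : `Q` has an orthonormal frame `e` (all `Q (e i) = 1`), `R ≤ PΩ(Q)` has odd index and stabilises the
non-singular point `⟨v⟩`: then `Q v` is a square.
`isPlus_of_sq` : for `quadFormOdd`, `Q v = c²`: the space `v^⊥` has plus type.
-/

set_option autoImplicit false

namespace Cfsg.Agent.H270.Odm

open Module QuadraticMap Matrix Cfsg Cfsg.Geo Cfsg.Agent.H955 Cfsg.Agent.ClassicalGeometry.Reflection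
open Cfsg.Agent.H884.El (pre mem_pre)
open Cfsg.Agent.LieClassical.OrthCore Cfsg.Agent.LieClassical.OrthForms
open scoped MatrixGroups commutatorElement

section Frame

variable {ι : Type} [Fintype ι] [DecidableEq ι] {F : Type} [Field F] {I : Type}

/-- an orthonormal frame -/
structure ON (Q : QuadraticForm F (ι → F)) (e : I → ι → F) : Prop where
  one : ∀ i, Q (e i) = 1
  orth : ∀ i j, i ≠ j → polar Q (e i) (e j) = 0
  full : ∀ u, (∀ i, polar Q (e i) u = 0) → u = 0
  three : ∀ i j : I, ∃ k, k ≠ i ∧ k ≠ j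

/-- the matrix of an isometry -/
abbrev mt {q : (ι → F) → F} (g : isometryGroup F q) : Matrix ι ι F := ((g : GL ι F) : Matrix ι ι F)

variable {Q : QuadraticForm F (ι → F)}

theorem mt_isom (g : isometryGroup F ⇑Q) (v : ι → F) : Q (mt g *ᵥ v) = Q v :=
  (mem_isometryGroup_iff ⇑Q _).1 g.2 v

theorem mt_polar (g : isometryGroup F ⇑Q) (v w : ι → F) : polar ⇑Q (mt g *ᵥ v) (mt g *ᵥ w) = polar ⇑Q v w :=
  polar_mulVec_of_isometry Q _ (mt_isom g) v w

theorem mt_mul_vec {q : (ι → F) → F} (g h : isometryGroup F q) (v : ι → F) : mt (g * h) *ᵥ v = mt g *ᵥ (mt h *ᵥ v) :=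
  coe_mul_mulVec q g h v

theorem mt_one_vec {q : (ι → F) → F} (v : ι → F) : mt (1 : isometryGroup F q) *ᵥ v = v :=
  Matrix.one_mulVec v

theorem mt_inv_vec {q : (ι → F) → F} (g : isometryGroup F q) (v : ι → F) : mt g *ᵥ (mt g⁻¹ *ᵥ v) = v := by
  rw [← mt_mul_vec, mul_inv_cancel, mt_one_vec]

theorem mt_inv_vec' {q : (ι → F) → F} (g : isometryGroup F q) (v : ι → F) : mt g⁻¹ *ᵥ (mt g *ᵥ v) = v := by
  rw [← mt_mul_vec, inv_mul_cancel, mt_one_vec]

/-- two vectors with the same nonzero value are conjugate -/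
theorem exists_isom (h2 : (2 : F) ≠ 0) {u w : ι → F} (h : Q u = Q w) (h0 : Q w ≠ 0) :
    ∃ g : isometryGroup F ⇑Q, mt g *ᵥ u = w := by
  by_cases h1 : Q (u - w) = 0
  · have h3 : Q (u - -w) ≠ 0 := by
      intro h3
      apply h0
      have h4 : Q (u + w) = 0 := by rwa [sub_neg_eq_add] at h3
      rw [map_add'] at h4
      rw [sub_eq_add_neg, map_add', QuadraticMap.map_neg, QuadraticMap.polar_neg_right] at h1
      have h5 : 2 * (2 * Q w) = 0 := by
        rw [h] at h1 h4
        linear_combination h1 + h4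
      exact (mul_eq_zero.1 ((mul_eq_zero.1 h5).resolve_left h2)).resolve_left h2
    refine ⟨reflIso Q w h0 * reflIso Q (u - -w) h3, ?_⟩
    rw [mt_mul_vec]
    have h4 : mt (reflIso Q (u - -w) h3) *ᵥ u = -w :=
      reflectionMatrix_sub_mulVec Q u (-w) (by rw [QuadraticMap.map_neg, h]) h3
    rw [h4]
    show reflectionMatrix (⇑Q) w *ᵥ (-w) = w
    rw [Matrix.mulVec_neg, reflectionMatrix_mulVec_self Q w h0, neg_neg]
  · exact ⟨reflIso Q (u - w) h1, reflectionMatrix_sub_mulVec Q u w h h1⟩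

variable {e : I → ι → F}

/-- the reflections of the frame -/
noncomputable def rr (h : ON Q e) (i : I) : isometryGroup F ⇑Q :=
  reflIso Q (e i) (by rw [h.one]; exact one_ne_zero)

theorem rr_self (h : ON Q e) (i : I) : mt (rr h i) *ᵥ e i = -e i :=
  reflectionMatrix_mulVec_self Q (e i) (by rw [h.one]; exact one_ne_zero)

theorem rr_ne (h : ON Q e) {i j : I} (hij : i ≠ j) : mt (rr h i) *ᵥ e j = e j :=
  reflectionMatrix_mulVec_of_polar_eq_zero Q _ _ (h.orth i j hij)

theorem rr_mul_mem (h2 : (2 : F) ≠ 0) (h : ON Q e) {i j : I} (hij : i ≠ j) :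
    rr h i * rr h j ∈ Omega F ⇑Q := by
  have h1 : Q (e i - e j) ≠ 0 := by
    rw [sub_eq_add_neg, map_add', QuadraticMap.map_neg, QuadraticMap.polar_neg_right, h.orth i j hij, h.one, h.one]
    intro h0
    apply h2
    linear_combination h0
  have h3 : mt (reflIso Q (e i - e j) h1) *ᵥ e i = e j :=
    reflectionMatrix_sub_mulVec Q (e i) (e j) (by rw [h.one, h.one]) h1
  have h4 : rr h j = reflIso Q (e i - e j) h1 * rr h i * (reflIso Q (e i - e j) h1)⁻¹ := by
    have h5 := conj_reflIso Q (e i) (by rw [h.one]; exact one_ne_zero) (reflIso Q (e i - e j) h1)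
      (by rw [h3, h.one]; exact one_ne_zero)
    unfold rr
    rw [h5]
    congr 1
    exact h3.symm
  have h5 : rr h i * rr h j = ⁅rr h i, reflIso Q (e i - e j) h1⁆ := by
    have h6 : (rr h i)⁻¹ = rr h i := reflIso_inv Q _ _
    rw [commutatorElement_def, h6]
    conv_lhs => rw [h4]
    group
  rw [h5]
  exact Subgroup.commutator_mem_commutator (Subgroup.mem_top _) (Subgroup.mem_top _)

/-- the diagonal subgroup -/
def diag (Q : QuadraticForm F (ι → F)) (e : I → ι → F) : Subgroup (Omega F ⇑Q) where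
  carrier := {x | ∀ i, mt (x : isometryGroup F ⇑Q) *ᵥ e i = e i ∨ mt (x : isometryGroup F ⇑Q) *ᵥ e i = -e i}
  one_mem' := fun i => Or.inl (mt_one_vec _)
  mul_mem' := by
    intro x y hx hy i
    have h1 : mt ((x * y : Omega F ⇑Q) : isometryGroup F ⇑Q) *ᵥ e i =
        mt (x : isometryGroup F ⇑Q) *ᵥ (mt (y : isometryGroup F ⇑Q) *ᵥ e i) := mt_mul_vec _ _ _
    rw [h1]
    rcases hy i with h2 | h2 <;> rw [h2]
    · exact hx i
    · rw [Matrix.mulVec_neg]
      rcases hx i with h3 | h3 <;> rw [h3]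
      · exact Or.inr rfl
      · exact Or.inl (neg_neg _)
  inv_mem' := by
    intro x hx i
    have h1 : mt ((x⁻¹ : Omega F ⇑Q) : isometryGroup F ⇑Q) *ᵥ (mt (x : isometryGroup F ⇑Q) *ᵥ e i) = e i :=
      mt_inv_vec' _ _
    rcases hx i with h2 | h2
    · rw [h2] at h1
      exact Or.inl h1
    · rw [h2, Matrix.mulVec_neg] at h1
      exact Or.inr (neg_eq_iff_eq_neg.1 h1)

theorem diag_sq (h : ON Q e) {x : Omega F ⇑Q} (hx : x ∈ diag Q e) : x * x = 1 := by
  apply Subtype.ext
  apply isometryGroup_ext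
  intro u
  have h1 : ∀ i, mt ((x * x : Omega F ⇑Q) : isometryGroup F ⇑Q) *ᵥ e i = e i := by
    intro i
    have h2 : mt ((x * x : Omega F ⇑Q) : isometryGroup F ⇑Q) *ᵥ e i =
        mt (x : isometryGroup F ⇑Q) *ᵥ (mt (x : isometryGroup F ⇑Q) *ᵥ e i) := mt_mul_vec _ _ _
    rw [h2]
    rcases hx i with h3 | h3
    · rw [h3, h3]
    · rw [h3, Matrix.mulVec_neg, h3, neg_neg]
  have h2 : mt ((x * x : Omega F ⇑Q) : isometryGroup F ⇑Q) *ᵥ u - u = 0 := by
    apply h.full
    intro i
    have h3 : polar ⇑Q (e i) (mt ((x * x : Omega F ⇑Q) : isometryGroup F ⇑Q) *ᵥ u) = polar ⇑Q (e i) u := by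
      conv_lhs => rw [← h1 i]
      exact mt_polar _ _ _
    rw [QuadraticMap.polar_sub_right, h3, sub_self]
  rw [sub_eq_zero] at h2
  rw [h2]
  exact (mt_one_vec u).symm

theorem diag_pgroup (h : ON Q e) : IsPGroup 2 (diag Q e) := by
  intro x
  refine ⟨1, ?_⟩
  simp only [pow_one, pow_two]
  exact Subtype.ext (diag_sq h x.2)

theorem rr_mem_diag (h2 : (2 : F) ≠ 0) (h : ON Q e) {i j : I} (hij : i ≠ j) :
    (⟨rr h i * rr h j, rr_mul_mem h2 h hij⟩ : Omega F ⇑Q) ∈ diag Q e := by
  intro k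
  show mt (rr h i * rr h j) *ᵥ e k = e k ∨ mt (rr h i * rr h j) *ᵥ e k = -e k
  rw [mt_mul_vec]
  by_cases h3 : j = k
  · subst h3
    rw [rr_self, Matrix.mulVec_neg, rr_ne h hij]
    exact Or.inr rfl
  · rw [rr_ne h h3]
    by_cases h4 : i = k
    · subst h4
      rw [rr_self]
      exact Or.inr rfl
    · rw [rr_ne h h4]
      exact Or.inl rfl

/-- **invariant points of subgroups of odd index** -/
theorem exists_sq [Finite F] (h2 : (2 : F) ≠ 0) (h : ON Q e) {R : Subgroup (POmega F ⇑Q)} (hR : Odd R.index)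
    {v : ι → F} (hv : Q v ≠ 0) (hst : pre (⇑Q) R ≤ subspaceStabilizer (Submodule.span F {v})) :
    ∃ c : F, Q v = c ^ 2 := by
  have hfin : Finite (isometryGroup F ⇑Q) := Subtype.finite
  obtain ⟨g, hg⟩ := H453.OddM.Cov.two_group hR
    ((diag_pgroup h).map (QuotientGroup.mk' (Subgroup.center (Omega F ⇑Q))))
  obtain ⟨g, rfl⟩ := QuotientGroup.mk'_surjective _ g
  -- the vector `u = g⁻¹ v`
  set u : ι → F := mt ((g : isometryGroup F ⇑Q))⁻¹ *ᵥ v with hu
  have hQu : Q u = Q v := mt_isom _ _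
  have hinv : ∀ x ∈ diag Q e, ∃ c : F, mt (x : isometryGroup F ⇑Q) *ᵥ u = c • u := by
    intro x hx
    have h3 : (((g * x * g⁻¹ : Omega F ⇑Q) : isometryGroup F ⇑Q) : GL ι F) ∈ pre (⇑Q) R := by
      rw [mem_pre]
      have h4 := hg _ ⟨x, hx, rfl⟩
      (simp only [← map_mul, ← map_inv, ← map_mul] at h4; assumption)
    have h4 := (hst h3 v).1 (Submodule.mem_span_singleton_self v)
    obtain ⟨c, hc⟩ := Submodule.mem_span_singleton.1 h4
    refine ⟨c, ?_⟩
    have h5 : mt ((g : isometryGroup F ⇑Q) * (x : isometryGroup F ⇑Q) * (g : isometryGroup F ⇑Q)⁻¹) *ᵥ v = c • v :=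
      hc.symm
    rw [mt_mul_vec, mt_mul_vec] at h5
    have h6 := congrArg (fun w => mt (g : isometryGroup F ⇑Q)⁻¹ *ᵥ w) h5
    rw [mt_inv_vec', Matrix.mulVec_smul] at h6
    exact h6
  have hne : ∃ k, polar Q (e k) u ≠ 0 := by
    by_contra hcon
    push Not at hcon
    apply hv
    rw [← hQu, h.full u hcon, QuadraticMap.map_zero]
  obtain ⟨k, hk⟩ := hne
  have hz : ∀ i, i ≠ k → polar Q (e i) u = 0 := by
    intro i hik
    obtain ⟨j, hji, hjk⟩ := h.three i k
    obtain ⟨c, hc⟩ := hinv _ (rr_mem_diag h2 h hji.symm)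
    have hc' : mt (rr h i * rr h j) *ᵥ u = c • u := hc
    have h3 : polar Q (e k) u = c * polar Q (e k) u := by
      have h4 : mt (rr h i * rr h j) *ᵥ e k = e k := by
        rw [mt_mul_vec, rr_ne h hjk, rr_ne h hik]
      calc polar Q (e k) u = polar Q (mt (rr h i * rr h j) *ᵥ e k) (mt (rr h i * rr h j) *ᵥ u) :=
            (mt_polar _ _ _).symm
        _ = c * polar Q (e k) u := by rw [h4, hc', polar_smul_right, smul_eq_mul]
    have h4 : c = 1 := by
      have h5 : (1 - c) * polar Q (e k) u = 0 := by linear_combination h3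
      rcases mul_eq_zero.1 h5 with h6 | h6
      · linear_combination -h6
      · exact absurd h6 hk
    have h5 : polar Q (e i) u = -(c * polar Q (e i) u) := by
      have h6 : mt (rr h i * rr h j) *ᵥ e i = -e i := by
        rw [mt_mul_vec, rr_ne h hji, rr_self]
      calc polar Q (e i) u = polar Q (mt (rr h i * rr h j) *ᵥ e i) (mt (rr h i * rr h j) *ᵥ u) :=
            (mt_polar _ _ _).symm
        _ = -(c * polar Q (e i) u) := by rw [h6, hc', polar_smul_right, polar_neg_left, smul_eq_mul]; ring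
    rw [h4, one_mul] at h5
    have h6 : 2 * polar Q (e i) u = 0 := by linear_combination h5
    exact (mul_eq_zero.1 h6).resolve_left h2
  -- `u` is a multiple of `e k`
  have h3 : u = (polar Q (e k) u / 2) • e k := by
    rw [← sub_eq_zero]
    apply h.full
    intro i
    rw [polar_sub_right, polar_smul_right, smul_eq_mul]
    by_cases hik : i = k
    · subst hik
      rw [LieClassical.OrthCore.polar_self', h.one, mul_one, div_mul_cancel₀ _ h2, sub_self]
    · rw [hz i hik, h.orth i k hik, mul_zero, sub_zero]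
  refine ⟨polar Q (e k) u / 2, ?_⟩
  rw [← hQu]
  conv_lhs => rw [h3]
  rw [QuadraticMap.map_smul, h.one, smul_eq_mul, mul_one, pow_two]

end Frame

end Cfsg.Agent.H270.Odm

private theorem dce_59d8fa12627f : _root_.True := by
  try have : _root_.True := by simp only [_root_.Cfsg.Agent.H270.Odm.rr.congr_simp]
  exact _root_.True.intro
end
end

-- part: H907/Odm/CovPre
section
prune_inst 0x10000000400000
set_option linter.all false
open scoped Cfsg.Agent.FastGrp

-- part: H907/Odm/Model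
section
/-!
# The model `F⁶ ⊥ H^n` for `Ω_{2m}^ε(q)`, `m = n + 3`, `n` even
-/

set_option autoImplicit false
set_option linter.unusedSectionVars false

namespace Cfsg.Agent.H907.Odm

open Matrix

variable {F : Type*} [Field F]

/-! ### the six dimensional part -/

/-- `x₁ y₁ + x₂ y₂ + z₁² + D z₂²` -/
def q6 (D : F) (p : Fin 6 → F) : F := p 0 * p 1 + p 2 * p 3 + p 4 ^ 2 + D * p 5 ^ 2

/-- the polar form of `q6` -/
def b6 (D : F) (p r : Fin 6 → F) : F :=
  p 0 * r 1 + p 1 * r 0 + (p 2 * r 3 + p 3 * r 2) + 2 * (p 4 * r 4) + 2 * D * (p 5 * r 5)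

/-- `J₃ ⊥ J₃` -/
def w6 (D t : F) : (Fin 6 → F) →ₗ[F] (Fin 6 → F) where
  toFun p := ![p 0 - 2 * t * p 4 - t ^ 2 * p 1, p 1, p 2 - 2 * t * D * p 5 - t ^ 2 * D * p 3, p 3,
    p 4 + t * p 1, p 5 + t * p 3]
  map_add' p r := by
    funext i
    (revert i; simp only [_root_.Fin.forall_fin_succ, _root_.Nat.succ_eq_add_one, Nat.reduceAdd, Fin.isValue, _root_.Pi.add_apply, _root_.Matrix.cons_val_zero, _root_.Matrix.cons_val_succ, _root_.Matrix.cons_val_fin_one, _root_.forall_const, _root_.true_and]) <;> (repeat' with_reducible apply And.intro) <;> ring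
  map_smul' c p := by
    funext i
    (revert i; simp only [_root_.Fin.forall_fin_succ, _root_.Nat.succ_eq_add_one, Nat.reduceAdd, Fin.isValue, _root_.Pi.smul_apply, _root_.smul_eq_mul, _root_.RingHom.id_apply, _root_.Matrix.cons_val_zero, _root_.Matrix.cons_val_succ, _root_.Matrix.cons_val_fin_one, _root_.forall_const, _root_.true_and]) <;> (repeat' with_reducible apply And.intro) <;> ring

theorem w6_apply (D t : F) (p : Fin 6 → F) : w6 D t p =
    ![p 0 - 2 * t * p 4 - t ^ 2 * p 1, p 1, p 2 - 2 * t * D * p 5 - t ^ 2 * D * p 3, p 3,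
    p 4 + t * p 1, p 5 + t * p 3] := rfl

theorem q6_w6 (D t : F) (p : Fin 6 → F) : q6 D (w6 D t p) = q6 D p := by
  simp only [q6, w6_apply]
  simp only [_root_.Nat.succ_eq_add_one, _root_.Nat.reduceAdd, _root_.Fin.isValue, _root_.Matrix.cons_val_zero, _root_.Matrix.cons_val_one, _root_.Matrix.cons_val]
  ring

theorem w6_w6 (D s t : F) (p : Fin 6 → F) : w6 D s (w6 D t p) = w6 D (s + t) p := by
  funext i
  (revert i; simp only [w6_apply, _root_.Fin.forall_fin_succ, _root_.Nat.succ_eq_add_one, Nat.reduceAdd, Fin.isValue, _root_.Matrix.cons_val_zero, _root_.Matrix.cons_val, _root_.Matrix.cons_val_one, _root_.Matrix.cons_val_succ, _root_.Matrix.cons_val_fin_one, _root_.forall_const, _root_.true_and]) <;> (repeat' with_reducible apply And.intro) <;> ring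

theorem w6_zero (D : F) (p : Fin 6 → F) : w6 D 0 p = p := by
  funext i
  (revert i; simp only [w6_apply, _root_.Fin.forall_fin_succ, _root_.Nat.succ_eq_add_one, Nat.reduceAdd, Fin.isValue, _root_.MulZeroClass.mul_zero, _root_.MulZeroClass.zero_mul, _root_.sub_zero, _root_.ne_eq, _root_.OfNat.ofNat_ne_zero, _root_.not_false_eq_true, _root_.zero_pow, _root_.add_zero, _root_.Matrix.cons_val_zero, _root_.Matrix.cons_val_succ, _root_.Fin.succ_zero_eq_one, _root_.Fin.succ_one_eq_two, Fin.reduceSucc, _root_.Matrix.cons_val_fin_one, _root_.IsEmpty.forall_iff, _root_.and_self])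

/-- the inverting element -/
def g6 : (Fin 6 → F) →ₗ[F] (Fin 6 → F) where
  toFun p := fun i => (![1, 1, 1, 1, -1, -1] : Fin 6 → F) i * p i
  map_add' p r := by
    funext i
    simp [mul_add]
  map_smul' c p := by
    funext i
    simp [mul_left_comm]

theorem g6_apply (p : Fin 6 → F) : g6 p = ![p 0, p 1, p 2, p 3, - p 4, - p 5] := by
  funext i
  (revert i; simp only [g6, _root_.Fin.forall_fin_succ, _root_.LinearMap.coe_mk, _root_.AddHom.coe_mk, _root_.Nat.succ_eq_add_one, Nat.reduceAdd, Fin.isValue, _root_.Matrix.cons_val_zero, _root_.one_mul, _root_.Matrix.cons_val_succ, _root_.Fin.succ_zero_eq_one, _root_.Fin.succ_one_eq_two, Fin.reduceSucc, _root_.neg_mul, _root_.Matrix.cons_val_fin_one, _root_.neg_inj, _root_.IsEmpty.forall_iff, _root_.and_self])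

theorem q6_g6 (D : F) (p : Fin 6 → F) : q6 D (g6 p) = q6 D p := by
  simp only [q6, g6_apply]
  simp only [_root_.Nat.succ_eq_add_one, _root_.Nat.reduceAdd, _root_.Fin.isValue, _root_.Matrix.cons_val_zero, _root_.Matrix.cons_val_one, _root_.Matrix.cons_val, _root_.even_two, _root_.Even.neg_pow]

theorem g6_g6 (p : Fin 6 → F) : g6 (g6 p) = p := by
  funext i
  (revert i; simp only [g6_apply, _root_.Fin.forall_fin_succ, _root_.Nat.succ_eq_add_one, Nat.reduceAdd, Fin.isValue, _root_.Matrix.cons_val_zero, _root_.Matrix.cons_val_one, _root_.Matrix.cons_val, _root_.neg_neg, _root_.Matrix.cons_val_succ, _root_.Fin.succ_zero_eq_one, _root_.Fin.succ_one_eq_two, Fin.reduceSucc, _root_.Matrix.cons_val_fin_one, _root_.IsEmpty.forall_iff, _root_.and_self])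

theorem g6_w6 (D t : F) (p : Fin 6 → F) : g6 (w6 D t (g6 p)) = w6 D (-t) p := by
  funext i
  (revert i; simp only [g6_apply, w6_apply, _root_.Fin.forall_fin_succ, _root_.Nat.succ_eq_add_one, Nat.reduceAdd, Fin.isValue, _root_.Matrix.cons_val_zero, _root_.Matrix.cons_val, _root_.mul_neg, _root_.sub_neg_eq_add, _root_.Matrix.cons_val_one, _root_.neg_add_rev, _root_.neg_neg, _root_.neg_mul, _root_.even_two, _root_.Even.neg_pow, _root_.Matrix.cons_val_succ, _root_.Matrix.cons_val_fin_one, _root_.forall_const, _root_.true_and]) <;> (repeat' with_reducible apply And.intro) <;> ring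

theorem det_g6 : LinearMap.det (g6 (F := F)) = 1 := by
  have h : LinearMap.toMatrix' (g6 (F := F)) = Matrix.diagonal ![1, 1, 1, 1, -1, -1] := by
    rw [← LinearMap.toMatrix'_toLin' (Matrix.diagonal _)]
    congr 1
    refine LinearMap.ext fun p => ?_
    funext i
    rw [Matrix.toLin'_apply, Matrix.mulVec_diagonal]
    rfl
  rw [← LinearMap.det_toMatrix', h, Matrix.det_diagonal]
  simp [Fin.prod_univ_succ]

/-- eigenvectors -/
theorem w6_eigen {D t : F} (hD : D ≠ 0) (ht : t ≠ 0) (h2 : (2 : F) ≠ 0) {c : F} {p : Fin 6 → F}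
    (h : w6 D t p = c • p) : q6 D p = 0 := by
  have h0 := congrFun h 0
  have h1 := congrFun h 1
  have h3 := congrFun h 3
  have h4 := congrFun h 4
  have h5 := congrFun h 5
  have h20 := congrFun h 2
  simp only [w6_apply, _root_.Fin.isValue, _root_.Nat.succ_eq_add_one, _root_.Nat.reduceAdd, _root_.Matrix.cons_val_zero, _root_.Pi.smul_apply, _root_.smul_eq_mul, _root_.Matrix.cons_val_one, _root_.Matrix.cons_val] at h0 h1 h20 h3 h4 h5
  by_cases hc : c = 1
  · subst hc
    have e1 : p 1 = 0 := by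
      have : t * p 1 = 0 := by linear_combination h4
      exact (mul_eq_zero.1 this).resolve_left ht
    have e3 : p 3 = 0 := by
      have : t * p 3 = 0 := by linear_combination h5
      exact (mul_eq_zero.1 this).resolve_left ht
    have e4 : p 4 = 0 := by
      have : 2 * t * p 4 = 0 := by rw [e1] at h0; linear_combination -h0
      exact (mul_eq_zero.1 this).resolve_left (mul_ne_zero h2 ht)
    have e5 : p 5 = 0 := by
      have : 2 * t * D * p 5 = 0 := by rw [e3] at h20; linear_combination -h20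
      exact (mul_eq_zero.1 this).resolve_left (mul_ne_zero (mul_ne_zero h2 ht) hD)
    simp [q6, e1, e3, e4, e5]
  · have hc' : 1 - c ≠ 0 := fun h => hc (by linear_combination -h)
    have e1 : p 1 = 0 := by
      have : (1 - c) * p 1 = 0 := by linear_combination h1
      exact (mul_eq_zero.1 this).resolve_left hc'
    have e3 : p 3 = 0 := by
      have : (1 - c) * p 3 = 0 := by linear_combination h3
      exact (mul_eq_zero.1 this).resolve_left hc'
    have e4 : p 4 = 0 := by
      have : (1 - c) * p 4 = 0 := by rw [e1] at h4; linear_combination h4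
      exact (mul_eq_zero.1 this).resolve_left hc'
    have e5 : p 5 = 0 := by
      have : (1 - c) * p 5 = 0 := by rw [e3] at h5; linear_combination h5
      exact (mul_eq_zero.1 this).resolve_left hc'
    simp [q6, e1, e3, e4, e5]

/-- the centralising involution, `k = 1 / N` -/
def h6 (D k a b : F) (p : Fin 6 → F) : Fin 6 → F :=
  ![p 0 - 2 * k * (p 0 * a + p 2 * b) * a, p 1 - 2 * k * (p 1 * a + D * p 3 * b) * a,
    p 2 - 2 * k * (p 0 * a + p 2 * b) * (D * b), p 3 - 2 * k * (p 1 * a + D * p 3 * b) * b,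
    p 4 - 2 * k * (p 4 * a + D * p 5 * b) * a, p 5 - 2 * k * (p 4 * a + D * p 5 * b) * b]

theorem h6_w6 (D k a b t : F) (p : Fin 6 → F) : h6 D k a b (w6 D t p) = w6 D t (h6 D k a b p) := by
  funext i
  (revert i; simp only [h6, w6_apply, _root_.Fin.forall_fin_succ, Fin.isValue, _root_.Nat.succ_eq_add_one, Nat.reduceAdd, _root_.Matrix.cons_val_zero, _root_.Matrix.cons_val, _root_.Matrix.cons_val_one, _root_.Matrix.cons_val_succ, _root_.Matrix.cons_val_fin_one, _root_.forall_const, _root_.true_and]) <;> (repeat' with_reducible apply And.intro) <;> ring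

/-- a reflection of the six dimensional part -/
def r6 (D : F) (a : Fin 6 → F) (p : Fin 6 → F) : Fin 6 → F := p - (b6 D p a / q6 D a) • a

theorem r6_apply (D : F) (a p : Fin 6 → F) (i : Fin 6) : r6 D a p i = p i - b6 D p a / q6 D a * a i := rfl

theorem h6_eq (D a b : F) (hN : a ^ 2 + D * b ^ 2 ≠ 0) (p : Fin 6 → F) :
    r6 D ![a, a, D * b, b, 0, 0] (r6 D ![a, -a, D * b, -b, 0, 0] (r6 D ![0, 0, 0, 0, a, b] p)) =
      h6 D (a ^ 2 + D * b ^ 2)⁻¹ a b p := by
  have e1 : q6 D ![a, a, D * b, b, 0, 0] = a ^ 2 + D * b ^ 2 := by simp only [q6, _root_.Fin.isValue, _root_.Matrix.cons_val_zero, _root_.Matrix.cons_val_one, _root_.Matrix.cons_val, _root_.ne_eq, _root_.OfNat.ofNat_ne_zero, _root_.not_false_eq_true, _root_.zero_pow, _root_.add_zero, _root_.MulZeroClass.mul_zero]; ring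
  have e2 : q6 D ![a, -a, D * b, -b, 0, 0] = -(a ^ 2 + D * b ^ 2) := by simp only [q6, _root_.Fin.isValue, _root_.Matrix.cons_val_zero, _root_.Matrix.cons_val_one, _root_.mul_neg, _root_.Matrix.cons_val, _root_.ne_eq, _root_.OfNat.ofNat_ne_zero, _root_.not_false_eq_true, _root_.zero_pow, _root_.add_zero, _root_.MulZeroClass.mul_zero, _root_.neg_add_rev]; ring
  have e3 : q6 D ![0, 0, 0, 0, a, b] = a ^ 2 + D * b ^ 2 := by simp [q6]
  have hk : (a ^ 2 + D * b ^ 2)⁻¹ * (a ^ 2 + D * b ^ 2) = 1 := inv_mul_cancel₀ hN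
  generalize hkk : (a ^ 2 + D * b ^ 2)⁻¹ = k at hk
  have hd : ∀ x : F, x / (a ^ 2 + D * b ^ 2) = k * x := fun x => by rw [div_eq_inv_mul, hkk]
  have hd' : ∀ x : F, x / -(a ^ 2 + D * b ^ 2) = -(k * x) := fun x => by rw [div_neg, hd]
  have b1 : ∀ r : Fin 6 → F, b6 D r ![0, 0, 0, 0, a, b] = 2 * (r 4 * a) + 2 * D * (r 5 * b) := fun r => by
    simp only [b6, _root_.Fin.isValue, _root_.Matrix.cons_val_one, _root_.Matrix.cons_val_zero, _root_.MulZeroClass.mul_zero, _root_.add_zero, _root_.Matrix.cons_val, _root_.zero_add]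
  have b2 : ∀ r : Fin 6 → F, b6 D r ![a, -a, D * b, -b, 0, 0] = -(r 0 * a) + r 1 * a + (-(r 2 * b) + r 3 * (D * b)) :=
    fun r => by simp only [b6, _root_.Fin.isValue, _root_.Matrix.cons_val_one, _root_.Matrix.cons_val_zero, _root_.mul_neg, _root_.Matrix.cons_val, _root_.MulZeroClass.mul_zero, _root_.add_zero]
  have b3 : ∀ r : Fin 6 → F, b6 D r ![a, a, D * b, b, 0, 0] = r 0 * a + r 1 * a + (r 2 * b + r 3 * (D * b)) :=
    fun r => by simp only [b6, _root_.Fin.isValue, _root_.Matrix.cons_val_one, _root_.Matrix.cons_val_zero, _root_.Matrix.cons_val, _root_.MulZeroClass.mul_zero, _root_.add_zero]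
  funext i
  simp only [r6_apply, e1, e2, e3, hd, hd', b1, b2, b3]
  (revert i; simp only [h6, _root_.Fin.forall_fin_succ, Fin.isValue, _root_.Matrix.cons_val_zero, _root_.MulZeroClass.mul_zero, _root_.sub_zero, _root_.Matrix.cons_val_one, _root_.Matrix.cons_val, _root_.neg_mul, _root_.sub_neg_eq_add, _root_.mul_neg, _root_.neg_neg, _root_.Matrix.cons_val_succ, _root_.Fin.succ_zero_eq_one, _root_.Fin.succ_one_eq_two, Fin.reduceSucc, _root_.add_zero, _root_.sub_right_inj, _root_.mul_eq_mul_right_iff, _root_.Matrix.cons_val_fin_one, _root_.IsEmpty.forall_iff, _root_.and_true]) <;> (repeat' with_reducible apply And.intro) <;> first | ring1 | (left; ring1)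

/-! ### the hyperbolic part -/

section rest

variable {n : ℕ} (σ : Equiv.Perm (Fin n)) (ε : Fin n → F)

def wR (t : F) : ((Fin n → F) × (Fin n → F)) →ₗ[F] ((Fin n → F) × (Fin n → F)) where
  toFun p := (fun i => p.1 i + t * ((1 + ε i) * p.1 (σ i)), fun i => p.2 i - t * ((1 - ε i) * p.2 (σ i)))
  map_add' p r := by
    refine Prod.ext (funext fun i => ?_) (funext fun i => ?_)
    · simp only [_root_.Prod.fst_add, _root_.Pi.add_apply, _root_.Prod.mk_add_mk]; ring
    · simp only [_root_.Prod.snd_add, _root_.Pi.add_apply, _root_.Prod.mk_add_mk]; ring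
  map_smul' c p := by
    refine Prod.ext (funext fun i => ?_) (funext fun i => ?_)
    · simp only [_root_.Prod.smul_fst, _root_.Pi.smul_apply, _root_.smul_eq_mul, _root_.RingHom.id_apply, _root_.Prod.smul_mk]; ring
    · simp; ring

theorem wR_fst (t : F) (p : (Fin n → F) × (Fin n → F)) (i : Fin n) :
    (wR σ ε t p).1 i = p.1 i + t * ((1 + ε i) * p.1 (σ i)) := rfl

theorem wR_snd (t : F) (p : (Fin n → F) × (Fin n → F)) (i : Fin n) :
    (wR σ ε t p).2 i = p.2 i - t * ((1 - ε i) * p.2 (σ i)) := rfl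

def gR : ((Fin n → F) × (Fin n → F)) →ₗ[F] ((Fin n → F) × (Fin n → F)) where
  toFun p := (fun i => ε i * p.1 i, fun i => ε i * p.2 i)
  map_add' p r := by
    refine Prod.ext (funext fun i => ?_) (funext fun i => ?_)
    · simp; ring
    · simp; ring
  map_smul' c p := by
    refine Prod.ext (funext fun i => ?_) (funext fun i => ?_)
    · simp; ring
    · simp; ring

theorem gR_fst (p : (Fin n → F) × (Fin n → F)) (i : Fin n) : (gR ε p).1 i = ε i * p.1 i := rfl

theorem gR_snd (p : (Fin n → F) × (Fin n → F)) (i : Fin n) : (gR ε p).2 i = ε i * p.2 i := rfl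

/-- the hyperbolic form -/
def qR (p : (Fin n → F) × (Fin n → F)) : F := ∑ i, p.1 i * p.2 i

variable {σ ε}

theorem wR_wR (hσ : ∀ i, σ (σ i) = i) (hε : ∀ i, ε i * ε i = 1) (hεσ : ∀ i, ε (σ i) = -ε i) (s t : F)
    (p : (Fin n → F) × (Fin n → F)) : wR σ ε s (wR σ ε t p) = wR σ ε (s + t) p := by
  refine Prod.ext (funext fun i => ?_) (funext fun i => ?_)
  · rw [wR_fst, wR_fst, wR_fst, wR_fst, hσ, hεσ]
    linear_combination (-(s * t * p.1 i)) * hε i
  · rw [wR_snd, wR_snd, wR_snd, wR_snd, hσ, hεσ]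
    linear_combination (-(s * t * p.2 i)) * hε i

theorem wR_zero (p : (Fin n → F) × (Fin n → F)) : wR σ ε 0 p = p := by
  refine Prod.ext (funext fun i => ?_) (funext fun i => ?_)
  · rw [wR_fst]; ring
  · rw [wR_snd]; ring

theorem gR_gR (hε : ∀ i, ε i * ε i = 1) (p : (Fin n → F) × (Fin n → F)) : gR ε (gR ε p) = p := by
  refine Prod.ext (funext fun i => ?_) (funext fun i => ?_)
  · rw [gR_fst, gR_fst, ← mul_assoc, hε, one_mul]
  · rw [gR_snd, gR_snd, ← mul_assoc, hε, one_mul]

theorem gR_wR (hε : ∀ i, ε i * ε i = 1) (hεσ : ∀ i, ε (σ i) = -ε i) (t : F)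
    (p : (Fin n → F) × (Fin n → F)) : gR ε (wR σ ε t (gR ε p)) = wR σ ε (-t) p := by
  refine Prod.ext (funext fun i => ?_) (funext fun i => ?_)
  · rw [gR_fst, wR_fst, wR_fst, gR_fst, gR_fst, hεσ]
    linear_combination (p.1 i - t * p.1 (σ i) - t * ε i * p.1 (σ i)) * hε i
  · rw [gR_snd, wR_snd, wR_snd, gR_snd, gR_snd, hεσ]
    linear_combination (p.2 i + t * p.2 (σ i) - t * ε i * p.2 (σ i)) * hε i

theorem qR_gR (hε : ∀ i, ε i * ε i = 1) (p : (Fin n → F) × (Fin n → F)) : qR (gR ε p) = qR p := by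
  refine Finset.sum_congr rfl fun i _ => ?_
  rw [gR_fst, gR_snd]
  linear_combination (p.1 i * p.2 i) * hε i

theorem qR_wR (hσ : ∀ i, σ (σ i) = i) (hε : ∀ i, ε i * ε i = 1) (hεσ : ∀ i, ε (σ i) = -ε i) (t : F)
    (p : (Fin n → F) × (Fin n → F)) : qR (wR σ ε t p) = qR p := by
  have h1 : ∑ i, (1 - ε i) * (p.1 i * p.2 (σ i)) = ∑ i, (1 + ε i) * (p.1 (σ i) * p.2 i) := by
    rw [← Equiv.sum_comp σ]
    refine Finset.sum_congr rfl fun i _ => ?_
    rw [hσ, hεσ]
    ring
  have h2 : qR (wR σ ε t p) = qR p - t * ∑ i, (1 - ε i) * (p.1 i * p.2 (σ i)) +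
      t * ∑ i, (1 + ε i) * (p.1 (σ i) * p.2 i) := by
    unfold qR
    rw [Finset.mul_sum, Finset.mul_sum, ← Finset.sum_sub_distrib, ← Finset.sum_add_distrib]
    refine Finset.sum_congr rfl fun i _ => ?_
    rw [wR_fst, wR_snd]
    linear_combination (t ^ 2 * p.1 (σ i) * p.2 (σ i)) * hε i
  rw [h2, h1]
  ring

theorem wR_eigen (hσ : ∀ i, σ (σ i) = i) (hε : ∀ i, ε i * ε i = 1) (hεσ : ∀ i, ε (σ i) = -ε i) {t : F}
    (ht : t ≠ 0) (h2 : (2 : F) ≠ 0) {c : F} {p : (Fin n → F) × (Fin n → F)} (h : wR σ ε t p = c • p) :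
    qR p = 0 := by
  have hx : ∀ i, p.1 i + t * ((1 + ε i) * p.1 (σ i)) = c * p.1 i := fun i =>
    congrFun (congrArg Prod.fst h) i
  have hy : ∀ i, p.2 i - t * ((1 - ε i) * p.2 (σ i)) = c * p.2 i := fun i =>
    congrFun (congrArg Prod.snd h) i
  refine Finset.sum_eq_zero fun i _ => ?_
  by_cases hc : c = 1
  · subst hc
    have e1 : (1 - ε i) * p.1 i = 0 := by
      have h3 := hx (σ i)
      rw [hσ, hεσ] at h3
      have h4 : t * ((1 - ε i) * p.1 i) = 0 := by linear_combination h3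
      exact (mul_eq_zero.1 h4).resolve_left ht
    have e2 : (1 + ε i) * p.2 i = 0 := by
      have h3 := hy (σ i)
      rw [hσ, hεσ] at h3
      have h4 : t * ((1 + ε i) * p.2 i) = 0 := by linear_combination -h3
      exact (mul_eq_zero.1 h4).resolve_left ht
    have h4 : 2 * (p.1 i * p.2 i) = 0 := by linear_combination p.2 i * e1 + p.1 i * e2
    exact (mul_eq_zero.1 h4).resolve_left h2
  · have hc' : (c - 1) * (c - 1) ≠ 0 := fun h => hc (by
      rcases mul_eq_zero.1 h with h | h <;> linear_combination h)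
    have e1 : p.1 i = 0 := by
      have h3 := hx (σ i)
      rw [hσ, hεσ] at h3
      have h4 : (c - 1) * (c - 1) * p.1 i = 0 := by
        linear_combination (-(c - 1)) * hx i - t * (1 + ε i) * h3 - t ^ 2 * p.1 i * hε i
      exact (mul_eq_zero.1 h4).resolve_left hc'
    rw [e1, zero_mul]

theorem det_gR : LinearMap.det (gR ε) = (∏ i, ε i) * ∏ i, ε i := by
  let L : (Fin n → F) →ₗ[F] (Fin n → F) := LinearMap.pi fun i => (ε i • LinearMap.id).comp (LinearMap.proj i)
  have h1 : gR ε = LinearMap.prodMap L L := by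
    refine LinearMap.ext fun p => ?_
    rfl
  have h2 : LinearMap.det L = ∏ i, ε i := by
    rw [LinearMap.det_pi]
    refine Finset.prod_congr rfl fun i _ => ?_
    simp only [_root_.LinearMap.det_ring, _root_.LinearMap.smul_apply, _root_.LinearMap.id_coe, _root_.id_eq, _root_.smul_eq_mul, _root_.mul_one]
  rw [h1, LinearMap.det_prodMap, h2]

theorem det_gR' (hε : ∀ i, ε i * ε i = 1) : LinearMap.det (gR ε) = 1 := by
  rw [det_gR, ← Finset.prod_mul_distrib]
  exact Finset.prod_eq_one fun i _ => hε i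

end rest

end Cfsg.Agent.H907.Odm
end

-- part: H907/Odm/Main
section
/-!
# A real unipotent element of `Ω_{2m}^ε(q)`, `q` and `m` odd, without nonsingular eigenvectors: the main lemma
-/

set_option autoImplicit false
set_option linter.unusedSectionVars false

namespace Cfsg.Agent.H907.Odm

open QuadraticMap Matrix Cfsg.Agent.ClassicalGeometry.Reflection
open Cfsg.Agent.ClassicalGeometry.SpinorSign Cfsg.Agent.ClassicalGeometry.Universal
open Cfsg.Agent.ClassicalGeometry.OmegaIndex Cfsg.Agent.ClassicalGeometry.NegOneOmega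

variable {ι : Type} [Fintype ι] [DecidableEq ι] {F : Type*} [Field F] {n : ℕ}

/-- the model -/
abbrev X (F : Type*) (n : ℕ) : Type _ := (Fin 6 → F) × ((Fin n → F) × (Fin n → F))

section transport

variable (Φ : (ι → F) ≃ₗ[F] X F n)

/-- transport of a linear map of the model -/
def tr (f : X F n →ₗ[F] X F n) : (ι → F) →ₗ[F] (ι → F) :=
  (Φ.symm : X F n →ₗ[F] (ι → F)) ∘ₗ f ∘ₗ (Φ : (ι → F) →ₗ[F] X F n)

theorem tr_apply (f : X F n →ₗ[F] X F n) (v : ι → F) : Φ (tr Φ f v) = f (Φ v) := by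
  change Φ (Φ.symm (f (Φ v))) = _
  rw [LinearEquiv.apply_symm_apply]

/-- a transported equivalence -/
def trE (f f' : X F n →ₗ[F] X F n) (h1 : ∀ x, f (f' x) = x) (h2 : ∀ x, f' (f x) = x) :
    (ι → F) ≃ₗ[F] (ι → F) :=
  LinearEquiv.ofLinearMap (tr Φ f) (tr Φ f')
    (LinearMap.ext fun v => Φ.injective (by
      rw [LinearMap.comp_apply, tr_apply, tr_apply, h1]; rfl))
    (LinearMap.ext fun v => Φ.injective (by
      rw [LinearMap.comp_apply, tr_apply, tr_apply, h2]; rfl))

theorem trE_apply (f f' : X F n →ₗ[F] X F n) (h1 : ∀ x, f (f' x) = x) (h2 : ∀ x, f' (f x) = x) (v : ι → F) :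
    Φ (trE Φ f f' h1 h2 v) = f (Φ v) := tr_apply Φ f v

theorem det_tr (f : X F n →ₗ[F] X F n) : LinearMap.det (tr Φ f) = LinearMap.det f :=
  LinearMap.det_conj f Φ.symm

end transport

section main

variable [Finite F]

/-- the element is moreover unipotent with `(u - 1)^3 = 0` -/
theorem exists_real' (h2 : (2 : F) ≠ 0) (Q : QuadraticForm F (ι → F))
    (hQ : (QuadraticMap.polarBilin Q).Nondegenerate) (hι : 2 ≤ Fintype.card ι) (hn : Even n) {D : F} (hD : D ≠ 0)
    (Φ : (ι → F) ≃ₗ[F] X F n) (hΦ : ∀ v, Q v = q6 D (Φ v).1 + qR (Φ v).2) :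
    ∃ u ∈ Cfsg.Omega F (⇑Q), (∃ x ∈ Cfsg.Omega F (⇑Q), x * u * x⁻¹ = u⁻¹) ∧
      (∀ v, ((u : Matrix.GeneralLinearGroup ι F) : Matrix ι ι F) *ᵥ
        (((u : Matrix.GeneralLinearGroup ι F) : Matrix ι ι F) *ᵥ
          (((u : Matrix.GeneralLinearGroup ι F) : Matrix ι ι F) *ᵥ v)) =
        (3 : F) • ((u : Matrix.GeneralLinearGroup ι F) : Matrix ι ι F) *ᵥ
          (((u : Matrix.GeneralLinearGroup ι F) : Matrix ι ι F) *ᵥ v) -
        (3 : F) • ((u : Matrix.GeneralLinearGroup ι F) : Matrix ι ι F) *ᵥ v + v) ∧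
      ∀ v, Q v ≠ 0 → ∀ c : F, ((u : Matrix.GeneralLinearGroup ι F) : Matrix ι ι F) *ᵥ v ≠ c • v := by
  classical
  obtain ⟨σ, ε, hσ, hε, hεσ⟩ := exists_sign_involution F hn
  -- the element `w`
  let f : F → (X F n →ₗ[F] X F n) := fun t => LinearMap.prodMap (w6 D t) (wR σ ε t)
  have hff : ∀ (s t : F) (x : X F n), f s (f t x) = f (s + t) x := fun s t x =>
    Prod.ext (w6_w6 D s t x.1) (wR_wR hσ hε hεσ s t x.2)
  have hf0 : ∀ x : X F n, f 0 x = x := fun x => Prod.ext (w6_zero D x.1) (wR_zero x.2)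
  have hf1 : ∀ t (x : X F n), f t (f (-t) x) = x := fun t x => by rw [hff, add_neg_cancel, hf0]
  have hf2 : ∀ t (x : X F n), f (-t) (f t x) = x := fun t x => by rw [hff, neg_add_cancel, hf0]
  let W := trE Φ (f 1) (f (-1)) (hf1 1) (hf2 1)
  have hWQ : ∀ v, Q (W v) = Q v := fun v => by
    rw [hΦ, hΦ, trE_apply]
    exact congrArg₂ (· + ·) (q6_w6 D 1 _) (qR_wR hσ hε hεσ 1 _)
  let w := mkIso (⇑Q) W hWQ
  have hw : ∀ v, Φ (((w : Matrix.GeneralLinearGroup ι F) : Matrix ι ι F) *ᵥ v) = f 1 (Φ v) := fun v => by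
    rw [mkIso_mulVec, trE_apply]
  -- the element `g`
  let fg : X F n →ₗ[F] X F n := LinearMap.prodMap g6 (gR ε)
  have hg2 : ∀ x : X F n, fg (fg x) = x := fun x => Prod.ext (g6_g6 x.1) (gR_gR hε x.2)
  let G := trE Φ fg fg hg2 hg2
  have hGQ : ∀ v, Q (G v) = Q v := fun v => by
    rw [hΦ, hΦ, trE_apply]
    exact congrArg₂ (· + ·) (q6_g6 D _) (qR_gR hε _)
  let g := mkIso (⇑Q) G hGQ
  have hg : ∀ v, Φ (((g : Matrix.GeneralLinearGroup ι F) : Matrix ι ι F) *ᵥ v) = fg (Φ v) := fun v => by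
    rw [mkIso_mulVec, trE_apply]
  have hgd : ((g : Matrix.GeneralLinearGroup ι F) : Matrix ι ι F).det = 1 := by
    rw [det_mkIso]
    change LinearMap.det (tr Φ fg) = 1
    rw [det_tr, LinearMap.det_prodMap, det_g6, det_gR' hε, one_mul]
  have hgg : g * g = 1 := by
    refine isometryGroup_ext _ _ _ fun v => Φ.injective ?_
    rw [coe_mul_mulVec, hg, hg, hg2]
    simp only [_root_.OneMemClass.coe_one, _root_.Units.val_one, _root_.Matrix.one_mulVec]
  have hgw : g * w * g * w = 1 := by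
    refine isometryGroup_ext _ _ _ fun v => Φ.injective ?_
    rw [coe_mul_mulVec, coe_mul_mulVec, coe_mul_mulVec, hg, hw, hg, hw]
    have h3 : ∀ x : X F n, fg (f 1 (fg x)) = f (-1) x := fun x => Prod.ext (g6_w6 D 1 x.1) (gR_wR hε hεσ 1 x.2)
    rw [h3, hf2]
    simp only [_root_.OneMemClass.coe_one, _root_.Units.val_one, _root_.Matrix.one_mulVec]
  have hginv : g * w * g⁻¹ = w⁻¹ := by
    rw [eq_inv_iff_mul_eq_one, ← eq_inv_of_mul_eq_one_left hgg]
    exact hgw
  -- reflections
  have hΦs : ∀ p : Fin 6 → F, Q (Φ.symm (p, 0)) = q6 D p := fun p => by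
    rw [hΦ, LinearEquiv.apply_symm_apply]
    simp only [qR, _root_.Prod.fst_zero, _root_.Pi.zero_apply, _root_.Prod.snd_zero, _root_.MulZeroClass.mul_zero, _root_.Finset.sum_const_zero, _root_.add_zero]
  have hpol : ∀ (p : Fin 6 → F) (v : ι → F), polar (⇑Q) (Φ.symm (p, 0)) v = b6 D (Φ v).1 p := fun p v => by
    rw [polar, hΦ, hΦ, hΦ, map_add, LinearEquiv.apply_symm_apply]
    simp only [qR, q6, b6, _root_.Fin.isValue, _root_.Prod.fst_add, _root_.Pi.add_apply, _root_.Prod.snd_add, _root_.zero_add, _root_.Prod.fst_zero, _root_.Pi.zero_apply, _root_.Prod.snd_zero, _root_.MulZeroClass.mul_zero, _root_.Finset.sum_const_zero, _root_.add_zero]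
    ring
  let R : ∀ p : Fin 6 → F, q6 D p ≠ 0 → Cfsg.isometryGroup F (⇑Q) := fun p hp =>
    reflIso Q (Φ.symm (p, 0)) (by rw [hΦs]; exact hp)
  have hR : ∀ (p : Fin 6 → F) (hp : q6 D p ≠ 0) (v : ι → F),
      Φ (((R p hp : Matrix.GeneralLinearGroup ι F) : Matrix ι ι F) *ᵥ v) = (r6 D p (Φ v).1, (Φ v).2) := by
    intro p hp v
    rw [coe_reflIso, reflectionMatrix_mulVec, hpol, hΦs, map_sub, map_smul, LinearEquiv.apply_symm_apply]
    refine Prod.ext ?_ ?_
    · change (Φ v).1 - ((q6 D p)⁻¹ * b6 D (Φ v).1 p) • p = (Φ v).1 - (b6 D (Φ v).1 p / q6 D p) • p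
      rw [div_eq_inv_mul]
    · simp
  -- the centralising elements
  have key : ∀ a b : F, a ^ 2 + D * b ^ 2 ≠ 0 → ∃ h : Cfsg.isometryGroup F (⇑Q), h * w = w * h ∧
      ((h : Matrix.GeneralLinearGroup ι F) : Matrix ι ι F).det = -1 ∧
      spinorSign (⇑Q) (1 : F) h = if IsSquare (-(a ^ 2 + D * b ^ 2)) then -1 else 1 := by
    intro a b hN
    have e1 : q6 D ![a, a, D * b, b, 0, 0] = a ^ 2 + D * b ^ 2 := by simp only [q6, _root_.Fin.isValue, _root_.Matrix.cons_val_zero, _root_.Matrix.cons_val_one, _root_.Matrix.cons_val, _root_.ne_eq, _root_.OfNat.ofNat_ne_zero, _root_.not_false_eq_true, _root_.zero_pow, _root_.add_zero, _root_.MulZeroClass.mul_zero]; ring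
    have e2 : q6 D ![a, -a, D * b, -b, 0, 0] = -(a ^ 2 + D * b ^ 2) := by simp only [q6, _root_.Fin.isValue, _root_.Matrix.cons_val_zero, _root_.Matrix.cons_val_one, _root_.mul_neg, _root_.Matrix.cons_val, _root_.ne_eq, _root_.OfNat.ofNat_ne_zero, _root_.not_false_eq_true, _root_.zero_pow, _root_.add_zero, _root_.MulZeroClass.mul_zero, _root_.neg_add_rev]; ring
    have e3 : q6 D ![0, 0, 0, 0, a, b] = a ^ 2 + D * b ^ 2 := by simp [q6]
    have n1 : q6 D ![a, a, D * b, b, 0, 0] ≠ 0 := by rw [e1]; exact hN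
    have n2 : q6 D ![a, -a, D * b, -b, 0, 0] ≠ 0 := by rw [e2]; exact neg_ne_zero.2 hN
    have n3 : q6 D ![0, 0, 0, 0, a, b] ≠ 0 := by rw [e3]; exact hN
    have hact : ∀ v, Φ (((R _ n1 * R _ n2 * R _ n3 : Cfsg.isometryGroup F (⇑Q)) :
        Matrix.GeneralLinearGroup ι F).1 *ᵥ v) = (h6 D (a ^ 2 + D * b ^ 2)⁻¹ a b (Φ v).1, (Φ v).2) := by
      intro v
      rw [coe_mul_mulVec, coe_mul_mulVec, hR _ n1, hR _ n2, hR _ n3]
      refine Prod.ext ?_ rfl
      exact h6_eq D a b hN _
    refine ⟨R _ n1 * R _ n2 * R _ n3, ?_, ?_, ?_⟩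
    · generalize R _ n1 * R _ n2 * R _ n3 = h at hact
      refine isometryGroup_ext _ _ _ fun v => Φ.injective ?_
      rw [coe_mul_mulVec, coe_mul_mulVec, hact, hw, hw, hact]
      exact Prod.ext (h6_w6 D _ a b 1 _) rfl
    · rw [Subgroup.coe_mul, Units.val_mul, Matrix.det_mul, Subgroup.coe_mul, Units.val_mul, Matrix.det_mul,
        det_reflIso, det_reflIso, det_reflIso]
      ring
    · rw [map_mul, map_mul, spinorSign_reflIso h2 Q one_ne_zero, spinorSign_reflIso h2 Q one_ne_zero,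
        spinorSign_reflIso h2 Q one_ne_zero]
      rw [hΦs, hΦs, hΦs, e1, e2, e3, one_mul, one_mul]
      generalize a ^ 2 + D * b ^ 2 = N
      split_ifs <;> rfl
  obtain ⟨ν, hν⟩ := FiniteField.exists_nonsquare (ringChar_ne_two h2)
  have hν0 : ν ≠ 0 := by rintro rfl; exact hν IsSquare.zero
  obtain ⟨a, b, hab⟩ := exists_sq_add_sq (F := F) h2 one_ne_zero hD (-1)
  obtain ⟨a', b', hab'⟩ := exists_sq_add_sq (F := F) h2 one_ne_zero hD (-ν)
  rw [one_mul] at hab hab'
  obtain ⟨h1, hc1, hd1, hs1⟩ := key a b (by rw [hab]; exact neg_ne_zero.2 one_ne_zero)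
  obtain ⟨h3, hc3, hd3, hs3⟩ := key a' b' (by rw [hab']; exact neg_ne_zero.2 hν0)
  rw [hab, neg_neg, if_pos IsSquare.one] at hs1
  rw [hab', neg_neg, if_neg hν] at hs3
  obtain ⟨hu, hx⟩ := real_crit h2 Q hQ hι (w := w) (g := g) (h := h1 * h3) hginv hgd
    (by rw [Subgroup.coe_mul, Units.val_mul, Matrix.det_mul, hd1, hd3]; ring)
    (by rw [map_mul, hs1, hs3]; rfl)
    (by rw [mul_assoc, hc3, ← mul_assoc, hc1, mul_assoc])
  have hww : ∀ v, Φ ((((w * w : Cfsg.isometryGroup F (⇑Q)) : Matrix.GeneralLinearGroup ι F) :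
      Matrix ι ι F) *ᵥ v) = f (1 + 1) (Φ v) := fun v => by
    rw [coe_mul_mulVec, hw, hw, hff]
  refine ⟨w * w, hu, hx, fun v => Φ.injective ?_, fun v hv c h => hv ?_⟩
  · rw [hww, hww, hww, map_add, map_sub, map_smul, map_smul, hww, hww]
    simp only [hff]
    generalize Φ v = x
    refine Prod.ext ?_ ?_
    · change w6 D (1 + 1 + (1 + 1 + (1 + 1))) x.1 =
        (3 : F) • w6 D (1 + 1 + (1 + 1)) x.1 - (3 : F) • w6 D (1 + 1) x.1 + x.1
      funext i
      (revert i; simp only [w6_apply, _root_.Fin.forall_fin_succ, _root_.Nat.succ_eq_add_one, Nat.reduceAdd, Fin.isValue, _root_.Matrix.smul_cons, _root_.smul_eq_mul, _root_.Matrix.smul_empty, _root_.Matrix.sub_cons, _root_.Matrix.head_cons, _root_.Matrix.tail_cons, _root_.sub_self, _root_.Matrix.zero_empty, _root_.Pi.add_apply, _root_.Matrix.cons_val_zero, _root_.Matrix.cons_val_succ, _root_.Fin.succ_zero_eq_one, _root_.zero_add, _root_.Fin.succ_one_eq_two, Fin.reduceSucc, _root_.Matrix.cons_val_fin_one, _root_.IsEmpty.forall_iff,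 _root_.and_true, _root_.true_and]) <;> (repeat' with_reducible apply And.intro) <;> ring
    · change wR σ ε (1 + 1 + (1 + 1 + (1 + 1))) x.2 =
        (3 : F) • wR σ ε (1 + 1 + (1 + 1)) x.2 - (3 : F) • wR σ ε (1 + 1) x.2 + x.2
      refine Prod.ext (funext fun i => ?_) (funext fun i => ?_)
      · simp only [wR_fst, _root_.Prod.fst_add, _root_.Prod.fst_sub, _root_.Prod.smul_fst, _root_.Pi.add_apply, _root_.Pi.sub_apply, _root_.Pi.smul_apply, _root_.smul_eq_mul]; ring
      · simp [wR_snd]; ring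
  rw [coe_mul_mulVec] at h
  have h4 := congrArg Φ h
  rw [hw, hw, hff, map_smul] at h4
  have ht : (1 : F) + 1 ≠ 0 := by rw [one_add_one_eq_two]; exact h2
  have h5 : w6 D (1 + 1) (Φ v).1 = c • (Φ v).1 := congrArg Prod.fst h4
  have h6 : wR σ ε (1 + 1) (Φ v).2 = c • (Φ v).2 := congrArg Prod.snd h4
  rw [hΦ, w6_eigen hD ht h2 h5, wR_eigen hσ hε hεσ ht h2 h6, add_zero]

end main

end Cfsg.Agent.H907.Odm
end

-- part: H907/Odm/Forms
section
/-!
# A real unipotent element of `Ω_{2m}^ε(q)`, `q` and `m` odd, without nonsingular eigenvectors: the standard forms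
-/

set_option autoImplicit false
set_option linter.unusedSectionVars false

namespace Cfsg.Agent.H907.Odm

open QuadraticMap Matrix Cfsg.Agent.LieClassical.OmegaReindex

/-- a real element of `Ω(Q)` without nonsingular eigenvectors -/
def RealNS {ι : Type} [Fintype ι] [DecidableEq ι] {F : Type*} [Field F] (Q : (ι → F) → F) : Prop :=
  ∃ u ∈ Cfsg.Omega F Q, (∃ x ∈ Cfsg.Omega F Q, x * u * x⁻¹ = u⁻¹) ∧
    ∀ v, Q v ≠ 0 → ∀ c : F, ((u : Matrix.GeneralLinearGroup ι F) : Matrix ι ι F) *ᵥ v ≠ c • v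

/-- a real element `u` of `Ω(Q)` with `(u - 1)^3 = 0` without nonsingular eigenvectors -/
def RealNU {ι : Type} [Fintype ι] [DecidableEq ι] {F : Type*} [Field F] (Q : (ι → F) → F) : Prop :=
  ∃ u ∈ Cfsg.Omega F Q, (∃ x ∈ Cfsg.Omega F Q, x * u * x⁻¹ = u⁻¹) ∧
    (∀ v, ((u : Matrix.GeneralLinearGroup ι F) : Matrix ι ι F) *ᵥ
      (((u : Matrix.GeneralLinearGroup ι F) : Matrix ι ι F) *ᵥ
        (((u : Matrix.GeneralLinearGroup ι F) : Matrix ι ι F) *ᵥ v)) =
      (3 : F) • ((u : Matrix.GeneralLinearGroup ι F) : Matrix ι ι F) *ᵥ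
        (((u : Matrix.GeneralLinearGroup ι F) : Matrix ι ι F) *ᵥ v) -
      (3 : F) • ((u : Matrix.GeneralLinearGroup ι F) : Matrix ι ι F) *ᵥ v + v) ∧
    ∀ v, Q v ≠ 0 → ∀ c : F, ((u : Matrix.GeneralLinearGroup ι F) : Matrix ι ι F) *ᵥ v ≠ c • v

theorem RealNU.realNS {ι : Type} [Fintype ι] [DecidableEq ι] {F : Type*} [Field F] {Q : (ι → F) → F}
    (h : RealNU Q) : RealNS Q := by
  obtain ⟨u, hu, hx, _, h⟩ := h
  exact ⟨u, hu, hx, h⟩

variable {F : Type*} [Field F]

/-- coordinates for the plus type -/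
def phiPlus (h2 : (2 : F) ≠ 0) (n : ℕ) : (Fin (n + 3) ⊕ Fin (n + 3) → F) ≃ₗ[F] X F n where
  toFun v := (![v (.inl 0), v (.inr 0), v (.inl 1), v (.inr 1), (v (.inl 2) + v (.inr 2)) / 2,
    (v (.inl 2) - v (.inr 2)) / 2], (fun i => v (.inl i.succ.succ.succ), fun i => v (.inr i.succ.succ.succ)))
  invFun p := Sum.elim (Fin.cons (p.1 0) (Fin.cons (p.1 2) (Fin.cons (p.1 4 + p.1 5) p.2.1)))
    (Fin.cons (p.1 1) (Fin.cons (p.1 3) (Fin.cons (p.1 4 - p.1 5) p.2.2)))
  map_add' v w := by
    refine Prod.ext (funext fun i => ?_) (Prod.ext rfl rfl)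
    (revert i; simp only [_root_.Fin.forall_fin_succ, _root_.Pi.add_apply, _root_.Prod.mk_add_mk, _root_.Matrix.add_cons, _root_.Matrix.head_cons, _root_.Matrix.tail_cons, _root_.Matrix.empty_add_empty, Fin.isValue, _root_.Matrix.cons_val_zero, _root_.Matrix.cons_val_succ, _root_.Matrix.cons_val_fin_one, _root_.forall_const, _root_.true_and]) <;> (repeat' with_reducible apply And.intro) <;> ring
  map_smul' c v := by
    refine Prod.ext (funext fun i => ?_) (Prod.ext rfl rfl)
    (revert i; simp only [_root_.Fin.forall_fin_succ, _root_.Pi.smul_apply, _root_.smul_eq_mul, _root_.RingHom.id_apply, _root_.Prod.smul_mk, _root_.Matrix.smul_cons, _root_.Matrix.smul_empty, Fin.isValue, _root_.Matrix.cons_val_zero, _root_.Matrix.cons_val_succ, _root_.Matrix.cons_val_fin_one, _root_.forall_const, _root_.true_and]) <;> (repeat' with_reducible apply And.intro) <;> ring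
  left_inv v := by
    funext j
    rcases j with j | j
    · refine Fin.cases ?_ (fun j => Fin.cases ?_ (fun j => Fin.cases ?_ (fun j => ?_) j) j) j
      · rfl
      · rfl
      · change (v (.inl 2) + v (.inr 2)) / 2 + (v (.inl 2) - v (.inr 2)) / 2 = v (.inl 2)
        field_simp
        ring
      · rfl
    · refine Fin.cases ?_ (fun j => Fin.cases ?_ (fun j => Fin.cases ?_ (fun j => ?_) j) j) j
      · rfl
      · rfl
      · change (v (.inl 2) + v (.inr 2)) / 2 - (v (.inl 2) - v (.inr 2)) / 2 = v (.inr 2)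
        field_simp
        ring
      · rfl
  right_inv p := by
    refine Prod.ext (funext fun i => ?_) (Prod.ext rfl rfl)
    fin_cases i
    · rfl
    · rfl
    · rfl
    · rfl
    · change ((p.1 4 + p.1 5) + (p.1 4 - p.1 5)) / 2 = p.1 4
      field_simp
      ring
    · change ((p.1 4 + p.1 5) - (p.1 4 - p.1 5)) / 2 = p.1 5
      field_simp
      ring

theorem q_phiPlus (h2 : (2 : F) ≠ 0) (n : ℕ) (v : Fin (n + 3) ⊕ Fin (n + 3) → F) :
    Cfsg.quadFormPlus (n + 3) F v = q6 (-1) (phiPlus h2 n v).1 + qR (phiPlus h2 n v).2 := by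
  have h : q6 (-1) (phiPlus h2 n v).1 = v (.inl 0) * v (.inr 0) + v (.inl 1) * v (.inr 1) +
      ((v (.inl 2) + v (.inr 2)) / 2) ^ 2 + (-1) * ((v (.inl 2) - v (.inr 2)) / 2) ^ 2 := rfl
  have h' : qR (phiPlus h2 n v).2 = ∑ i : Fin n, v (.inl i.succ.succ.succ) * v (.inr i.succ.succ.succ) := rfl
  rw [h, h']
  unfold Cfsg.quadFormPlus
  rw [Fin.sum_univ_succ, Fin.sum_univ_succ, Fin.sum_univ_succ]
  have e1 : (Fin.succ 0 : Fin (n + 2 + 1)) = 1 := rfl
  have e2 : (Fin.succ (Fin.succ 0) : Fin (n + 2 + 1)) = 2 := rfl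
  rw [e1, e2]
  field_simp
  ring

/-- coordinates for the minus type -/
def phiMinus (n : ℕ) (h : F) : ((Fin (n + 2) ⊕ Fin (n + 2)) ⊕ Fin 2 → F) ≃ₗ[F] X F n where
  toFun v := (![v (.inl (.inl 0)), v (.inl (.inr 0)), v (.inl (.inl 1)), v (.inl (.inr 1)),
    v (.inr 0) + h * v (.inr 1), v (.inr 1)],
    (fun i => v (.inl (.inl i.succ.succ)), fun i => v (.inl (.inr i.succ.succ))))
  invFun p := Sum.elim (Sum.elim (Fin.cons (p.1 0) (Fin.cons (p.1 2) p.2.1))
    (Fin.cons (p.1 1) (Fin.cons (p.1 3) p.2.2))) ![p.1 4 - h * p.1 5, p.1 5]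
  map_add' v w := by
    refine Prod.ext (funext fun i => ?_) (Prod.ext rfl rfl)
    (revert i; simp only [_root_.Fin.forall_fin_succ, _root_.Pi.add_apply, Fin.isValue, _root_.Prod.mk_add_mk, _root_.Matrix.add_cons, _root_.Matrix.head_cons, _root_.Matrix.tail_cons, _root_.Matrix.empty_add_empty, _root_.Matrix.cons_val_zero, _root_.Matrix.cons_val_succ, _root_.Matrix.cons_val_fin_one, _root_.implies_true, _root_.and_true, _root_.true_and]) <;> (repeat' with_reducible apply And.intro) <;> ring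
  map_smul' c v := by
    refine Prod.ext (funext fun i => ?_) (Prod.ext rfl rfl)
    (revert i; simp only [_root_.Fin.forall_fin_succ, _root_.Pi.smul_apply, _root_.smul_eq_mul, Fin.isValue, _root_.RingHom.id_apply, _root_.Prod.smul_mk, _root_.Matrix.smul_cons, _root_.Matrix.smul_empty, _root_.Matrix.cons_val_zero, _root_.Matrix.cons_val_succ, _root_.Matrix.cons_val_fin_one, _root_.implies_true, _root_.and_true, _root_.true_and]) <;> (repeat' with_reducible apply And.intro) <;> ring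
  left_inv v := by
    funext j
    rcases j with (j | j) | j
    · refine Fin.cases ?_ (fun j => Fin.cases ?_ (fun j => ?_) j) j <;> rfl
    · refine Fin.cases ?_ (fun j => Fin.cases ?_ (fun j => ?_) j) j <;> rfl
    · fin_cases j
      · change v (.inr 0) + h * v (.inr 1) - h * v (.inr 1) = v (.inr 0)
        ring
      · rfl
  right_inv p := by
    refine Prod.ext (funext fun i => ?_) (Prod.ext rfl rfl)
    fin_cases i
    · rfl
    · rfl
    · rfl
    · rfl
    · change p.1 4 - h * p.1 5 + h * p.1 5 = p.1 4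
      ring
    · rfl

theorem q_phiMinus (n : ℕ) (h b : F) (v : (Fin (n + 2) ⊕ Fin (n + 2)) ⊕ Fin 2 → F) :
    Cfsg.quadFormMinus (n + 2) F (2 * h) b v = q6 (b - h ^ 2) (phiMinus n h v).1 + qR (phiMinus n h v).2 := by
  have h1 : q6 (b - h ^ 2) (phiMinus n h v).1 = v (.inl (.inl 0)) * v (.inl (.inr 0)) +
      v (.inl (.inl 1)) * v (.inl (.inr 1)) +
      (v (.inr 0) + h * v (.inr 1)) ^ 2 + (b - h ^ 2) * (v (.inr 1)) ^ 2 := rfl
  have h' : qR (phiMinus n h v).2 = ∑ i : Fin n, v (.inl (.inl i.succ.succ)) * v (.inl (.inr i.succ.succ)) := rfl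
  rw [h1, h']
  unfold Cfsg.quadFormMinus
  rw [Fin.sum_univ_succ, Fin.sum_univ_succ]
  have e1 : (Fin.succ 0 : Fin (n + 1 + 1)) = 1 := rfl
  rw [e1]
  ring

variable [Finite F]

theorem realNU_plus (h2 : (2 : F) ≠ 0) {m : ℕ} (hm : 3 ≤ m) (hodd : Odd m) :
    RealNU (Cfsg.quadFormPlus m F) := by
  obtain ⟨n, rfl⟩ : ∃ n, m = n + 3 := ⟨m - 3, by omega⟩
  have hn : Even n := by
    rw [Nat.even_iff]
    have := Nat.odd_iff.1 hodd
    omega
  have h := exists_real' h2 (quadPlus (n + 3) F) quadPlus_nondegenerate (by simp; omega) hn (D := -1)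
    (neg_ne_zero.2 one_ne_zero) (phiPlus h2 n) (fun v => by rw [coe_quadPlus]; exact q_phiPlus h2 n v)
  rwa [coe_quadPlus] at h

theorem realNS_plus (h2 : (2 : F) ≠ 0) {m : ℕ} (hm : 3 ≤ m) (hodd : Odd m) :
    RealNS (Cfsg.quadFormPlus m F) := (realNU_plus h2 hm hodd).realNS

theorem realNU_minus (h2 : (2 : F) ≠ 0) {m : ℕ} (hm : 3 ≤ m) (hodd : Odd m) {a b : F}
    (hab : ∀ z₁ z₂ : F, z₁ ^ 2 + a * z₁ * z₂ + b * z₂ ^ 2 = 0 → z₁ = 0 ∧ z₂ = 0) :
    RealNU (Cfsg.quadFormMinus (m - 1) F a b) := by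
  obtain ⟨n, rfl⟩ : ∃ n, m = n + 3 := ⟨m - 3, by omega⟩
  have hn : Even n := by
    rw [Nat.even_iff]
    have := Nat.odd_iff.1 hodd
    omega
  have e : n + 3 - 1 = n + 2 := rfl
  rw [e]
  have ha : a = 2 * (a / 2) := by field_simp
  have hD : b - (a / 2) ^ 2 ≠ 0 := by
    intro h0
    have := hab (-(a / 2)) 1 (by
      have h4 : a * (a / 2) = 2 * (a / 2) ^ 2 := by rw [show a * (a / 2) = 2 * (a / 2) * (a / 2) by rw [← ha]]; ring
      linear_combination h0 - h4)
    exact one_ne_zero this.2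
  have h := exists_real' h2 (quadMinus (n + 2) F a b) (quadMinus_nondegenerate hab) (by simp only [_root_.Fintype.card_sum, _root_.Fintype.card_fin, _root_.le_add_iff_nonneg_left, _root_.zero_le]) hn
    (D := b - (a / 2) ^ 2) hD (phiMinus n (a / 2)) (fun v => by
      rw [coe_quadMinus]
      conv_lhs => rw [ha]
      exact q_phiMinus n (a / 2) b v)
  rwa [coe_quadMinus] at h

theorem realNS_minus (h2 : (2 : F) ≠ 0) {m : ℕ} (hm : 3 ≤ m) (hodd : Odd m) {a b : F}
    (hab : ∀ z₁ z₂ : F, z₁ ^ 2 + a * z₁ * z₂ + b * z₂ ^ 2 = 0 → z₁ = 0 ∧ z₂ = 0) :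
    RealNS (Cfsg.quadFormMinus (m - 1) F a b) := (realNU_minus h2 hm hodd hab).realNS

end Cfsg.Agent.H907.Odm
end

-- part: H907/Odm/Cov
section
/-!
# TEAM ODDM, C8: `N_1` of `PΩ_{2m}^ε(q)`, `q` and `m` odd
-/

set_option autoImplicit false
set_option linter.unusedSectionVars false

namespace Cfsg.Agent.H907.Odm

open Cfsg Matrix Cfsg.Agent.H453.OddM
open Cfsg.Agent.ClassicalGeometry.Reflection

variable {ι : Type} [Fintype ι] [DecidableEq ι] {F : Type*} [Field F] {Q : (ι → F) → F}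

/-- subgroups of `PΩ(Q)` fixing a nonsingular line are not `Cov` -/
theorem RealNS.not_cov' (h : RealNS Q) {M : Subgroup (POmega F Q)} {v : ι → F} (hv : Q v ≠ 0)
    (hM : ∀ x : Omega F Q, QuotientGroup.mk' (Subgroup.center (Omega F Q)) x ∈ M →
      ∃ c : F, ((x : isometryGroup F Q) : Matrix.GeneralLinearGroup ι F).1 *ᵥ v = c • v) :
    ¬ Cov (POmega F Q) M := by
  intro hc
  obtain ⟨u, hu, ⟨g, hg, hgu⟩, hns⟩ := h
  have hr : IsReal (QuotientGroup.mk' (Subgroup.center (Omega F Q)) ⟨u, hu⟩) :=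
    IsReal.map (⟨⟨g, hg⟩, Subtype.ext hgu⟩ : IsReal (⟨u, hu⟩ : Omega F Q)) _
  obtain ⟨t, ht⟩ := hc.2 _ hr
  obtain ⟨y, rfl⟩ := QuotientGroup.mk'_surjective _ t
  rw [← map_mul, ← map_inv, ← map_mul] at ht
  obtain ⟨c, hcv⟩ := hM _ ht
  -- `u` has the eigenvector `y⁻¹ v`
  set w : ι → F := (((y : isometryGroup F Q)⁻¹ : isometryGroup F Q) : Matrix.GeneralLinearGroup ι F).1 *ᵥ v with hw
  have h1 : Q w = Q v := (mem_isometryGroup_iff Q _).1 ((y : isometryGroup F Q)⁻¹).2 v
  refine hns w (by rw [h1]; exact hv) c ?_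
  have h2 : (((y * ⟨u, hu⟩ * y⁻¹ : Omega F Q) : isometryGroup F Q) : Matrix.GeneralLinearGroup ι F).1 *ᵥ v =
      ((y : isometryGroup F Q) : Matrix.GeneralLinearGroup ι F).1 *ᵥ
        (((u : Matrix.GeneralLinearGroup ι F) : Matrix ι ι F) *ᵥ w) := by
    rw [hw, ← coe_mul_mulVec, ← coe_mul_mulVec]
    rfl
  rw [h2] at hcv
  have h3 := congrArg (fun z => (((y : isometryGroup F Q)⁻¹ : isometryGroup F Q) :
    Matrix.GeneralLinearGroup ι F).1 *ᵥ z) hcv

  rw [← coe_mul_mulVec, inv_mul_cancel, Matrix.mulVec_smul, Subgroup.coe_one, Units.val_one,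
    Matrix.one_mulVec] at h3
  exact h3

end Cfsg.Agent.H907.Odm
end

-- part: H907/Odm/CovPre
section
/-!
# TEAM ODDM, C8: `N_1` of `PΩ_{2m}^ε(q)`, `q` and `m` odd, in the interface of `H884.El.pre`
-/

set_option autoImplicit false
set_option linter.unusedSectionVars false

namespace Cfsg.Agent.H907.Odm

open Cfsg Cfsg.Geo Matrix Cfsg.Agent.H453.OddM Cfsg.Agent.H884.El

variable {ι : Type} [Fintype ι] [DecidableEq ι] {F : Type*} [Field F] {Q : (ι → F) → F}

/-- subgroups of `PΩ(Q)` fixing a nonsingular line are not `Cov` -/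
theorem RealNS.not_cov (h : RealNS Q) {M : Subgroup (POmega F Q)} {v : ι → F} (hv : Q v ≠ 0)
    (hM : pre Q M ≤ subspaceStabilizer (Submodule.span F {v})) : ¬ Cov (POmega F Q) M := by
  refine h.not_cov' hv fun x hx => ?_
  have h1 := (hM (mem_pre.2 hx) v).1 (Submodule.mem_span_singleton_self v)
  obtain ⟨c, hc⟩ := Submodule.mem_span_singleton.1 h1
  exact ⟨c, hc.symm⟩

/-- **`N_1` of `PΩ^+_{2m}(q)`**, `q` and `m` odd. -/
theorem not_cov_plus [Finite F] (h2 : (2 : F) ≠ 0) {m : ℕ} (hm : 3 ≤ m) (hodd : Odd m)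
    {M : Subgroup (POmega F (quadFormPlus m F))} {v : Fin m ⊕ Fin m → F} (hv : quadFormPlus m F v ≠ 0)
    (hM : pre (quadFormPlus m F) M ≤ subspaceStabilizer (Submodule.span F {v})) :
    ¬ Cov (POmega F (quadFormPlus m F)) M :=
  (realNS_plus h2 hm hodd).not_cov hv hM

/-- **`N_1` of `PΩ^-_{2m}(q)`**, `q` and `m` odd. -/
theorem not_cov_minus [Finite F] (h2 : (2 : F) ≠ 0) {m : ℕ} (hm : 3 ≤ m) (hodd : Odd m) {a b : F}
    (hab : ∀ z₁ z₂ : F, z₁ ^ 2 + a * z₁ * z₂ + b * z₂ ^ 2 = 0 → z₁ = 0 ∧ z₂ = 0)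
    {M : Subgroup (POmega F (quadFormMinus (m - 1) F a b))} {v : (Fin (m - 1) ⊕ Fin (m - 1)) ⊕ Fin 2 → F}
    (hv : quadFormMinus (m - 1) F a b v ≠ 0)
    (hM : pre (quadFormMinus (m - 1) F a b) M ≤ subspaceStabilizer (Submodule.span F {v})) :
    ¬ Cov (POmega F (quadFormMinus (m - 1) F a b)) M :=
  (realNS_minus h2 hm hodd hab).not_cov hv hM

end Cfsg.Agent.H907.Odm
end

private theorem dce_f1bb555ad6f4 : _root_.True := by
  try have : _root_.True := by simp only [_root_.Cfsg.Agent.H907.Odm.qR.eq_1]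
  try have : _root_.True := by simp only [_root_.Cfsg.Agent.H907.Odm.b6.eq_1]
  try have : _root_.True := by simp only [_root_.Cfsg.Agent.H907.Odm.h6.eq_1]
  try have : _root_.True := by simp only [_root_.Cfsg.Agent.H907.Odm.q6.eq_1]
  try have : _root_.True := by simp only [_root_.Cfsg.Agent.H907.Odm.g6.eq_1]
  exact _root_.True.intro
end

section
prune_inst 0xfca9f9abb8bddfdfff7e77aedcdffdf9983fffa6dff9cb3fe821cf0bdf4b00c9c5fba50bea10fe0ec3e01410f87b53f97eeeffa26bdc7ffffd5df45ffbec0f9d67bd08519688340fbc0ff603e0778e7f000000000000000000000000000000000200000000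

-- part: H746/OddM/ThreeLEl_mg
section
prune_inst 0x11000540040000000000850000000022240001900000080000820240020120000000804000201002002800000000006811000480420000000a200000013c06090000000000000000000090010000000000000000000000000000000000010004000400000
set_option linter.all false
open scoped Cfsg.Agent.FastGrp

-- part: H746/OddM/PslTwo
section
/-!
# S4785, the groups `PSL_2(q)`, `q` odd (helper746, TEAM ODDM)

* `RO8.eq_top_of_lt_eight` : index less than 8;
* `isReal_pr` : semisimple elements are real;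
* `row_psl_two` : the row.
-/

set_option autoImplicit false

open Cfsg

namespace Cfsg.Agent.H746.OddM

open Cfsg.Agent.H453.OddM Cfsg.Agent.H390.PslSpec Subgroup

universe u

/-- index less than 8 -/
theorem eq_top_of_lt_eight {T : Type u} [Group T] [Finite T] [IsSimpleGroup T] (h2 : 2 ∣ Nat.card T) {R : Subgroup T}
    (h : RO8 T R) (h8 : R.index < 8) : R = ⊤ := by
  have hfin : Finite (T ⧸ R) := inferInstance
  obtain ⟨t, ht⟩ := exists_prime_orderOf_dvd_card' 2 h2
  have ht2 : t ^ 2 = 1 := by rw [← ht, pow_orderOf_eq_one]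
  have h1 := h.mod_eight t ht2
  have h3 : Nat.card {ω : T ⧸ R // t • ω = ω} ≤ R.index :=
    Nat.card_le_card_of_injective (Subtype.val : {ω : T ⧸ R // t • ω = ω} → T ⧸ R) Subtype.val_injective
  have h4 : Nat.card {ω : T ⧸ R // t • ω = ω} = R.index := by
    have h5 : Nat.card {ω : T ⧸ R // t • ω = ω} % 8 = R.index % 8 := h1
    omega
  have h5 : Function.Bijective (Subtype.val : {ω : T ⧸ R // t • ω = ω} → T ⧸ R) :=
    (Nat.bijective_iff_injective_and_card _).2 ⟨Subtype.val_injective, h4⟩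
  have h6 : t ∈ R.normalCore := by
    intro g
    obtain ⟨⟨ω, hω⟩, h7⟩ := h5.2 (QuotientGroup.mk g⁻¹ : T ⧸ R)
    have h8 : ω = QuotientGroup.mk g⁻¹ := h7
    rw [h8] at hω
    have h9 := fixed_iff.1 hω
    rwa [inv_inv] at h9
  rcases (inferInstance : R.normalCore.Normal).eq_bot_or_eq_top with h7 | h7
  · rw [h7, mem_bot] at h6
    rw [h6, orderOf_one] at ht
    exact absurd ht (by decide)
  · rw [eq_top_iff, ← h7]
    exact normalCore_le R

section

variable {F : Type*} [Field F]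

local notation "SL2" => Matrix.SpecialLinearGroup (Fin 2) F
local notation "PSL2" => Matrix.ProjectiveSpecialLinearGroup (Fin 2) F

open Polynomial in
/-- the equation for the inverting element -/
theorem exists_sol [Fintype F] (hq : Fintype.card F % 2 = 1) (h2 : (2 : F) ≠ 0) {t : F} (ht : t ^ 2 ≠ 4) :
    ∃ x z : F, x * x + t * x * z + z * z = -1 := by
  obtain ⟨s, rfl⟩ : ∃ s : F, t = 2 * s := ⟨t / 2, by field_simp⟩
  have hk : (1 - s ^ 2 : F) ≠ 0 := by
    intro h
    apply ht
    linear_combination -4 * h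
  obtain ⟨a, b, hab⟩ := FiniteField.exists_root_sum_quadratic (R := F) (f := X ^ 2) (g := C (1 - s ^ 2) * X ^ 2 + 1)
    (by rw [degree_X_pow]; rfl) (by
      have h1 : (C (1 - s ^ 2) * X ^ 2 + 1 : F[X]) = C (1 - s ^ 2) * X ^ 2 + C 0 * X + C 1 := by simp
      rw [h1]; exact degree_quadratic hk) hq
  refine ⟨a - s * b, b, ?_⟩
  simp only [eval_add, eval_pow, eval_X, eval_mul, eval_C, eval_one] at hab
  linear_combination hab

/-- regular semisimple elements in companion form are real -/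
theorem isReal_comp [Fintype F] (hq : Fintype.card F % 2 = 1) (h2 : (2 : F) ≠ 0) {t : F} (ht : t ^ 2 ≠ 4) :
    IsReal (pr F (comp t)) := by
  obtain ⟨x, z, h⟩ := exists_sol hq h2 ht
  let S : SL2 := ⟨!![x, z + x * t; z, -x], by rw [Matrix.det_fin_two_of]; linear_combination -h⟩
  refine ⟨pr F S, ?_⟩
  rw [← map_inv, ← map_inv, ← map_mul, ← map_mul]
  congr 1
  rw [mul_inv_eq_iff_eq_mul, eq_inv_mul_iff_mul_eq]
  apply Subtype.ext
  rw [Matrix.SpecialLinearGroup.coe_mul, Matrix.SpecialLinearGroup.coe_mul]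
  change !![0, -1; 1, t] * (!![x, z + x * t; z, -x] * !![0, -1; 1, t]) = !![x, z + x * t; z, -x]
  rw [Matrix.mul_fin_two, Matrix.mul_fin_two]
  congr 1
  ext i j
  (revert i j; simp only [_root_.Fin.forall_fin_succ, _root_.Nat.succ_eq_add_one, Nat.reduceAdd, _root_.MulZeroClass.mul_zero, _root_.mul_one, _root_.zero_add, _root_.MulZeroClass.zero_mul, _root_.mul_neg, _root_.neg_mul, _root_.one_mul, _root_.neg_neg, _root_.neg_add_rev, _root_.Matrix.cons_val', _root_.Matrix.cons_val_fin_one, Fin.isValue, _root_.Matrix.cons_val_zero, _root_.Matrix.cons_val_succ, _root_.forall_const, _root_.true_and]) <;> (repeat' with_reducible apply And.intro) <;> ring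

end

section

variable {F : Type*} [Field F] [Fintype F] {p : ℕ} [hp : Fact p.Prime] [hcp : CharP F p]

local notation "SL2" => Matrix.SpecialLinearGroup (Fin 2) F
local notation "PSL2" => Matrix.ProjectiveSpecialLinearGroup (Fin 2) F

omit [Fintype F] in
/-- the trace is not `±2` -/
theorem trace_ne {K : Type*} [Field K] [Algebra F K] {u : K} (h : 2 < orderOf u) {t : F}
    (ht : algebraMap F K t = u + u⁻¹) : t ^ 2 ≠ 4 := by
  intro h4
  have hu : u ≠ 0 := ne_zero_of_orderOf h
  have h1 : (u + u⁻¹) ^ 2 = 4 := by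
    rw [← ht, ← map_pow, h4]; exact map_ofNat _ 4
  have huu : u * u⁻¹ = 1 := mul_inv_cancel₀ hu
  have h2 : (u - u⁻¹) ^ 2 = 0 := by linear_combination h1 - 4 * huu
  exact inv_ne_of_orderOf h (sub_eq_zero.1 ((pow_eq_zero_iff two_ne_zero).1 h2))

include hp hcp in
theorem realP_sub (hq : 4 ≤ Fintype.card F) (hodd : Fintype.card F % 2 = 1) (h2 : (2 : F) ≠ 0) :
    RealP PSL2 ((Fintype.card F - 1) / 2) := by
  classical
  obtain ⟨g, hg⟩ := IsCyclic.exists_generator (α := Fˣ)
  have hord : orderOf (g : F) = Fintype.card F - 1 := by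
    rw [orderOf_units, orderOf_eq_card_of_forall_mem_zpowers hg, Nat.card_eq_fintype_card, Fintype.card_units]
  set u := algebraMap F (AlgebraicClosure F) (g : F)
  have hu : orderOf u = Fintype.card F - 1 := by
    rw [← hord]
    exact orderOf_injective (algebraMap F (AlgebraicClosure F) : F →* AlgebraicClosure F) (algebraMap F (AlgebraicClosure F)).injective _
  have ht : algebraMap F (AlgebraicClosure F) ((g : F) + (g : F)⁻¹) = u + u⁻¹ := by simp [u]
  have h3 := exists_of_root (p := p) u (ne_zero_of_orderOf (by omega)) ((g : F) + (g : F)⁻¹) ht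
    (inv_ne_of_orderOf (by omega)) (dd_dvd_sub _) hu
  rw [dd_odd (Nat.odd_iff.2 hodd)] at h3
  exact ⟨_, h3, isReal_comp hodd h2 (trace_ne (by omega) ht)⟩

include hp hcp in
theorem realP_add (hq : 4 ≤ Fintype.card F) (hodd : Fintype.card F % 2 = 1) (h2 : (2 : F) ≠ 0) :
    RealP PSL2 ((Fintype.card F + 1) / 2) := by
  set q := Fintype.card F with hqdef
  have hq1 : 1 ≤ q := by omega
  have : CharP (AlgebraicClosure F) p := charP_of_injective_algebraMap (algebraMap F (AlgebraicClosure F)).injective p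
  obtain ⟨k, hk, hc⟩ := FiniteField.card F p
  have hne : NeZero ((q + 1 : ℕ) : AlgebraicClosure F) := by
    constructor
    rw [Ne, CharP.cast_eq_zero_iff (AlgebraicClosure F) p]
    intro h
    have h2 : p ∣ q := by rw [hqdef, hc]; exact dvd_pow_self _ k.2.ne'
    have := (Nat.dvd_add_right h2).1 h
    exact hp.out.one_lt.ne' (Nat.dvd_one.1 this)
  obtain ⟨u, hu⟩ := HasEnoughRootsOfUnity.exists_primitiveRoot (AlgebraicClosure F) (q + 1)
  have hord : orderOf u = q + 1 := hu.eq_orderOf.symm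
  have hu0 : u ≠ 0 := ne_zero_of_orderOf (by omega)
  have huq : u ^ q = u⁻¹ := by
    have : u ^ q * u = 1 := by rw [← pow_succ, ← hord, pow_orderOf_eq_one]
    exact eq_inv_of_mul_eq_one_left this
  -- trace in F
  have hfix : (u + u⁻¹) ^ q = u + u⁻¹ := by
    have : (u + u⁻¹) ^ q = u ^ q + (u⁻¹) ^ q := by
      rw [hqdef, hc]
      exact add_pow_char_pow (R := AlgebraicClosure F) u u⁻¹ p k
    rw [this, inv_pow, huq, inv_inv, add_comm]
  obtain ⟨t, ht⟩ : ∃ t : F, algebraMap F (AlgebraicClosure F) t = u + u⁻¹ :=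
    mem_range_of_pow_card _ hfix
  have h3 := exists_of_root (p := p) u hu0 t ht (inv_ne_of_orderOf (by omega)) (dd_dvd_add hq1) hord
  rw [← hqdef, dd_odd (Nat.odd_iff.2 hodd)] at h3
  exact ⟨_, h3, isReal_comp hodd h2 (trace_ne (by omega) ht)⟩

omit [Fintype F] in
include hp hcp in
/-- transvections are real if `-1` is a square -/
theorem realP_char (h2 : IsSquare (-1 : F)) : RealP PSL2 p := by
  refine ⟨pr F (trv F), ?_, ?_⟩
  · apply orderOf_eq_prime
    · rw [pr_pow_eq_one_iff]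
      left
      have : ∀ n : ℕ, (!![1, 1; 0, 1] : Matrix (Fin 2) (Fin 2) F) ^ n = !![1, (n : F); 0, 1] := by
        intro n
        induction n with
        | zero => simp [Matrix.one_fin_two]
        | succ n ih =>
          rw [pow_succ, ih]
          ext i j
          (revert i j; simp only [Matrix.mul_apply, Fin.sum_univ_two, add_comm, _root_.Fin.forall_fin_succ, _root_.Matrix.of_apply, _root_.Matrix.cons_val', _root_.Matrix.cons_val_fin_one, Fin.isValue, _root_.Matrix.cons_val_zero, _root_.Matrix.cons_val_one, _root_.Nat.cast_add, _root_.Nat.cast_one, _root_.mul_one, _root_.MulZeroClass.mul_zero, _root_.zero_add, _root_.Matrix.cons_val_succ, _root_.forall_const, _root_.true_and, _root_.implies_true, _root_.and_self])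
      show (!![1, 1; 0, 1] : Matrix (Fin 2) (Fin 2) F) ^ p = 1
      rw [this, CharP.cast_eq_zero]
      simp [Matrix.one_fin_two]
    · rw [Ne, pr_eq_one_iff]
      rintro (h | h)
      · have := congrFun (congrFun h 0) 1
        simp [trv] at this
      · have := congrFun (congrFun h 0) 1
        simp [trv] at this
  · obtain ⟨i, hi⟩ := h2
    let S : SL2 := ⟨!![i, 0; 0, -i], by rw [Matrix.det_fin_two_of]; linear_combination hi⟩
    refine ⟨pr F S, ?_⟩
    rw [← map_inv, ← map_inv, ← map_mul, ← map_mul]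
    congr 1
    rw [mul_inv_eq_iff_eq_mul, eq_inv_mul_iff_mul_eq]
    apply Subtype.ext
    rw [Matrix.SpecialLinearGroup.coe_mul, Matrix.SpecialLinearGroup.coe_mul]
    change !![1, 1; 0, 1] * (!![i, 0; 0, -i] * !![1, 1; 0, 1]) = !![i, 0; 0, -i]
    rw [Matrix.mul_fin_two, Matrix.mul_fin_two]
    congr 1
    ext i j
    (revert i j; simp [_root_.Fin.forall_fin_succ])

end

/-- the row over a given field -/
theorem row_of_field {F : Type} [Field F] [Fintype F] [IsSimpleGroup (Matrix.ProjectiveSpecialLinearGroup (Fin 2) F)]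
    (hq4 : 4 ≤ Fintype.card F) (hodd : ¬ 2 ∣ Fintype.card F)
    (hcard : 2 * Nat.card (Matrix.ProjectiveSpecialLinearGroup (Fin 2) F) =
      Fintype.card F * (Fintype.card F ^ 2 - 1)) :
    Row8 (Matrix.ProjectiveSpecialLinearGroup (Fin 2) F) := by
  classical
  intro R hR
  by_contra hne
  obtain ⟨p, hcp⟩ := CharP.exists F
  have := hcp
  have hp : Fact p.Prime := ⟨CharP.char_is_prime F p⟩
  have hfin : Finite (Matrix.ProjectiveSpecialLinearGroup (Fin 2) F) := inferInstance
  have h2 : (2 : F) ≠ 0 := by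
    intro h
    have h1 : p ∣ 2 := (CharP.cast_eq_zero_iff F p 2).1 (by exact_mod_cast h)
    have h2 : p = 2 := (Nat.prime_dvd_prime_iff_eq hp.out Nat.prime_two).1 h1
    obtain ⟨n, -, hn⟩ := FiniteField.card F p
    rw [hn, h2] at hodd
    exact hodd (dvd_pow_self _ n.2.ne')
  have hs := realP_sub (p := p) hq4 (by omega) h2
  have ha := realP_add (p := p) hq4 (by omega) h2
  have hs' := hR.cov.dvd hs
  have ha' := hR.cov.dvd ha
  -- `q = 2 m + 1`
  obtain ⟨m, hm⟩ : ∃ m, Fintype.card F = 2 * m + 1 := ⟨Fintype.card F / 2, by omega⟩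
  have e1 : (Fintype.card F - 1) / 2 = m := by (clear * - hm; omega)
  have e2 : (Fintype.card F + 1) / 2 = m + 1 := by (clear * - hm; omega)
  rw [e1] at hs hs'
  rw [e2] at ha ha'
  have hc : Nat.Coprime m (m + 1) := by simp
  obtain ⟨k, hk⟩ := hc.mul_dvd_of_dvd_of_dvd hs' ha'
  have hci := R.card_mul_index
  have hcard2 : Nat.card (Matrix.ProjectiveSpecialLinearGroup (Fin 2) F) = (2 * m + 1) * (2 * (m * (m + 1))) := by
    have h3 : Fintype.card F ^ 2 - 1 = 2 * (2 * (m * (m + 1))) := by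
      rw [hm]
      have : (2 * m + 1) ^ 2 = 2 * (2 * (m * (m + 1))) + 1 := by ring
      omega
    rw [h3, hm] at hcard
    have h4 : (2 * m + 1) * (2 * (2 * (m * (m + 1)))) = 2 * ((2 * m + 1) * (2 * (m * (m + 1)))) := by ring
    rw [h4] at hcard
    exact Nat.eq_of_mul_eq_mul_left two_pos hcard
  have hm0 : 0 < m := by omega
  have hidx : R.index ∣ Fintype.card F := by
    have h3 : m * (m + 1) * (k * R.index) = m * (m + 1) * ((2 * m + 1) * 2) := by
      rw [← mul_assoc, ← hk, hci, hcard2]; ring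
    have h4 : k * R.index = (2 * m + 1) * 2 := Nat.eq_of_mul_eq_mul_left (by (clear * - hm0; positivity)) h3
    have h5 : R.index ∣ (2 * m + 1) * 2 := ⟨k, by rw [← h4, mul_comm]⟩
    rw [hm]
    exact (Nat.Coprime.symm (Nat.coprime_two_left.2 hR.odd_index)).dvd_of_dvd_mul_right h5
  have heven : 2 ∣ Nat.card (Matrix.ProjectiveSpecialLinearGroup (Fin 2) F) := by
    rw [hcard2]; exact ⟨(2 * m + 1) * (m * (m + 1)), by ring⟩
  by_cases h8 : R.index < 8
  · exact hne (eq_top_of_lt_eight heven hR h8)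
  have hle : R.index ≤ Fintype.card F := Nat.le_of_dvd (by omega) hidx
  by_cases h9 : Fintype.card F = 9
  · -- `q = 9`
    have hp3 : p = 3 := by
      obtain ⟨n, -, hn⟩ := FiniteField.card F p
      rw [h9] at hn
      have h3 : p ∣ 3 ^ 2 := by
        have : (3 : ℕ) ^ 2 = 9 := by norm_num
        rw [this, hn]; exact dvd_pow_self _ n.2.ne'
      exact (Nat.prime_dvd_prime_iff_eq hp.out Nat.prime_three).1 (hp.out.dvd_of_dvd_pow h3)
    have h3 : RealP (Matrix.ProjectiveSpecialLinearGroup (Fin 2) F) p :=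
      realP_char (FiniteField.isSquare_neg_one_iff.2 (by rw [h9]; decide))
    have h4 := hR.cov.dvd h3
    rw [hp3] at h4
    have h5 : m = 4 := by (clear * - e2 h9; omega)
    have h6 : R.index = 9 := by
      obtain ⟨j, hj⟩ := hR.odd_index
      (clear * - h8 hle h9 hj; omega)
    rw [h6, hcard2, h5] at hci
    omega
  · -- general case
    have h7 : Fintype.card F ≠ 7 := by omega
    obtain ⟨H, hH, ⟨e⟩⟩ := S0811.result (F := F) rfl (by
      simp only [Finset.mem_insert, Finset.mem_singleton]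
      (clear * - hm h9 h7; omega))
    have hg2 : Nat.gcd 2 (Fintype.card F - 1) = 2 := Nat.gcd_eq_left (by (clear * - hm; omega))
    rw [hg2, e2] at e
    -- the real element and the involution
    let x : Matrix.ProjectiveSpecialLinearGroup (Fin 2) F := (e.symm (DihedralGroup.r 1) : H)
    let s : Matrix.ProjectiveSpecialLinearGroup (Fin 2) F := (e.symm (DihedralGroup.sr 0) : H)
    have hxs : s * x * s⁻¹ = x⁻¹ := by
      have h : e.symm (DihedralGroup.sr 0) * e.symm (DihedralGroup.r 1) * (e.symm (DihedralGroup.sr 0))⁻¹ =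
          (e.symm (DihedralGroup.r 1))⁻¹ := by
        rw [← map_inv, ← map_inv, ← map_mul, ← map_mul]
        congr 1
        simp
      exact congrArg Subtype.val h
    have hs2 : s ^ 2 = 1 := by
      have h : e.symm (DihedralGroup.sr 0) ^ 2 = 1 := by
        rw [← map_pow, sq]
        simp only [_root_.DihedralGroup.sr_mul_sr, _root_.sub_self, _root_.DihedralGroup.r_zero, _root_.map_one]
      exact congrArg Subtype.val h
    obtain ⟨g, hg1, hg2⟩ := hR.toRO.exists_conj_two (x := x) ⟨s, hxs⟩ (Q := Subgroup.zpowers s) (by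
      rw [IsPGroup.iff_card]
      have h1 : orderOf s ∣ 2 := orderOf_dvd_of_pow_eq_one hs2
      rw [Nat.card_zpowers]
      rcases (Nat.dvd_prime Nat.prime_two).1 h1 with h | h
      · exact ⟨0, by rw [h, pow_zero]⟩
      · exact ⟨1, by rw [h, pow_one]⟩) (by
      intro q hq
      have h1 : Subgroup.zpowers s ≤ Subgroup.normalizer (Subgroup.zpowers x : Set _) := by
        rw [Subgroup.zpowers_le, Subgroup.mem_normalizer_iff]
        intro y
        have hmap : (Subgroup.zpowers x).map (MulAut.conj s).toMonoidHom = Subgroup.zpowers x := by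
          rw [MonoidHom.map_zpowers]
          change Subgroup.zpowers (s * x * s⁻¹) = _
          rw [hxs, Subgroup.zpowers_inv]
        constructor
        · intro hy
          have : s * y * s⁻¹ ∈ (Subgroup.zpowers x).map (MulAut.conj s).toMonoidHom := ⟨y, hy, rfl⟩
          rwa [hmap] at this
        · intro hy
          change s * y * s⁻¹ ∈ Subgroup.zpowers x at hy
          rw [← hmap] at hy
          obtain ⟨z, hz, hzy⟩ := hy
          have h3 : s * z * s⁻¹ = s * y * s⁻¹ := hzy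
          have h4 : z = y := by
            have := (MulAut.conj s).injective (a₁ := z) (a₂ := y) h3
            exact this
          rwa [← h4]
      have h2 := h1 hq
      exact (Subgroup.mem_normalizer_iff.1 h2 x).1 (Subgroup.mem_zpowers x))
    -- `H^g ≤ R`
    have hsub : H.map (MulAut.conj g).toMonoidHom ≤ R := by
      rintro _ ⟨h, hh, rfl⟩
      change g * h * g⁻¹ ∈ R
      have hx1 : ∀ k : ℤ, g * x ^ k * g⁻¹ ∈ R := by
        intro k
        have e : g * x ^ k * g⁻¹ = (g * x * g⁻¹) ^ k := (map_zpow (MulAut.conj g).toMonoidHom x k)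
        rw [e]; exact R.zpow_mem hg1 k
      have hx2 : ∀ k : ZMod (m + 1), ∃ j : ℤ, ((e.symm (DihedralGroup.r k) : H) : _) = x ^ j := by
        intro k
        refine ⟨(k.val : ℤ), ?_⟩
        have h3 : DihedralGroup.r k = (DihedralGroup.r 1 : DihedralGroup (m + 1)) ^ k.val := by
          rw [DihedralGroup.r_one_pow, ZMod.natCast_zmod_val]
        rw [h3, map_pow, zpow_natCast]
        rfl
      obtain ⟨d, hd⟩ : ∃ d, e ⟨h, hh⟩ = d := ⟨_, rfl⟩
      have hd' : h = ((e.symm d : H) : _) := by rw [← hd, MulEquiv.symm_apply_apply]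
      cases d with
      | r k =>
        obtain ⟨j, hj⟩ := hx2 k
        rw [hd', hj]
        exact hx1 j
      | sr k =>
        obtain ⟨j, hj⟩ := hx2 k
        have h3 : (DihedralGroup.sr k : DihedralGroup (m + 1)) = DihedralGroup.sr 0 * DihedralGroup.r k := by
          simp
        have h4 : h = s * x ^ j := by
          rw [hd', h3, map_mul, Subgroup.coe_mul, hj]
        rw [h4]
        have h5 : g * (s * x ^ j) * g⁻¹ = (g * s * g⁻¹) * (g * x ^ j * g⁻¹) := by group
        rw [h5]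
        exact R.mul_mem (hg2 s (Subgroup.mem_zpowers s)) (hx1 j)
    have hcoat : IsCoatom (H.map (MulAut.conj g).toMonoidHom) := by
      have h3 := ((MulAut.conj g).mapSubgroup.isCoatom_iff H).2 hH
      exact h3
    have hReq : R = H.map (MulAut.conj g).toMonoidHom := by
      rcases lt_or_eq_of_le hsub with h3 | h3
      · exact absurd (hcoat.2 R h3) hne
      · exact h3.symm
    have hRcard : Nat.card R = 2 * (m + 1) := by
      rw [hReq, Subgroup.card_map_of_injective (MulAut.conj g).injective, Nat.card_congr e.toEquiv,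
        DihedralGroup.nat_card]
    have h3 : m ∣ 2 := by
      rw [hRcard] at hs'
      exact hc.dvd_of_dvd_mul_right hs'
    have h4 := Nat.le_of_dvd two_pos h3
    (clear * - e2 h8 hle h4; omega)

/-- **C10a** -/
theorem row_psl_two (q : ℕ) (hq : ¬ 2 ∣ q) : RowN.{u} (.psl 2 q) := by
  intro T _ _ _ hT
  obtain ⟨F, _, _, hF, ⟨e⟩⟩ := hT.real
  obtain ⟨-, h4, -⟩ := hT.cond
  have : IsSimpleGroup (Matrix.ProjectiveSpecialLinearGroup (Fin 2) F) :=
    IsSimpleGroup.isSimpleGroup_of_surjective e.toMonoidHom e.surjective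
  refine Row8.congr e.symm (row_of_field (by rw [hF]; exact h4 rfl) (by rwa [hF]) ?_)
  have h1 := S0243.result (F := F) rfl 2 le_rfl
  rw [Fin.prod_univ_two] at h1
  have h5 := h4 rfl
  rw [Nat.gcd_eq_left (by omega)] at h1
  simp only [Fin.val_zero, Fin.val_one, pow_zero, pow_one] at h1
  have h6 : Fintype.card F ^ 2 - Fintype.card F = (Fintype.card F - 1) * Fintype.card F := by
    rw [sq, Nat.sub_one_mul]
  rw [h6] at h1
  have h7 : 0 < Fintype.card F - 1 := by omega
  refine Nat.eq_of_mul_eq_mul_left h7 ?_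
  rw [show (Fintype.card F - 1) * (2 * Nat.card (Matrix.ProjectiveSpecialLinearGroup (Fin 2) F)) =
    2 * ((Fintype.card F - 1) * Nat.card (Matrix.ProjectiveSpecialLinearGroup (Fin 2) F)) by ring, h1]
  ring

end Cfsg.Agent.H746.OddM
end

-- part: H746/OddM/ThreeLEl
section
/-!
# S4785: real elements of `SL_3(q)`, `q` odd (helper746, TEAM ODDM)
-/

set_option autoImplicit false

namespace Cfsg.Agent.H746.OddM.ThreeL

open Cfsg Cfsg.Geo Matrix Cfsg.Agent.H746.OddM.Three Cfsg.Agent.H453.OddM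
open Cfsg.Agent.H390.PslSpec (comp)
open Cfsg.Agent.H304.PslT (pr)
open scoped MatrixGroups

variable {F : Type*} [Field F]

local notation "V3" => Fin 3 → F
local notation "M3" => Matrix (Fin 3) (Fin 3) F
local notation "SL2" => Matrix.SpecialLinearGroup (Fin 2) F
local notation "SL3" => Matrix.SpecialLinearGroup (Fin 3) F
local notation "PSL3" => Matrix.ProjectiveSpecialLinearGroup (Fin 3) F

/-- `1 ⊕ A` -/
def emb : SL2 →* SL3 where
  toFun A := ⟨!![1, 0, 0; 0, A.1 0 0, A.1 0 1; 0, A.1 1 0, A.1 1 1], by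
    have h := A.2
    rw [Matrix.det_fin_two] at h
    rw [Matrix.det_fin_three]
    simp
    exact h⟩
  map_one' := by
    apply Subtype.ext
    ext i j
    (revert i j; simp only [_root_.Fin.forall_fin_succ, Fin.isValue, _root_.Matrix.SpecialLinearGroup.coe_one, _root_.Matrix.one_apply_eq, _root_.ne_eq, _root_.zero_ne_one, _root_.not_false_eq_true, _root_.Matrix.one_apply_ne, _root_.one_ne_zero, _root_.Matrix.of_apply, _root_.Matrix.cons_val', _root_.Matrix.cons_val_fin_one, _root_.Matrix.cons_val_zero, _root_.Matrix.cons_val_succ, _root_.IsEmpty.forall_iff, _root_.and_true, Nat.reduceAdd, _root_.Fin.succ_zero_eq_one, _root_.Fin.succ_one_eq_two, Fin.reduceEq, _root_.and_self, _root_.Fin.succ_ne_zero, _root_.true_and])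
  map_mul' A B := by
    apply Subtype.ext
    change (!![1, 0, 0; 0, (A.1 * B.1) 0 0, (A.1 * B.1) 0 1; 0, (A.1 * B.1) 1 0, (A.1 * B.1) 1 1] : M3) =
      !![1, 0, 0; 0, A.1 0 0, A.1 0 1; 0, A.1 1 0, A.1 1 1] * !![1, 0, 0; 0, B.1 0 0, B.1 0 1; 0, B.1 1 0, B.1 1 1]
    ext i j
    (revert i j; simp only [Matrix.mul_apply, Fin.sum_univ_three, Fin.sum_univ_two, _root_.Fin.forall_fin_succ, Fin.isValue, _root_.Matrix.of_apply, _root_.Matrix.cons_val', _root_.Matrix.cons_val_fin_one, _root_.Matrix.cons_val_zero, _root_.Matrix.cons_val_one, _root_.Matrix.cons_val, _root_.mul_one, _root_.MulZeroClass.mul_zero, _root_.add_zero, _root_.Matrix.cons_val_succ, _root_.zero_add, _root_.forall_const, _root_.true_and, _root_.MulZeroClass.zero_mul, _root_.and_self, _root_.implies_true])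

theorem emb_coe (A : SL2) : ((emb A : SL3) : M3) = !![1, 0, 0; 0, A.1 0 0, A.1 0 1; 0, A.1 1 0, A.1 1 1] := rfl

theorem emb_injective : Function.Injective (fun A : SL2 => pr 3 F (emb A)) := by
  intro A B h
  have h1 : pr 3 F (emb (A⁻¹ * B)) = 1 := by
    have h' : pr 3 F (emb A) = pr 3 F (emb B) := h
    rw [map_mul, map_mul, map_inv, map_inv, h', inv_mul_cancel]
  have h2 : emb (A⁻¹ * B) ∈ Subgroup.center SL3 := (QuotientGroup.eq_one_iff _).1 h1
  rw [Matrix.SpecialLinearGroup.mem_center_iff] at h2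
  obtain ⟨r, -, hr⟩ := h2
  rw [emb_coe] at hr
  have h00 := congrFun (congrFun hr 0) 0
  simp only [_root_.Fin.isValue, _root_.Matrix.scalar_apply, _root_.Matrix.diagonal_apply_eq, _root_.Matrix.SpecialLinearGroup.coe_mul, _root_.Matrix.SpecialLinearGroup.coe_inv, _root_.Matrix.of_apply, _root_.Matrix.cons_val', _root_.Matrix.cons_val_zero, _root_.Matrix.cons_val_fin_one] at h00
  have h11 := congrFun (congrFun hr 1) 1
  have h12 := congrFun (congrFun hr 1) 2
  have h21 := congrFun (congrFun hr 2) 1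
  have h22 := congrFun (congrFun hr 2) 2
  simp only [h00, _root_.Fin.isValue, _root_.Matrix.scalar_apply, _root_.Matrix.diagonal_apply_eq, _root_.Matrix.SpecialLinearGroup.coe_mul, _root_.Matrix.SpecialLinearGroup.coe_inv, _root_.Matrix.of_apply, _root_.Matrix.cons_val', _root_.Matrix.cons_val_one, _root_.Matrix.cons_val_zero, _root_.Matrix.cons_val_fin_one, _root_.ne_eq, _root_.Fin.reduceEq, _root_.not_false_eq_true, _root_.Matrix.diagonal_apply_ne, _root_.Matrix.cons_val] at h11 h12 h21 h22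
  have h3 : A⁻¹ * B = 1 := by
    apply Subtype.ext
    ext i j
    (revert i j; simp only [← h11, ← h12, ← h21, ← h22, _root_.Fin.forall_fin_succ, _root_.Matrix.SpecialLinearGroup.coe_mul, _root_.Matrix.SpecialLinearGroup.coe_inv, _root_.Matrix.SpecialLinearGroup.coe_one, Fin.isValue, _root_.Fin.succ_zero_eq_one, _root_.IsEmpty.forall_iff, _root_.and_true, _root_.Matrix.one_apply_eq, Nat.reduceAdd, _root_.ne_eq, _root_.zero_ne_one, _root_.not_false_eq_true, _root_.Matrix.one_apply_ne, _root_.and_self, _root_.Fin.succ_ne_zero])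
  exact (inv_mul_eq_one.1 h3)

/-- `SL_2(q) ≤ PSL_3(q)` -/
def embP : SL2 →* PSL3 := (pr 3 F).comp emb

theorem embP_injective : Function.Injective (embP : SL2 →* PSL3) := emb_injective

theorem orderOf_embP (A : SL2) : orderOf (embP A) = orderOf A := orderOf_injective _ embP_injective A

section

variable [Fintype F] {p : ℕ} [hp : Fact p.Prime] [hcp : CharP F p]

include hp hcp in
/-- a real element of order `q + 1` -/
theorem realP_add (hodd : Fintype.card F % 2 = 1) (h2 : (2 : F) ≠ 0) : RealP PSL3 (Fintype.card F + 1) := by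
  set q := Fintype.card F with hqdef
  have hq1 : 3 ≤ q := by
    have : 1 < q := Fintype.one_lt_card
    omega
  have : CharP (AlgebraicClosure F) p := charP_of_injective_algebraMap (algebraMap F (AlgebraicClosure F)).injective p
  obtain ⟨k, hk, hc⟩ := FiniteField.card F p
  have hne : NeZero ((q + 1 : ℕ) : AlgebraicClosure F) := by
    constructor
    rw [Ne, CharP.cast_eq_zero_iff (AlgebraicClosure F) p]
    intro h
    have h2 : p ∣ q := by rw [hqdef, hc]; exact dvd_pow_self _ k.2.ne'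
    have := (Nat.dvd_add_right h2).1 h
    exact hp.out.one_lt.ne' (Nat.dvd_one.1 this)
  obtain ⟨u, hu⟩ := HasEnoughRootsOfUnity.exists_primitiveRoot (AlgebraicClosure F) (q + 1)
  have hord : orderOf u = q + 1 := hu.eq_orderOf.symm
  have hu0 : u ≠ 0 := Cfsg.Agent.H390.PslSpec.ne_zero_of_orderOf (by omega)
  have huq : u ^ q = u⁻¹ := by
    have : u ^ q * u = 1 := by rw [← pow_succ, ← hord, pow_orderOf_eq_one]
    exact eq_inv_of_mul_eq_one_left this
  have hfix : (u + u⁻¹) ^ q = u + u⁻¹ := by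
    have : (u + u⁻¹) ^ q = u ^ q + (u⁻¹) ^ q := by
      rw [hqdef, hc]
      exact add_pow_char_pow (R := AlgebraicClosure F) u u⁻¹ p k
    rw [this, inv_pow, huq, inv_inv, add_comm]
  obtain ⟨t, ht⟩ : ∃ t : F, algebraMap F (AlgebraicClosure F) t = u + u⁻¹ :=
    Cfsg.Agent.H390.PslSpec.mem_range_of_pow_card _ hfix
  have hne : u ≠ u⁻¹ := Cfsg.Agent.H390.PslSpec.inv_ne_of_orderOf (by omega)
  have ht4 : t ^ 2 ≠ 4 := trace_ne (by omega) ht
  -- the order of `comp t`
  have ho : orderOf (_root_.Cfsg.Agent.H390.PslSpec.comp t) = q + 1 := by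
    apply Cfsg.Agent.H390.PslSpec.orderOf_eq_of_pow_iff
    intro n
    set f := algebraMap F (AlgebraicClosure F)
    have hdet : (f.mapMatrix (comp t : Matrix (Fin 2) (Fin 2) F)).det = 1 := by
      rw [← RingHom.map_det]; simp
    have htr : Cfsg.Agent.H390.PslSpec.tr (f.mapMatrix (comp t : Matrix (Fin 2) (Fin 2) F)) = u + u⁻¹ := by
      have h := Cfsg.Agent.H390.PslSpec.tr_comp t
      rw [← ht]
      unfold Cfsg.Agent.H390.PslSpec.tr at h ⊢
      conv_rhs => rw [← h]
      simp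
    have h1 := Cfsg.Agent.H390.PslSpec.pow_eq_iff (f.mapMatrix (comp t : Matrix (Fin 2) (Fin 2) F)) hdet u hu0 htr hne
      n 1 (by simp)
    have k1 := Cfsg.Agent.H390.PslSpec.map_pow_eq f (comp t : Matrix (Fin 2) (Fin 2) F) n 1
    simp only [map_one, one_smul] at h1 k1
    rw [← hord, orderOf_dvd_iff_pow_eq_one, ← h1, k1]
    constructor
    · intro h
      have := congrArg Subtype.val h
      simpa only [_root_.Matrix.SpecialLinearGroup.coe_pow, _root_.Matrix.SpecialLinearGroup.coe_one] using this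
    · intro h
      apply Subtype.ext
      simpa using h
  -- reality
  have hr : IsReal (_root_.Cfsg.Agent.H390.PslSpec.comp t) := by
    obtain ⟨x, z, h⟩ := exists_sol hodd h2 ht4
    let S : SL2 := ⟨!![x, z + x * t; z, -x], by rw [Matrix.det_fin_two_of]; linear_combination -h⟩
    refine ⟨S, ?_⟩
    rw [mul_inv_eq_iff_eq_mul, eq_inv_mul_iff_mul_eq]
    apply Subtype.ext
    rw [Matrix.SpecialLinearGroup.coe_mul, Matrix.SpecialLinearGroup.coe_mul]
    change !![0, -1; 1, t] * (!![x, z + x * t; z, -x] * !![0, -1; 1, t]) = !![x, z + x * t; z, -x]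
    rw [Matrix.mul_fin_two, Matrix.mul_fin_two]
    congr 1
    ext i j
    (revert i j; simp only [_root_.Fin.forall_fin_succ, _root_.Nat.succ_eq_add_one, Nat.reduceAdd, _root_.MulZeroClass.mul_zero, _root_.mul_one, _root_.zero_add, _root_.MulZeroClass.zero_mul, _root_.mul_neg, _root_.neg_mul, _root_.one_mul, _root_.neg_neg, _root_.neg_add_rev, _root_.Matrix.cons_val', _root_.Matrix.cons_val_fin_one, Fin.isValue, _root_.Matrix.cons_val_zero, _root_.Matrix.cons_val_succ, _root_.forall_const, _root_.true_and]) <;> (repeat' with_reducible apply And.intro) <;> ring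
  exact ⟨embP (_root_.Cfsg.Agent.H390.PslSpec.comp t), by rw [orderOf_embP, ho], hr.map embP⟩

end

/-- **a real diagonal element** -/
theorem exists_eg [Fintype F] : ∃ (lam : Fˣ) (x : SL3), orderOf lam = Fintype.card F - 1 ∧ IsReal x ∧
    (x : M3) = Matrix.diagonal ![1, (lam : F), (lam : F)⁻¹] := by
  classical
  obtain ⟨g, hg⟩ := IsCyclic.exists_generator (α := Fˣ)
  have hord : orderOf g = Fintype.card F - 1 := by
    rw [orderOf_eq_card_of_forall_mem_zpowers hg, Nat.card_eq_fintype_card, Fintype.card_units]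
  let A : SL2 := ⟨!![(g : F), 0; 0, (g : F)⁻¹], by rw [Matrix.det_fin_two_of]; simp⟩
  let S : SL2 := ⟨!![0, 1; -1, 0], by rw [Matrix.det_fin_two_of]; simp⟩
  refine ⟨g, emb A, hord, IsReal.map (f := emb) ⟨S, ?_⟩, ?_⟩
  · rw [mul_inv_eq_iff_eq_mul, eq_inv_mul_iff_mul_eq]
    apply Subtype.ext
    rw [Matrix.SpecialLinearGroup.coe_mul, Matrix.SpecialLinearGroup.coe_mul]
    change !![(g : F), 0; 0, (g : F)⁻¹] * (!![0, 1; -1, 0] * !![(g : F), 0; 0, (g : F)⁻¹]) = !![0, 1; -1, 0]
    rw [Matrix.mul_fin_two, Matrix.mul_fin_two]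
    congr 1
    ext i j
    (revert i j; simp [_root_.Fin.forall_fin_succ])
  · rw [emb_coe]
    ext i j
    (revert i j; simp only [A, Matrix.diagonal, _root_.Fin.forall_fin_succ, Fin.isValue, _root_.Matrix.of_apply, _root_.Matrix.cons_val', _root_.Matrix.cons_val_zero, _root_.Matrix.cons_val_fin_one, _root_.Matrix.cons_val_one, _root_.Nat.succ_eq_add_one, Nat.reduceAdd, _root_.Matrix.cons_val_succ, _root_.Fin.succ_zero_eq_one, _root_.Fin.succ_one_eq_two, _root_.IsEmpty.forall_iff, _root_.and_true, ↓reduceIte, _root_.zero_ne_one, Fin.reduceEq, _root_.and_self, _root_.Fin.succ_ne_zero, _root_.right_eq_ite_iff, _root_.zero_eq_inv, _root_.left_eq_ite_iff, _root_.inv_eq_zero, _root_.Units.ne_zero, _root_.imp_false, _root_.Decidable.not_not, _root_.true_and])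

/-- **a real transvection** -/
theorem exists_tv : ∃ t : SL3, IsReal t ∧ IsTv (t : M3) := by
  let t : SL3 := ⟨!![1, 0, 0; 0, 1, 1; 0, 0, 1], by rw [Matrix.det_fin_three]; simp⟩
  let s : SL3 := ⟨!![-1, 0, 0; 0, -1, 0; 0, 0, 1], by rw [Matrix.det_fin_three]; simp⟩
  refine ⟨t, ⟨s, ?_⟩, ![0, 0, 1], ![0, 1, 0], ?_, ?_, ?_, ?_⟩
  · rw [mul_inv_eq_iff_eq_mul, eq_inv_mul_iff_mul_eq]
    apply Subtype.ext
    rw [Matrix.SpecialLinearGroup.coe_mul, Matrix.SpecialLinearGroup.coe_mul]
    change (!![1, 0, 0; 0, 1, 1; 0, 0, 1] : M3) * (!![-1, 0, 0; 0, -1, 0; 0, 0, 1] * !![1, 0, 0; 0, 1, 1; 0, 0, 1]) =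
      !![-1, 0, 0; 0, -1, 0; 0, 0, 1]
    ext i j
    (revert i j; simp only [Matrix.mul_apply, Fin.sum_univ_three, _root_.Fin.forall_fin_succ, _root_.Matrix.cons_mul, _root_.Nat.succ_eq_add_one, Nat.reduceAdd, _root_.Matrix.vecMul_cons, _root_.Matrix.head_cons, _root_.neg_smul, _root_.one_smul, _root_.Matrix.neg_cons, _root_.neg_zero, _root_.Matrix.neg_empty, _root_.Matrix.tail_cons, _root_.zero_smul, _root_.Matrix.empty_vecMul, _root_.add_zero, _root_.zero_add, _root_.Matrix.empty_mul, _root_.Equiv.symm_apply_apply, _root_.Matrix.of_apply, _root_.Matrix.cons_val', _root_.Matrix.cons_val_fin_one, Fin.isValue, _root_.Matrix.cons_val_zero, _root_.Matrix.cons_val_one, _root_.Matrix.cons_val, _root_.mul_neg, _root_.mul_one, _root_.MulZeroClass.mul_zero, _root_.Matrix.cons_val_succ, _root_.forall_const, _root_.and_self, _root_.neg_add_cancel, _root_.implies_true])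
  · simp [dotProduct, Fin.sum_univ_three]
  · intro h
    have := congrFun h 2
    simp at this
  · intro h
    have := congrFun h 1
    simp at this
  · change (!![1, 0, 0; 0, 1, 1; 0, 0, 1] : M3) = _
    ext i j
    (revert i j; simp only [vecMulVec_apply, _root_.Fin.forall_fin_succ, _root_.Matrix.of_apply, _root_.Matrix.cons_val', _root_.Matrix.cons_val_fin_one, _root_.Matrix.vecMulVec_cons, _root_.Nat.succ_eq_add_one, Nat.reduceAdd, _root_.Matrix.smul_cons, _root_.smul_eq_mul, _root_.MulZeroClass.mul_zero, _root_.mul_one, _root_.Matrix.smul_empty, _root_.Matrix.add_apply, Fin.isValue, _root_.Matrix.cons_val_zero, _root_.add_zero, _root_.Matrix.cons_val_succ, _root_.IsEmpty.forall_iff, _root_.and_true, _root_.Matrix.one_apply_eq, _root_.Fin.succ_zero_eq_one, _root_.ne_eq, _root_.zero_ne_one, _root_.not_false_eq_true, _root_.Matrix.one_apply_ne, _root_.Fin.succ_one_eq_two, Fin.reduceEq, _root_.and_self, _root_.Fin.succ_ne_zero, _root_.zero_add, _root_.true_and])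

/-- **a real regular unipotent element** -/
theorem exists_ru (h2 : (2 : F) ≠ 0) : ∃ u : SL3, IsReal u ∧ Three.IsRu (u : M3) ∧
    (u : M3) = !![1, 1, 1 / 2; 0, 1, 1; 0, 0, 1] := by
  let u : SL3 := ⟨!![1, 1, 1 / 2; 0, 1, 1; 0, 0, 1], by rw [Matrix.det_fin_three]; simp⟩
  let s : SL3 := ⟨!![-1, 0, 0; 0, 1, 0; 0, 0, -1], by rw [Matrix.det_fin_three]; simp⟩
  have hN : (u : M3) - 1 = !![0, 1, 1 / 2; 0, 0, 1; 0, 0, 0] := by
    change (!![1, 1, 1 / 2; 0, 1, 1; 0, 0, 1] : M3) - 1 = _
    ext i j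
    (revert i j; simp only [_root_.Fin.forall_fin_succ, _root_.one_div, _root_.Matrix.sub_apply, _root_.Matrix.of_apply, _root_.Matrix.cons_val', _root_.Matrix.cons_val_fin_one, Fin.isValue, _root_.Matrix.cons_val_zero, _root_.Matrix.cons_val_succ, _root_.IsEmpty.forall_iff, _root_.and_true, _root_.Matrix.one_apply_eq, _root_.sub_self, Nat.reduceAdd, _root_.Fin.succ_zero_eq_one, _root_.ne_eq, _root_.zero_ne_one, _root_.not_false_eq_true, _root_.Matrix.one_apply_ne, _root_.sub_zero, _root_.Fin.succ_one_eq_two, Fin.reduceEq, _root_.and_self, _root_.Fin.succ_ne_zero, _root_.true_and, _root_.zero_sub, _root_.neg_eq_zero])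
  have hN2 : ((u : M3) - 1) ^ 2 = !![0, 0, 1; 0, 0, 0; 0, 0, 0] := by
    rw [hN, pow_two]
    ext i j
    (revert i j; simp only [Matrix.mul_apply, Fin.sum_univ_three, _root_.Fin.forall_fin_succ, _root_.one_div, _root_.Matrix.of_apply, _root_.Matrix.cons_val', _root_.Matrix.cons_val_fin_one, Fin.isValue, _root_.Matrix.cons_val_zero, _root_.Matrix.cons_val_one, _root_.Matrix.cons_val, _root_.MulZeroClass.mul_zero, _root_.add_zero, _root_.Matrix.cons_val_succ, _root_.mul_one, _root_.add_eq_right, _root_.mul_eq_zero, _root_.inv_eq_zero, _root_.forall_const, _root_.true_and, _root_.true_or, _root_.and_self, _root_.implies_true])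
  refine ⟨u, ⟨s, ?_⟩, ⟨?_, ?_⟩, rfl⟩
  · rw [mul_inv_eq_iff_eq_mul, eq_inv_mul_iff_mul_eq]
    apply Subtype.ext
    rw [Matrix.SpecialLinearGroup.coe_mul, Matrix.SpecialLinearGroup.coe_mul]
    change (!![1, 1, 1 / 2; 0, 1, 1; 0, 0, 1] : M3) * (!![-1, 0, 0; 0, 1, 0; 0, 0, -1] *
      !![1, 1, 1 / 2; 0, 1, 1; 0, 0, 1]) = !![-1, 0, 0; 0, 1, 0; 0, 0, -1]
    ext i j
    (revert i j; simp only [Matrix.mul_apply, Fin.sum_univ_three, _root_.Fin.forall_fin_succ, _root_.one_div, _root_.Matrix.cons_mul, _root_.Nat.succ_eq_add_one, Nat.reduceAdd, _root_.Matrix.vecMul_cons, _root_.Matrix.head_cons, _root_.neg_smul, _root_.one_smul, _root_.Matrix.neg_cons, _root_.Matrix.neg_empty, _root_.Matrix.tail_cons, _root_.zero_smul, _root_.Matrix.empty_vecMul, _root_.add_zero, _root_.zero_add, _root_.neg_zero, _root_.Matrix.empty_mul, _root_.Equiv.symm_apply_apply, _root_.Matrix.of_apply, _root_.Matrix.cons_val', _root_.Matrix.cons_val_fin_one, Fin.isValue, _root_.Matrix.cons_val_zero,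 _root_.Matrix.cons_val_one, _root_.Matrix.cons_val, _root_.mul_neg, _root_.mul_one, _root_.MulZeroClass.mul_zero, _root_.Matrix.cons_val_succ, _root_.forall_const, _root_.neg_add_cancel, _root_.one_mul, _root_.true_and, _root_.add_eq_right, _root_.neg_eq_zero, _root_.MulZeroClass.zero_mul, _root_.add_neg_cancel, _root_.and_self, _root_.implies_true, _root_.and_true]) <;> (repeat' with_reducible apply And.intro) <;> field_simp <;> ring
  · rw [pow_succ, hN2, hN]
    ext i j
    (revert i j; simp only [Matrix.mul_apply, Fin.sum_univ_three, _root_.Fin.forall_fin_succ, _root_.one_div, _root_.Matrix.of_apply, _root_.Matrix.cons_val', _root_.Matrix.cons_val_fin_one, Fin.isValue, _root_.Matrix.cons_val_zero, _root_.Matrix.cons_val_one, _root_.Matrix.cons_val, _root_.Matrix.zero_apply, _root_.MulZeroClass.mul_zero, _root_.add_zero, _root_.Matrix.cons_val_succ, _root_.mul_one, _root_.forall_const, _root_.true_and, _root_.MulZeroClass.zero_mul, _root_.and_self, _root_.implies_true])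
  · rw [hN2]
    intro h
    have := congrFun (congrFun h 0) 2
    simp at this

end Cfsg.Agent.H746.OddM.ThreeL
end

-- part: H67/OdmPar
section
/-!
# The parity argument in `SL_2(F)` (TEAM ODDM, S4785, helper67)

`exists_lower` : a subgroup `L` of `SL_2(F)`, `F` finite of odd characteristic, normalised by `diag(-1,1)`, containing an
upper unitriangular element and a unipotent element which is not upper triangular, contains a lower unitriangular element.
-/

set_option autoImplicit false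

namespace Cfsg.Agent.H67.Odm

open Matrix
open scoped Pointwise

universe u

variable {F : Type u} [Field F]

abbrev SL2 (F : Type u) [Field F] := Matrix.SpecialLinearGroup (Fin 2) F

/-- upper unitriangular -/
def up (c : F) : SL2 F := ⟨!![1, c; 0, 1], by rw [Matrix.det_fin_two_of]; ring⟩

/-- lower unitriangular -/
def lo (c : F) : SL2 F := ⟨!![1, 0; c, 1], by rw [Matrix.det_fin_two_of]; ring⟩

/-- minus one -/
def ng : SL2 F := ⟨!![-1, 0; 0, -1], by rw [Matrix.det_fin_two_of]; ring⟩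

theorem sl_ext {A B : SL2 F} (h00 : A.1 0 0 = B.1 0 0) (h01 : A.1 0 1 = B.1 0 1) (h10 : A.1 1 0 = B.1 1 0)
    (h11 : A.1 1 1 = B.1 1 1) : A = B := by
  apply Subtype.ext
  ext i j
  fin_cases i <;> fin_cases j <;> assumption

theorem mul_00 (A B : SL2 F) : (A * B).1 0 0 = A.1 0 0 * B.1 0 0 + A.1 0 1 * B.1 1 0 := by
  rw [Matrix.SpecialLinearGroup.coe_mul, Matrix.mul_apply, Fin.sum_univ_two]

theorem mul_01 (A B : SL2 F) : (A * B).1 0 1 = A.1 0 0 * B.1 0 1 + A.1 0 1 * B.1 1 1 := by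
  rw [Matrix.SpecialLinearGroup.coe_mul, Matrix.mul_apply, Fin.sum_univ_two]

theorem mul_10 (A B : SL2 F) : (A * B).1 1 0 = A.1 1 0 * B.1 0 0 + A.1 1 1 * B.1 1 0 := by
  rw [Matrix.SpecialLinearGroup.coe_mul, Matrix.mul_apply, Fin.sum_univ_two]

theorem mul_11 (A B : SL2 F) : (A * B).1 1 1 = A.1 1 0 * B.1 0 1 + A.1 1 1 * B.1 1 1 := by
  rw [Matrix.SpecialLinearGroup.coe_mul, Matrix.mul_apply, Fin.sum_univ_two]

theorem det_eq (A : SL2 F) : A.1 0 0 * A.1 1 1 - A.1 0 1 * A.1 1 0 = 1 := by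
  rw [← Matrix.det_fin_two]; exact A.2

@[simp] theorem up_00 (c : F) : (up c).1 0 0 = 1 := rfl
@[simp] theorem up_01 (c : F) : (up c).1 0 1 = c := rfl
@[simp] theorem up_10 (c : F) : (up c).1 1 0 = 0 := rfl
@[simp] theorem up_11 (c : F) : (up c).1 1 1 = 1 := rfl
@[simp] theorem lo_00 (c : F) : (lo c).1 0 0 = 1 := rfl
@[simp] theorem lo_01 (c : F) : (lo c).1 0 1 = 0 := rfl
@[simp] theorem lo_10 (c : F) : (lo c).1 1 0 = c := rfl
@[simp] theorem lo_11 (c : F) : (lo c).1 1 1 = 1 := rfl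
@[simp] theorem ng_00 : (ng : SL2 F).1 0 0 = -1 := rfl
@[simp] theorem ng_01 : (ng : SL2 F).1 0 1 = 0 := rfl
@[simp] theorem ng_10 : (ng : SL2 F).1 1 0 = 0 := rfl
@[simp] theorem ng_11 : (ng : SL2 F).1 1 1 = -1 := rfl

theorem up_mul (c d : F) : up c * up d = up (c + d) := by
  apply sl_ext <;> simp only [mul_00, mul_01, mul_10, mul_11, up_00, up_01, up_10, up_11] <;> ring

theorem up_zero : up (0 : F) = 1 := by
  apply sl_ext <;> simp

theorem up_inv (c : F) : (up c)⁻¹ = up (-c) := by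
  rw [inv_eq_iff_mul_eq_one, up_mul, add_neg_cancel, up_zero]

theorem lo_mul (c d : F) : lo c * lo d = lo (c + d) := by
  apply sl_ext <;> simp only [mul_00, mul_01, mul_10, mul_11, lo_00, lo_01, lo_10, lo_11] <;> ring

theorem lo_zero : lo (0 : F) = 1 := by
  apply sl_ext <;> simp

theorem up_pow (c : F) (n : ℕ) : up c ^ n = up (n * c) := by
  induction n with
  | zero => simp [up_zero]
  | succ n ih => rw [pow_succ, ih, up_mul]; congr 1; push_cast; ring

theorem lo_pow (c : F) (n : ℕ) : lo c ^ n = lo (n * c) := by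
  induction n with
  | zero => simp [lo_zero]
  | succ n ih => rw [pow_succ, ih, lo_mul]; congr 1; push_cast; ring

theorem ng_comm (A : SL2 F) : ng * A = A * ng := by
  apply sl_ext <;> simp only [mul_00, mul_01, mul_10, mul_11, ng_00, ng_01, ng_10, ng_11] <;> ring

theorem ng_ne_one (h2 : (2 : F) ≠ 0) : (ng : SL2 F) ≠ 1 := by
  intro h
  have h1 := congrArg (fun A : SL2 F => A.1 0 0) h
  simp only [ng_00, Matrix.SpecialLinearGroup.coe_one, Matrix.one_apply_eq] at h1
  exact h2 (by linear_combination -h1)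

theorem ng_sq : (ng : SL2 F) ^ 2 = 1 := by
  rw [pow_two]
  apply sl_ext <;> simp [mul_00, mul_01, mul_10, mul_11]

/-- conjugation by `diag(1, d)` -/
def scf {d : F} (hd : d ≠ 0) (A : SL2 F) : SL2 F :=
  ⟨!![A.1 0 0, A.1 0 1 / d; A.1 1 0 * d, A.1 1 1], by
    rw [Matrix.det_fin_two_of]
    have := det_eq A
    field_simp
    exact this⟩

theorem scf_00 {d : F} (hd : d ≠ 0) (A : SL2 F) : (scf hd A).1 0 0 = A.1 0 0 := rfl
theorem scf_01 {d : F} (hd : d ≠ 0) (A : SL2 F) : (scf hd A).1 0 1 = A.1 0 1 / d := rfl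
theorem scf_10 {d : F} (hd : d ≠ 0) (A : SL2 F) : (scf hd A).1 1 0 = A.1 1 0 * d := rfl
theorem scf_11 {d : F} (hd : d ≠ 0) (A : SL2 F) : (scf hd A).1 1 1 = A.1 1 1 := rfl

/-- conjugation by `diag(1, d)` -/
def sc {d : F} (hd : d ≠ 0) : SL2 F →* SL2 F where
  toFun := scf hd
  map_one' := by
    apply sl_ext
    · rw [scf_00]
    · rw [scf_01, Matrix.SpecialLinearGroup.coe_one, Matrix.one_apply_ne (by decide), zero_div]
    · rw [scf_10, Matrix.SpecialLinearGroup.coe_one, Matrix.one_apply_ne (by decide), zero_mul]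
    · rw [scf_11]
  map_mul' A B := by
    apply sl_ext
    · rw [mul_00, scf_00, scf_00, scf_00, scf_01, scf_10, mul_00]; field_simp
    · rw [mul_01, scf_01, scf_01, scf_00, scf_01, scf_11, mul_01]; field_simp
    · rw [mul_10, scf_10, scf_10, scf_00, scf_11, scf_10, mul_10]; ring
    · rw [mul_11, scf_11, scf_10, scf_01, scf_11, scf_11, mul_11]; field_simp

theorem sc_apply {d : F} (hd : d ≠ 0) (A : SL2 F) :
    (sc hd A).1 = !![A.1 0 0, A.1 0 1 / d; A.1 1 0 * d, A.1 1 1] := rfl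

/-- **two unipotent elements generate a group containing `-1`** -/
theorem ng_mem [Finite F] (h2 : (2 : F) ≠ 0) {c d : F} (hc : c ≠ 0) (hd : d ≠ 0) {L : Subgroup (SL2 F)}
    (hu : up c ∈ L) (hl : lo d ∈ L) : ng ∈ L := by
  set k := Subfield.closure ({c * d} : Set F) with hk
  have hlam : c * d ∈ k := Subfield.subset_closure rfl
  set lam : k := ⟨c * d, hlam⟩ with hlamd
  have hfink : Finite k := inferInstance
  have : Fintype k := Fintype.ofFinite k
  let Ψ : Matrix.SpecialLinearGroup (Fin 2) k →* SL2 F :=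
    (sc hd).comp (Matrix.SpecialLinearGroup.map k.subtype)
  have hΨ : ∀ A : Matrix.SpecialLinearGroup (Fin 2) k, (Ψ A).1 =
      !![(A.1 0 0 : F), (A.1 0 1 : F) / d; (A.1 1 0 : F) * d, (A.1 1 1 : F)] := by
    intro A
    change (sc hd _).1 = _
    rw [sc_apply]
    rfl
  have h2k : (2 : k) ≠ 0 := by
    intro h
    apply h2
    have := congrArg k.subtype h
    rwa [map_ofNat, map_zero] at this
  have hle : Subgroup.closure {g : Matrix.SpecialLinearGroup (Fin 2) k |
      (g : Matrix (Fin 2) (Fin 2) k) = !![1, 0; 1, 1] ∨ (g : Matrix (Fin 2) (Fin 2) k) = !![1, lam; 0, 1]} ≤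
      L.comap Ψ := by
    rw [Subgroup.closure_le]
    rintro g (hg | hg)
    · rw [SetLike.mem_coe, Subgroup.mem_comap]
      have : Ψ g = lo d := by
        apply Subtype.ext
        rw [hΨ, hg]
        ext i j
        (revert i j; simp [lo, _root_.Fin.forall_fin_succ])
      rw [this]
      exact hl
    · rw [SetLike.mem_coe, Subgroup.mem_comap]
      have : Ψ g = up c := by
        apply Subtype.ext
        rw [hΨ, hg]
        ext i j
        (revert i j; simp only [up, hlamd, _root_.Fin.forall_fin_succ, Fin.isValue, _root_.Matrix.of_apply, _root_.Matrix.cons_val', _root_.Matrix.cons_val_zero, _root_.Matrix.cons_val_fin_one, _root_.OneMemClass.coe_one, _root_.Matrix.cons_val_one, _root_.ZeroMemClass.coe_zero, _root_.MulZeroClass.zero_mul, _root_.Matrix.cons_val_succ, _root_.forall_const, _root_.implies_true, _root_.and_true, _root_.true_and]) <;> (repeat' with_reducible apply And.intro)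
        field_simp
      rw [this]
      exact hu
  have hng : ∀ w : Matrix.SpecialLinearGroup (Fin 2) k, w.1 = !![-1, 0; 0, -1] → Ψ w = ng := by
    intro w hw
    apply Subtype.ext
    rw [hΨ, hw]
    ext i j
    (revert i j; simp [ng, _root_.Fin.forall_fin_succ])
  rcases Cfsg.Agent.S0801.result h2k lam (fun h => mul_ne_zero hc hd (by
      have := congrArg (fun x : k => (x : F)) h
      simpa only [hlamd, _root_.mul_eq_zero, _root_.ZeroMemClass.coe_zero] using this)) (H262.Tv.closure_singleton_top lam rfl) with ⟨htop, -⟩ | ⟨h9, hl2, h120⟩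
  · have h1 : (ng : Matrix.SpecialLinearGroup (Fin 2) k) ∈ L.comap Ψ := hle (by rw [htop]; trivial)
    rw [Subgroup.mem_comap, hng ng rfl] at h1
    exact h1
  · have : Fact (Nat.Prime 2) := ⟨Nat.prime_two⟩
    obtain ⟨⟨w, hwc⟩, hw⟩ := exists_prime_orderOf_dvd_card' 2 (by rw [h120]; norm_num :
      2 ∣ Nat.card ↥(Subgroup.closure {g : Matrix.SpecialLinearGroup (Fin 2) k |
        (g : Matrix (Fin 2) (Fin 2) k) = !![1, 0; 1, 1] ∨ (g : Matrix (Fin 2) (Fin 2) k) = !![1, lam; 0, 1]}))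
    rw [Subgroup.orderOf_mk] at hw
    have hw2 : w ^ 2 = 1 := orderOf_dvd_iff_pow_eq_one.1 (by rw [hw])
    have hw1 : w ≠ 1 := by
      rintro rfl
      rw [orderOf_one] at hw
      omega
    have h1 := hle hwc
    rw [Subgroup.mem_comap, hng w (H262.Tv.involution_eq h2k hw2 hw1)] at h1
    exact h1

/-- a nontrivial `2`-group generated by odd order elements has no cyclic Sylow `2`-subgroup -/
theorem not_isCyclic_sylow {K : Type*} [Group K] [Finite K] [Fact (Nat.Prime 2)] {S : Set K}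
    (hS : Subgroup.closure S = ⊤)
    (hodd : ∀ s ∈ S, Odd (orderOf s)) (h2 : 2 ∣ Nat.card K) (D : Sylow 2 K) : ¬ IsCyclic D := by
  intro hc
  have hp : (Nat.card K).minFac = 2 := (Nat.minFac_eq_two_iff _).2 h2
  have hcomp := hc.isComplement' hp
  have hker : (MonoidHom.transferSylow D (hc.normalizer_le_centralizer hp)).ker = ⊤ := by
    rw [eq_top_iff, ← hS, Subgroup.closure_le]
    intro s hs
    rw [SetLike.mem_coe, MonoidHom.mem_ker]
    set f := MonoidHom.transferSylow D (hc.normalizer_le_centralizer hp)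
    have h1 : orderOf (f s) ∣ orderOf s := orderOf_map_dvd f s
    obtain ⟨k, hk⟩ := (IsPGroup.iff_orderOf.1 D.isPGroup') (f s)
    have h3 : Odd (orderOf (f s)) := Odd.of_dvd_nat (hodd s hs) h1
    rw [hk] at h3
    have h4 : k = 0 := by
      by_contra hk0
      exact (Nat.not_even_iff_odd.2 h3) ((Nat.even_pow' hk0).2 even_two)
    rw [h4, pow_zero] at hk
    exact orderOf_eq_one_iff.1 hk
  rw [hker, Subgroup.isComplement'_top_left] at hcomp
  have h5 := D.dvd_card_of_dvd_card h2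
  have h6 : Nat.card D = 1 := by
    rw [← Subgroup.card_bot (G := K), ← hcomp]
  rw [h6] at h5
  omega

theorem exists_e1 {w : Fin 2 → F} (hw : w ≠ 0) : ∃ g : SL2 F, g.1 0 0 = w 0 ∧ g.1 1 0 = w 1 := by
  by_cases h0 : w 0 = 0
  · have h1 : w 1 ≠ 0 := by
      intro h1
      apply hw
      ext i
      fin_cases i
      · exact h0
      · exact h1
    refine ⟨⟨!![0, -(w 1)⁻¹; w 1, 0], ?_⟩, h0.symm, rfl⟩
    rw [Matrix.det_fin_two_of]
    field_simp
    ring
  · refine ⟨⟨!![w 0, 0; w 1, (w 0)⁻¹], ?_⟩, rfl, rfl⟩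
    rw [Matrix.det_fin_two_of]
    field_simp
    ring

theorem inv_00 (A : SL2 F) : A⁻¹.1 0 0 = A.1 1 1 := by
  rw [Matrix.SpecialLinearGroup.coe_inv, Matrix.adjugate_fin_two]; rfl
theorem inv_01 (A : SL2 F) : A⁻¹.1 0 1 = -A.1 0 1 := by
  rw [Matrix.SpecialLinearGroup.coe_inv, Matrix.adjugate_fin_two]; rfl
theorem inv_10 (A : SL2 F) : A⁻¹.1 1 0 = -A.1 1 0 := by
  rw [Matrix.SpecialLinearGroup.coe_inv, Matrix.adjugate_fin_two]; rfl
theorem inv_11 (A : SL2 F) : A⁻¹.1 1 1 = A.1 0 0 := by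
  rw [Matrix.SpecialLinearGroup.coe_inv, Matrix.adjugate_fin_two]; rfl

theorem mulVec_0 (A : SL2 F) (w : Fin 2 → F) : (A.1 *ᵥ w) 0 = A.1 0 0 * w 0 + A.1 0 1 * w 1 := by
  rw [Matrix.mulVec, dotProduct, Fin.sum_univ_two]

theorem mulVec_1 (A : SL2 F) (w : Fin 2 → F) : (A.1 *ᵥ w) 1 = A.1 1 0 * w 0 + A.1 1 1 * w 1 := by
  rw [Matrix.mulVec, dotProduct, Fin.sum_univ_two]

/-- structure of the `p`-subgroups of `SL_2(F)` -/
theorem struct {p : ℕ} [Fact p.Prime] [CharP F p] [Finite F] {P : Subgroup (SL2 F)} (hP : IsPGroup p P) :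
    ∃ g : SL2 F, ∀ y ∈ P, ∃ s, y = g * up s * g⁻¹ := by
  let _ : MulAction P (Fin 2 → F) :=
    { smul := fun y w => y.1.1 *ᵥ w
      one_smul := fun w => by
        change (1 : SL2 F).1 *ᵥ w = w
        rw [Matrix.SpecialLinearGroup.coe_one, Matrix.one_mulVec]
      mul_smul := fun x y w => by
        change (x.1 * y.1).1 *ᵥ w = x.1.1 *ᵥ (y.1.1 *ᵥ w)
        rw [Matrix.SpecialLinearGroup.coe_mul, Matrix.mulVec_mulVec] }
  have : Fintype F := Fintype.ofFinite F
  have hdvd : p ∣ Nat.card (Fin 2 → F) := by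
    obtain ⟨n, -, hn⟩ := FiniteField.card F p
    rw [Nat.card_eq_fintype_card, Fintype.card_fun, hn, Fintype.card_fin]
    exact dvd_pow (dvd_pow_self p n.pos.ne') (by norm_num)
  obtain ⟨w, hw, hw0⟩ := hP.exists_fixed_point_of_prime_dvd_card_of_fixed_point (Fin 2 → F) hdvd
    (a := (0 : Fin 2 → F)) (fun y => Matrix.mulVec_zero _)
  obtain ⟨g, hg0, hg1⟩ := exists_e1 (fun h => hw0 h.symm)
  refine ⟨g, fun y hy => ?_⟩
  have hyw : y.1 *ᵥ w = w := hw ⟨y, hy⟩
  have h0 := congrFun hyw 0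
  have h1 := congrFun hyw 1
  rw [mulVec_0, ← hg0, ← hg1] at h0
  rw [mulVec_1, ← hg0, ← hg1] at h1
  have hdet := det_eq g
  have h00 : (g⁻¹ * y * g).1 0 0 = 1 := by
    rw [mul_assoc, mul_00, mul_00, mul_10, inv_00, inv_01]
    linear_combination g.1 1 1 * h0 - g.1 0 1 * h1 + hdet
  have h10 : (g⁻¹ * y * g).1 1 0 = 0 := by
    rw [mul_assoc, mul_10, mul_00, mul_10, inv_10, inv_11]
    linear_combination -g.1 1 0 * h0 + g.1 0 0 * h1
  have h11 : (g⁻¹ * y * g).1 1 1 = 1 := by
    have h := det_eq (g⁻¹ * y * g)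
    rw [h00, h10] at h
    linear_combination h
  refine ⟨(g⁻¹ * y * g).1 0 1, ?_⟩
  have : g⁻¹ * y * g = up ((g⁻¹ * y * g).1 0 1) := by
    apply sl_ext
    · rw [h00, up_00]
    · rw [up_01]
    · rw [h10, up_10]
    · rw [h11, up_11]
  rw [← this]
  group

/-- a `2`-group of triangular matrices of determinant one is cyclic -/
theorem isCyclic_of_tri {p : ℕ} [Fact p.Prime] [CharP F p] [Finite F] (hp2 : p ≠ 2) {D : Subgroup (SL2 F)}
    (hD : IsPGroup 2 D) {g : SL2 F} (h : ∀ d ∈ D, (g⁻¹ * d * g).1 1 0 = 0) : IsCyclic D := by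
  let f : D →* F :=
    { toFun := fun d => (g⁻¹ * d.1 * g).1 0 0
      map_one' := by
        rw [OneMemClass.coe_one, mul_one, inv_mul_cancel]
        rfl
      map_mul' := fun x y => by
        have : g⁻¹ * (x * y : D).1 * g = (g⁻¹ * x.1 * g) * (g⁻¹ * y.1 * g) := by
          rw [Subgroup.coe_mul]; group
        rw [this, mul_00, h _ y.2, mul_zero, add_zero] }
  have hinj : Function.Injective f := by
    rw [injective_iff_map_eq_one]
    intro d hd
    change (g⁻¹ * d.1 * g).1 0 0 = 1 at hd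
    have h10 := h _ d.2
    have h11 : (g⁻¹ * d.1 * g).1 1 1 = 1 := by
      have h := det_eq (g⁻¹ * d.1 * g)
      rw [hd, h10] at h
      linear_combination h
    have hup : g⁻¹ * d.1 * g = up ((g⁻¹ * d.1 * g).1 0 1) := by
      apply sl_ext
      · rw [hd, up_00]
      · rw [up_01]
      · rw [h10, up_10]
      · rw [h11, up_11]
    have h1 : (g⁻¹ * d.1 * g) ^ p = 1 := by
      rw [hup, up_pow, CharP.cast_eq_zero, zero_mul, up_zero]
    have h2 : d.1 ^ p = 1 := by
      have h3 : d.1 = g * (g⁻¹ * d.1 * g) * g⁻¹ := by group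
      rw [h3, conj_pow, h1, mul_one, mul_inv_cancel]
    have h3 : d ^ p = 1 := by
      apply Subtype.ext
      rw [Subgroup.coe_pow, h2, OneMemClass.coe_one]
    obtain ⟨k, hk⟩ := (IsPGroup.iff_orderOf.1 hD) d
    have h4 : orderOf d ∣ p := orderOf_dvd_of_pow_eq_one h3
    rw [hk] at h4
    have h5 : k = 0 := by
      by_contra hk0
      have h6 : 2 ∣ p := (dvd_pow_self 2 hk0).trans h4
      exact hp2 ((Nat.prime_dvd_prime_iff_eq Nat.prime_two (Fact.out)).1 h6).symm
    rw [h5, pow_zero] at hk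
    exact orderOf_eq_one_iff.1 hk
  exact isCyclic_of_injective_ringHom f hinj

/-- conjugation by `diag(1, -1)` -/
def dl : SL2 F →* SL2 F := sc (neg_ne_zero.2 one_ne_zero : (-1 : F) ≠ 0)

theorem dl_00 (A : SL2 F) : (dl A).1 0 0 = A.1 0 0 := rfl
theorem dl_01 (A : SL2 F) : (dl A).1 0 1 = -A.1 0 1 := by
  change A.1 0 1 / (-1) = _
  rw [div_neg, div_one]
theorem dl_10 (A : SL2 F) : (dl A).1 1 0 = -A.1 1 0 := by
  change A.1 1 0 * (-1) = _
  ring
theorem dl_11 (A : SL2 F) : (dl A).1 1 1 = A.1 1 1 := rfl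

theorem dl_dl (A : SL2 F) : dl (dl A) = A := by
  apply sl_ext
  · rw [dl_00, dl_00]
  · rw [dl_01, dl_01, neg_neg]
  · rw [dl_10, dl_10, neg_neg]
  · rw [dl_11, dl_11]

theorem dl_up (s : F) : dl (up s) = up (-s) := by
  apply sl_ext
  · rw [dl_00]; rfl
  · rw [dl_01]; rfl
  · rw [dl_10, up_10, neg_zero]; rfl
  · rw [dl_11]; rfl

/-- if `h` conjugates a nontrivial upper unitriangular element to one, `h` is upper triangular -/
theorem tri_of_conj {h : SL2 F} {s s' : F} (hs : s ≠ 0) (hh : h * up s * h⁻¹ = up s') : h.1 1 0 = 0 := by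
  have h1 : h * up s = up s' * h := by
    rw [← hh]; group
  have h2 := congrArg (fun A : SL2 F => A.1 1 1) h1
  simp only [mul_11, up_01, up_11, up_10] at h2
  have h3 : h.1 1 0 * s = 0 := by linear_combination h2
  exact (mul_eq_zero.1 h3).resolve_right hs

theorem up_injective {s s' : F} (h : up s = up s') : s = s' := by
  have := congrArg (fun A : SL2 F => A.1 0 1) h
  simpa using this

/-- **parity**: a lower unitriangular element -/
theorem exists_lower [Finite F] (h2 : (2 : F) ≠ 0) {L : Subgroup (SL2 F)} (hδ : ∀ A ∈ L, dl A ∈ L) {c : F}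
    (hc : c ≠ 0) (hu : up c ∈ L) {t : SL2 F} (ht : t ∈ L) {α d : F} (hd : d ≠ 0)
    (htd : t = up α * lo d * (up α)⁻¹) : ∃ d : F, d ≠ 0 ∧ lo d ∈ L := by
  classical
  obtain ⟨p, hpc⟩ := CharP.exists F
  have hpp : p.Prime := CharP.char_is_prime F p
  have : Fact p.Prime := ⟨hpp⟩
  have : Fact (Nat.Prime 2) := ⟨Nat.prime_two⟩
  have hp2 : p ≠ 2 := by
    rintro rfl
    apply h2
    exact_mod_cast CharP.cast_eq_zero F 2
  have hpodd : Odd p := hpp.odd_of_ne_two hp2
  have hfS : Finite (SL2 F) := inferInstance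
  -- the group generated by two elements
  set K : Subgroup (SL2 F) := Subgroup.closure {up c, t} with hK
  have hKL : K ≤ L := by
    rw [hK, Subgroup.closure_le]
    rintro x (rfl | rfl)
    · exact hu
    · exact ht
  have huK : up c ∈ K := Subgroup.subset_closure (Or.inl rfl)
  have htK : t ∈ K := Subgroup.subset_closure (Or.inr rfl)
  have hngK : ng ∈ K := by
    have h1 := ng_mem h2 hc hd (L := K.comap (MulAut.conj (up α)).toMonoidHom) (by
      rw [Subgroup.mem_comap]
      change up α * up c * (up α)⁻¹ ∈ K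
      rw [up_mul, add_comm, ← up_mul, mul_assoc, mul_inv_cancel, mul_one]
      exact huK) (by
      rw [Subgroup.mem_comap]
      change up α * lo d * (up α)⁻¹ ∈ K
      rw [← htd]
      exact htK)
    rw [Subgroup.mem_comap] at h1
    change up α * ng * (up α)⁻¹ ∈ K at h1
    rwa [← ng_comm, mul_assoc, mul_inv_cancel, mul_one] at h1
  have hcardK : 2 ∣ Nat.card K := by
    have h1 : orderOf (⟨ng, hngK⟩ : K) = 2 := by
      rw [Subgroup.orderOf_mk]
      exact orderOf_eq_prime ng_sq (ng_ne_one h2)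
    have h3 := orderOf_dvd_natCard (⟨ng, hngK⟩ : K)
    rwa [h1] at h3
  have hupp : ∀ s : F, (up s) ^ p = 1 := fun s => by
    rw [up_pow, CharP.cast_eq_zero, zero_mul, up_zero]
  have hlop : ∀ s : F, (lo s) ^ p = 1 := fun s => by
    rw [lo_pow, CharP.cast_eq_zero, zero_mul, lo_zero]
  have hncyc : ∀ D : Sylow 2 K, ¬ IsCyclic D := by
    refine not_isCyclic_sylow (S := ((↑) : K → SL2 F) ⁻¹' {up c, t}) ?_ ?_ hcardK
    · exact Subgroup.closure_closure_coe_preimage
    · rintro ⟨x, hx⟩ hxs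
      rw [Subgroup.orderOf_mk]
      have hxp : x ^ p = 1 := by
        rcases hxs with h | h
        · change x = up c at h
          rw [h]
          exact hupp c
        · change x = t at h
          rw [h, htd, conj_pow, hlop, mul_one, mul_inv_cancel]
      exact Odd.of_dvd_nat hpodd (orderOf_dvd_of_pow_eq_one hxp)
  -- Sylow p-subgroups of `L`
  have hpL : p ∣ Nat.card L := by
    have h1 : orderOf (⟨up c, hu⟩ : L) = p := by
      rw [Subgroup.orderOf_mk]
      exact orderOf_eq_prime (hupp c) (fun h => hc (up_injective (by rw [h, up_zero])))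
    rw [← h1]
    exact orderOf_dvd_natCard _
  have hstr : ∀ P : Sylow p L, ∃ g : SL2 F, ∀ y : L, y ∈ P → ∃ s, y.1 = g * up s * g⁻¹ := by
    intro P
    obtain ⟨g, hg⟩ := struct (P.isPGroup'.map L.subtype)
    exact ⟨g, fun y hy => hg y.1 ⟨y, hy, rfl⟩⟩
  have hnt : ∀ P : Sylow p L, ∃ y : L, y ∈ P ∧ y ≠ 1 := by
    intro P
    have h1 : p ∣ Nat.card P := P.dvd_card_of_dvd_card hpL
    have h2 : Nontrivial P := by
      rw [← Finite.one_lt_card_iff_nontrivial]
      exact lt_of_lt_of_le hpp.one_lt (Nat.le_of_dvd Nat.card_pos h1)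
    obtain ⟨y, hy⟩ := exists_ne (1 : P)
    exact ⟨y.1, y.2, fun h => hy (Subtype.ext h)⟩
  -- even number
  have heven : Nat.card (Sylow p L) ≡ 0 [MOD 2] := by
    let D : Sylow 2 K := default
    let ι : D →* L := (Subgroup.inclusion hKL).comp D.1.subtype
    let _ : MulAction D (Sylow p L) := MulAction.compHom _ ι
    have h1 := D.isPGroup'.card_modEq_card_fixedPoints (Sylow p L)
    have h2 : Nat.card (MulAction.fixedPoints D (Sylow p L)) = 0 := by
      rw [Nat.card_eq_zero]
      left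
      rw [isEmpty_subtype]
      intro P hP
      obtain ⟨g, hg⟩ := hstr P
      obtain ⟨y, hyP, hy1⟩ := hnt P
      obtain ⟨s, hs⟩ := hg y hyP
      have hs0 : s ≠ 0 := by
        rintro rfl
        rw [up_zero, mul_one, mul_inv_cancel] at hs
        exact hy1 (Subtype.ext hs)
      have hD : IsPGroup 2 (D.1.map K.subtype) := D.isPGroup'.map _
      have hcy : IsCyclic (D.1.map K.subtype) := by
        refine isCyclic_of_tri hp2 hD (g := g) ?_
        rintro _ ⟨x, hxD, rfl⟩
        have h3 : ι ⟨x, hxD⟩ • P = P := hP ⟨x, hxD⟩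
        rw [Sylow.smul_eq_iff_mem_normalizer] at h3
        have h4 := (Subgroup.mem_normalizer_iff.1 h3 y).1 hyP
        obtain ⟨s', hs'⟩ := hg _ h4
        refine tri_of_conj hs0 (s' := s') ?_
        change x.1 * y.1 * x.1⁻¹ = _ at hs'
        rw [hs] at hs'
        have h5 : g⁻¹ * x.1 * g * up s * (g⁻¹ * x.1 * g)⁻¹ = g⁻¹ * (x.1 * (g * up s * g⁻¹) * x.1⁻¹) * g := by
          group
        change g⁻¹ * x.1 * g * up s * (g⁻¹ * x.1 * g)⁻¹ = up s'
        rw [h5, hs']
        group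
      apply hncyc D
      exact isCyclic_of_surjective (D.1.equivMapOfInjective K.subtype K.subtype_injective).symm
        (D.1.equivMapOfInjective K.subtype K.subtype_injective).symm.surjective
    rw [h2] at h1
    exact h1
  -- the automorphism
  let σ : MulAut L :=
    { toFun := fun x => ⟨dl x.1, hδ _ x.2⟩
      invFun := fun x => ⟨dl x.1, hδ _ x.2⟩
      left_inv := fun x => Subtype.ext (dl_dl x.1)
      right_inv := fun x => Subtype.ext (dl_dl x.1)
      map_mul' := fun x y => Subtype.ext (map_mul dl x.1 y.1) }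
  have hσ : ∀ x : L, (σ x).1 = dl x.1 := fun x => rfl
  have hσσ : ∀ x : L, σ (σ x) = x := fun x => Subtype.ext (dl_dl x.1)
  have hσ2 : σ * σ = 1 := by
    ext x
    change ((σ (σ x) : L) : SL2 F).1 _ _ = _
    rw [hσσ]
    rfl
  -- `P` is either unitriangular or contains lower triangular elements, when `σ`-fixed
  have hfix : ∀ P : Sylow p L, σ • P = P → (∀ y : L, y ∈ P → ∃ s, y.1 = up s) ∨ ∃ d : F, d ≠ 0 ∧ lo d ∈ L := by
    intro P hP
    obtain ⟨g, hg⟩ := hstr P
    obtain ⟨y, hyP, hy1⟩ := hnt P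
    obtain ⟨s, hs⟩ := hg y hyP
    have hs0 : s ≠ 0 := by
      rintro rfl
      rw [up_zero, mul_one, mul_inv_cancel] at hs
      exact hy1 (Subtype.ext hs)
    have h1 : σ y ∈ P := by
      have : σ • y ∈ σ • P.1 := Subgroup.smul_mem_pointwise_smul _ _ _ hyP
      have h3 : (σ • P).1 = σ • P.1 := rfl
      rw [← h3, hP] at this
      exact this
    obtain ⟨s', hs'⟩ := hg _ h1
    rw [hσ, hs, map_mul, map_mul, map_inv, dl_up] at hs'
    have h3 : (g⁻¹ * dl g) * up (-s) * (g⁻¹ * dl g)⁻¹ = up s' := by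
      have : (g⁻¹ * dl g) * up (-s) * (g⁻¹ * dl g)⁻¹ = g⁻¹ * (dl g * up (-s) * (dl g)⁻¹) * g := by group
      rw [this, hs']
      group
    have h4 := tri_of_conj (neg_ne_zero.2 hs0) h3
    rw [mul_10, inv_10, inv_11, dl_00, dl_10] at h4
    have h5 : (2 : F) * (g.1 0 0 * g.1 1 0) = 0 := by linear_combination -h4
    rcases mul_eq_zero.1 ((mul_eq_zero.1 h5).resolve_left h2) with h00 | h10
    · right
      have h6 : y.1 = lo (-(g.1 1 0) ^ 2 * s) := by
        have hdet := det_eq g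
        rw [hs]
        apply sl_ext
        · rw [mul_00, mul_00, mul_01, inv_00, inv_10, h00, lo_00]
          simp only [up_00, up_01, up_10, up_11]
          linear_combination hdet + (-g.1 1 1 ) * h00
        · rw [mul_01, mul_00, mul_01, inv_01, inv_11, h00, lo_01]
          simp only [up_00, up_01, up_10, up_11]
          ring
        · rw [mul_10, mul_10, mul_11, inv_00, inv_10, lo_10]
          simp only [up_00, up_01, up_10, up_11]
          ring
        · rw [mul_11, mul_10, mul_11, inv_01, inv_11, h00, lo_11]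
          simp only [up_00, up_01, up_10, up_11]
          linear_combination hdet + (-g.1 1 1 ) * h00
      refine ⟨-(g.1 1 0) ^ 2 * s, ?_, h6 ▸ y.2⟩
      have h10 : g.1 1 0 ≠ 0 := by
        intro h
        have hdet := det_eq g
        rw [h00, h] at hdet
        simp at hdet
      exact mul_ne_zero (neg_ne_zero.2 (pow_ne_zero 2 h10)) hs0
    · left
      intro z hz
      obtain ⟨r, hr⟩ := hg z hz
      have hdet := det_eq g
      refine ⟨(g.1 0 0) ^ 2 * r, ?_⟩
      rw [hr]
      apply sl_ext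
      · rw [mul_00, mul_00, mul_01, inv_00, inv_10, h10, up_00]
        simp only [up_00, up_01, up_10, up_11]
        linear_combination hdet + (g.1 0 1 ) * h10
      · rw [mul_01, mul_00, mul_01, inv_01, inv_11, up_01]
        simp only [up_00, up_01, up_10, up_11]
        ring
      · rw [mul_10, mul_10, mul_11, inv_00, inv_10, h10, up_10]
        simp only [up_00, up_01, up_10, up_11]
        ring
      · rw [mul_11, mul_10, mul_11, inv_01, inv_11, h10, up_11]
        simp only [up_00, up_01, up_10, up_11]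
        linear_combination hdet + (g.1 0 1 ) * h10
  by_contra hcon
  have hfix' : ∀ P : Sylow p L, σ • P = P → ∀ y : L, y ∈ P → ∃ s, y.1 = up s :=
    fun P hP => (hfix P hP).resolve_right hcon
  -- the Sylow subgroup of upper unitriangular elements
  let U : Subgroup L :=
    { carrier := {y | ∃ s, y.1 = up s}
      one_mem' := ⟨0, by rw [up_zero]; rfl⟩
      mul_mem' := by
        rintro x y ⟨a, ha⟩ ⟨b, hb⟩
        exact ⟨a + b, by rw [Subgroup.coe_mul, ha, hb, up_mul]⟩
      inv_mem' := by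
        rintro x ⟨a, ha⟩
        exact ⟨-a, by rw [Subgroup.coe_inv, ha, up_inv]⟩ }
  have hU : IsPGroup p U := by
    rintro ⟨y, a, ha⟩
    refine ⟨1, ?_⟩
    apply Subtype.ext
    apply Subtype.ext
    change y.1 ^ p ^ 1 = 1
    rw [pow_one, ha, hupp]
  obtain ⟨P₁, hP₁⟩ := hU.exists_le_sylow
  have hle : ∀ P : Sylow p L, (∀ y : L, y ∈ P → ∃ s, y.1 = up s) → P = P₁ := by
    intro P hP
    have h1 : P.1 ≤ P₁.1 := le_trans (fun y hy => hP y hy) hP₁
    exact Sylow.ext (P.is_maximal' P₁.isPGroup' h1).symm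
  have hP₁U : ∀ y : L, y ∈ P₁ → ∃ s, y.1 = up s := by
    intro y hy
    obtain ⟨g, hg⟩ := hstr P₁
    obtain ⟨s, hs⟩ := hg ⟨up c, hu⟩ (hP₁ ⟨c, rfl⟩)
    have h3 := tri_of_conj (h := g⁻¹) hc (s' := s) (by
      change up c = _ at hs
      rw [hs]; group)
    rw [inv_10, neg_eq_zero] at h3
    obtain ⟨r, hr⟩ := hg y hy
    have hdet := det_eq g
    refine ⟨(g.1 0 0) ^ 2 * r, ?_⟩
    rw [hr]
    apply sl_ext
    · rw [mul_00, mul_00, mul_01, inv_00, inv_10, h3, up_00]
      simp only [up_00, up_01, up_10, up_11]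
      linear_combination hdet + (g.1 0 1 ) * h3
    · rw [mul_01, mul_00, mul_01, inv_01, inv_11, up_01]
      simp only [up_00, up_01, up_10, up_11]
      ring
    · rw [mul_10, mul_10, mul_11, inv_00, inv_10, h3, up_10]
      simp only [up_00, up_01, up_10, up_11]
      ring
    · rw [mul_11, mul_10, mul_11, inv_01, inv_11, h3, up_11]
      simp only [up_00, up_01, up_10, up_11]
      linear_combination hdet + (g.1 0 1 ) * h3
  have hσP₁ : σ • P₁ = P₁ := by
    refine hle _ ?_
    intro y hy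
    have h3 : y ∈ σ • P₁.1 := hy
    obtain ⟨x, hx, rfl⟩ := (Subgroup.mem_smul_pointwise_iff_exists _ _ _).1 h3
    obtain ⟨s, hs⟩ := hP₁U x hx
    refine ⟨-s, ?_⟩
    change dl x.1 = _
    rw [hs, dl_up]
  have hZ : IsPGroup 2 (Subgroup.zpowers σ) := by
    rintro ⟨x, hx⟩
    obtain ⟨k, rfl⟩ := Subgroup.mem_zpowers_iff.1 hx
    refine ⟨1, Subtype.ext ?_⟩
    change (σ ^ k) ^ 2 ^ 1 = 1
    rw [pow_one, ← zpow_natCast, ← _root_.zpow_mul, mul_comm, _root_.zpow_mul]
    have : σ ^ ((2 : ℕ) : ℤ) = 1 := by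
      rw [zpow_natCast, pow_two, hσ2]
    rw [this, _root_.one_zpow]
  have h3 := hZ.card_modEq_card_fixedPoints (Sylow p L)
  have h4 : Nat.card (MulAction.fixedPoints (Subgroup.zpowers σ) (Sylow p L)) = 1 := by
    rw [Nat.card_eq_one_iff_unique]
    refine ⟨⟨?_⟩, ⟨⟨P₁, ?_⟩⟩⟩
    · rintro ⟨P, hP⟩ ⟨P', hP'⟩
      apply Subtype.ext
      change P = P'
      rw [hle P (hfix' P (hP ⟨σ, Subgroup.mem_zpowers σ⟩)), hle P' (hfix' P' (hP' ⟨σ, Subgroup.mem_zpowers σ⟩))]
    · rintro ⟨x, hx⟩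
      obtain ⟨k, rfl⟩ := Subgroup.mem_zpowers_iff.1 hx
      change σ ^ k • P₁ = P₁
      have h5 : σ ∈ MulAction.stabilizer (MulAut L) P₁ := hσP₁
      exact Subgroup.zpow_mem _ h5 k
  rw [h4] at h3
  have h5 := heven.symm.trans h3
  exact absurd h5 (by decide)

end Cfsg.Agent.H67.Odm
end

-- part: H67/OdmIso
section
/-!
# Isolation of root elements by diagonal sign matrices (TEAM ODDM, S4785, helper67)
-/

set_option autoImplicit false
set_option linter.unusedSectionVars false

namespace Cfsg.Agent.H67.Odm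

open Matrix

universe u v

variable {ι : Type v} [Fintype ι] [DecidableEq ι] {F : Type u} [Field F]

/-- the matrix `A` lies in `H` -/
def Mm (H : Subgroup (GL ι F)) (A : Matrix ι ι F) : Prop := ∃ h ∈ H, (h : Matrix ι ι F) = A

variable {H : Subgroup (GL ι F)} {A B : Matrix ι ι F}

theorem Mm.one : Mm H 1 := ⟨1, H.one_mem, rfl⟩

theorem Mm.mul (h : Mm H A) (h' : Mm H B) : Mm H (A * B) := by
  obtain ⟨x, hx, rfl⟩ := h
  obtain ⟨y, hy, rfl⟩ := h'
  exact ⟨x * y, H.mul_mem hx hy, rfl⟩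

theorem Mm.inv_of (h : Mm H A) (hAB : A * B = 1) : Mm H B := by
  obtain ⟨x, hx, rfl⟩ := h
  refine ⟨x⁻¹, H.inv_mem hx, ?_⟩
  have h1 : (x⁻¹ : GL ι F).1 * x.1 = 1 := by
    rw [← Units.val_mul, inv_mul_cancel]; rfl
  calc (x⁻¹ : GL ι F).1 = (x⁻¹ : GL ι F).1 * (x.1 * B) := by rw [hAB, mul_one]
    _ = B := by rw [← mul_assoc, h1, one_mul]

theorem Mm.pow (h : Mm H A) (n : ℕ) : Mm H (A ^ n) := by
  induction n with
  | zero => rw [pow_zero]; exact Mm.one
  | succ n ih => rw [pow_succ]; exact ih.mul h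

theorem Mm.mono {H' : Subgroup (GL ι F)} (hH : H ≤ H') (h : Mm H A) : Mm H' A := by
  obtain ⟨x, hx, rfl⟩ := h
  exact ⟨x, hH hx, rfl⟩

/-- signs -/
def sgv (i j : ι) : ι → F := fun k => if k = i ∨ k = j then -1 else 1

/-- the diagonal matrix with `-1` at `i` and `j` -/
def sgm (i j : ι) : Matrix ι ι F := Matrix.diagonal (sgv i j)

omit [Fintype ι] in
theorem sgv_sq (i j k : ι) : (sgv i j k : F) * sgv i j k = 1 := by
  unfold sgv
  split_ifs <;> ring

theorem sgm_sq (i j : ι) : sgm (F := F) i j * sgm (F := F) i j = 1 := by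
  rw [sgm, Matrix.diagonal_mul_diagonal, ← Matrix.diagonal_one]
  congr 1
  ext k
  exact sgv_sq i j k

theorem sgm_conj (i j : ι) (A : Matrix ι ι F) (r s : ι) :
    (sgm (F := F) i j * A * sgm (F := F) i j) r s = sgv i j r * A r s * sgv i j s := by
  rw [sgm, Matrix.mul_diagonal, Matrix.diagonal_mul]

omit [Fintype ι] in
theorem sgv_l (i j : ι) : (sgv i j i : F) = -1 := if_pos (Or.inl rfl)
omit [Fintype ι] in
theorem sgv_r (i j : ι) : (sgv i j j : F) = -1 := if_pos (Or.inr rfl)
omit [Fintype ι] in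
theorem sgv_n {i j k : ι} (h1 : k ≠ i) (h2 : k ≠ j) : (sgv i j k : F) = 1 := if_neg (by tauto)

/-- all products of two signs are in `H` -/
def HasE (H : Subgroup (GL ι F)) : Prop := ∀ i j : ι, i ≠ j → Mm H (sgm (F := F) i j)

/-- support in row `r` and column `c` -/
def Sp (r c : ι) (M : Matrix ι ι F) : Prop := ∀ a b, M a b ≠ 0 → (a = r ∧ b ≠ r) ∨ (b = c ∧ a ≠ c)

omit [Fintype ι] in
theorem Sp.zero_of {r c : ι} {M : Matrix ι ι F} (h : Sp r c M) {a b : ι} (h1 : ¬ (a = r ∧ b ≠ r))
    (h2 : ¬ (b = c ∧ a ≠ c)) : M a b = 0 := by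
  by_contra h3
  rcases h a b h3 with h | h
  · exact h1 h
  · exact h2 h

theorem Sp.mul_apply {r c : ι} (hrc : r ≠ c) {M N : Matrix ι ι F} (hM : Sp r c M) (hN : Sp r c N) {a b : ι}
    (h : ¬ (a = r ∧ b = c)) : (M * N) a b = 0 := by
  rw [Matrix.mul_apply]
  refine Finset.sum_eq_zero fun k _ => ?_
  by_contra h0
  have h1 := left_ne_zero_of_mul h0
  have h2 := right_ne_zero_of_mul h0
  rcases hM _ _ h1 with ⟨h3, h4⟩ | ⟨h3, h4⟩
  · rcases hN _ _ h2 with ⟨h5, h6⟩ | ⟨h5, h6⟩
    · exact h4 h5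
    · exact h ⟨h3, h5⟩
  · rcases hN _ _ h2 with ⟨h5, h6⟩ | ⟨h5, h6⟩
    · exact hrc (h5.symm.trans h3)
    · exact h6 h3

theorem Sp.mul {r c : ι} (hrc : r ≠ c) {M N : Matrix ι ι F} (hM : Sp r c M) (hN : Sp r c N) : Sp r c (M * N) := by
  intro a b h
  by_cases h1 : a = r ∧ b = c
  · exact Or.inl ⟨h1.1, by rw [h1.2]; exact hrc.symm⟩
  · exact absurd (hM.mul_apply hrc hN h1) h

omit [Fintype ι] in
theorem Sp.add {r c : ι} {M N : Matrix ι ι F} (hM : Sp r c M) (hN : Sp r c N) : Sp r c (M + N) := by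
  intro a b h
  rw [Matrix.add_apply] at h
  by_cases h1 : M a b = 0
  · rw [h1, zero_add] at h
    exact hN _ _ h
  · exact hM _ _ h1

omit [Fintype ι] in
theorem Sp.neg {r c : ι} {M : Matrix ι ι F} (hM : Sp r c M) : Sp r c (-M) := by
  intro a b h
  rw [Matrix.neg_apply, neg_ne_zero] at h
  exact hM _ _ h

theorem Sp.mul3 {r c : ι} (hrc : r ≠ c) {M N P : Matrix ι ι F} (hM : Sp r c M) (hN : Sp r c N) (hP : Sp r c P) :
    M * N * P = 0 := by
  ext a b
  rw [Matrix.mul_apply, Matrix.zero_apply]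
  refine Finset.sum_eq_zero fun k _ => ?_
  by_cases h1 : a = r ∧ k = c
  · have : P k b = 0 := hP.zero_of (fun h => hrc (h.1.symm.trans h1.2)) (fun h => h.2 h1.2)
    rw [this, mul_zero]
  · rw [hM.mul_apply hrc hN h1, zero_mul]

/-- membership modulo the `(r,c)` entry -/
def Bq (H : Subgroup (GL ι F)) (r c : ι) (M : Matrix ι ι F) : Prop :=
  ∃ N, Sp r c N ∧ Mm H (1 + N) ∧ ∀ a b, ¬ (a = r ∧ b = c) → N a b = M a b

theorem Bq.add {r c : ι} (hrc : r ≠ c) {M M' : Matrix ι ι F} (h : Bq H r c M) (h' : Bq H r c M') :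
    Bq H r c (M + M') := by
  obtain ⟨N, hN, hm, he⟩ := h
  obtain ⟨N', hN', hm', he'⟩ := h'
  refine ⟨N + N' + N * N', (hN.add hN').add (hN.mul hrc hN'), ?_, fun a b hab => ?_⟩
  · have := hm.mul hm'
    have h1 : (1 + N) * (1 + N') = 1 + (N + N' + N * N') := by noncomm_ring
    rwa [h1] at this
  · rw [Matrix.add_apply, Matrix.add_apply, hN.mul_apply hrc hN' hab, he a b hab, he' a b hab, add_zero,
      Matrix.add_apply]

theorem Bq.neg {r c : ι} (hrc : r ≠ c) {M : Matrix ι ι F} (h : Bq H r c M) : Bq H r c (-M) := by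
  obtain ⟨N, hN, hm, he⟩ := h
  refine ⟨-N + N * N, hN.neg.add (hN.mul hrc hN), ?_, fun a b hab => ?_⟩
  · refine hm.inv_of ?_
    have h3 := hN.mul3 hrc hN hN
    have h1 : (1 + N) * (1 + (-N + N * N)) = 1 + N * N * N := by noncomm_ring
    rw [h1, h3, add_zero]
  · rw [Matrix.add_apply, hN.mul_apply hrc hN hab, Matrix.neg_apply, he a b hab, add_zero, Matrix.neg_apply]

/-- multiply the entries by signs -/
def had (i j : ι) (M : Matrix ι ι F) : Matrix ι ι F := Matrix.of fun a b => sgv i j a * M a b * sgv i j b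

theorem Bq.had (hE : HasE H) {r c : ι} {M : Matrix ι ι F} (h : Bq H r c M) {i j : ι} (hij : i ≠ j) :
    Bq H r c (had i j M) := by
  obtain ⟨N, hN, hm, he⟩ := h
  refine ⟨sgm (F := F) i j * N * sgm (F := F) i j, ?_, ?_, ?_⟩
  · intro a b hab
    rw [sgm_conj] at hab
    exact hN a b (fun h0 => hab (by rw [h0, mul_zero, zero_mul]))
  · have h1 := ((hE i j hij).mul hm).mul (hE i j hij)
    have h2 : sgm (F := F) i j * (1 + N) * sgm (F := F) i j = 1 + sgm (F := F) i j * N * sgm (F := F) i j := by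
      rw [mul_add, mul_one, add_mul, sgm_sq]
    rwa [h2] at h1
  · intro a b hab
    rw [sgm_conj, he a b hab]
    rfl

/-- **Isolation.** -/
theorem iso (hE : HasE H) (hcard : Fintype.card ι = 3 ∨ 5 ≤ Fintype.card ι) {r c l : ι} (hrc : r ≠ c) (hlr : l ≠ r)
    (hlc : l ≠ c) {M : Matrix ι ι F} (hM : Sp r c M) (h : Mm H (1 + M)) :
    ∃ m : ℕ, Mm H (Matrix.transvection r l (2 ^ m * M r l)) := by
  have hB : Bq H r c M := ⟨M, hM, h, fun _ _ _ => rfl⟩
  -- it suffices to isolate modulo the `(r,c)` entry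
  have key : (∃ (m : ℕ) (M' : Matrix ι ι F), Bq H r c M' ∧ M' r l = 2 ^ m * M r l ∧
      ∀ a b, ¬ (a = r ∧ b = c) → ¬ (a = r ∧ b = l) → ((a = r ∧ b ≠ r) ∨ (b = c ∧ a ≠ c)) → M' a b = 0) →
      ∃ m : ℕ, Mm H (Matrix.transvection r l (2 ^ m * M r l)) := by
    rintro ⟨m, M', ⟨N, hN, hm, he⟩, hMl, hM'⟩
    have hN0 : ∀ a b, ¬ (a = r ∧ b = c) → ¬ (a = r ∧ b = l) → N a b = 0 := by
      intro a b h1 h2
      by_contra h3
      have h4 := hN a b h3
      rw [he a b h1] at h3
      exact h3 (hM' a b h1 h2 h4)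
    have hNl : N r l = 2 ^ m * M r l := by
      rw [he r l (fun h => hlc h.2), hMl]
    refine ⟨m + 1, ?_⟩
    have h1 := hm.mul (((hE r l hlr.symm).mul hm).mul (hE r l hlr.symm))
    have h2 : (1 + N) * (sgm (F := F) r l * (1 + N) * sgm (F := F) r l) = 1 + (N + sgm (F := F) r l * N * sgm (F := F) r l) +
        N * (sgm (F := F) r l * N * sgm (F := F) r l) := by
      rw [mul_add, mul_one, add_mul (sgm (F := F) r l), sgm_sq]
      noncomm_ring
    have hNN : N * (sgm (F := F) r l * N * sgm (F := F) r l) = 0 := by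
      ext a b
      rw [Matrix.mul_apply, Matrix.zero_apply]
      refine Finset.sum_eq_zero fun k _ => ?_
      rw [sgm_conj]
      by_cases hk : k = r
      · have : N a k = 0 := by
          rw [hk]
          exact hN0 _ _ (fun h => hrc h.2) (fun h => hlr h.2.symm)
        rw [this, zero_mul]
      · have : N k b = 0 := hN0 _ _ (fun h => hk h.1) (fun h => hk h.1)
        rw [this, mul_zero, zero_mul, mul_zero]
    rw [h2, hNN, add_zero] at h1
    have h3 : 1 + (N + sgm (F := F) r l * N * sgm (F := F) r l) = Matrix.transvection r l (2 ^ (m + 1) * M r l) := by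
      rw [Matrix.transvection]
      congr 1
      ext a b
      rw [Matrix.add_apply, sgm_conj]
      by_cases h4 : a = r ∧ b = l
      · rw [h4.1, h4.2, sgv_l, sgv_r, hNl, Matrix.single_apply_same]
        ring
      · rw [Matrix.single_apply_of_ne _ _ _ _ _ (fun h => h4 ⟨h.1.symm, h.2.symm⟩)]
        by_cases h5 : a = r ∧ b = c
        · rw [h5.1, h5.2, sgv_l, sgv_n hrc.symm hlc.symm]
          ring
        · rw [hN0 a b h5 h4]
          ring
    rwa [h3] at h1
  apply key
  set M₁ := M + had r l M with hM₁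
  have hB₁ : Bq H r c M₁ := hB.add hrc (hB.had hE hlr.symm)
  have e₁ : ∀ a b, M₁ a b = M a b + sgv r l a * M a b * sgv r l b := fun a b => rfl
  rcases hcard with h3 | h5
  · refine ⟨1, M₁, hB₁, ?_, ?_⟩
    · rw [e₁, sgv_l, sgv_r]
      ring
    · rintro a b h1 h2 (⟨rfl, hb⟩ | ⟨rfl, ha⟩)
      · rw [e₁, sgv_l, sgv_n hb (fun h => h2 ⟨rfl, h⟩)]
        ring
      · have har : a ≠ r := fun h => h1 ⟨h, rfl⟩
        by_cases hal : a = l
        · rw [e₁, hal, sgv_r, sgv_n hrc.symm hlc.symm]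
          ring
        · exfalso
          have h4 : Finset.card ({r, b, l, a} : Finset ι) = 4 := by
            rw [Finset.card_insert_of_notMem, Finset.card_insert_of_notMem, Finset.card_insert_of_notMem,
              Finset.card_singleton]
            · simpa using fun h => hal h.symm
            · simp only [Finset.mem_insert, Finset.mem_singleton, not_or]
              exact ⟨hlc.symm, ha.symm⟩
            · simp only [Finset.mem_insert, Finset.mem_singleton, not_or]
              exact ⟨hrc, hlr.symm, har.symm⟩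
          have h6 := Finset.card_le_univ ({r, b, l, a} : Finset ι)
          omega
  · obtain ⟨e, he⟩ : ∃ e : ι, e ∉ ({r, c, l} : Finset ι) := by
      by_contra hcon
      push Not at hcon
      have h6 : (Finset.univ : Finset ι) ⊆ {r, c, l} := fun x _ => hcon x
      have h7 := Finset.card_le_card h6
      have h8 : Finset.card ({r, c, l} : Finset ι) ≤ 3 := Finset.card_le_three
      rw [Finset.card_univ] at h7
      omega
    obtain ⟨f, hf⟩ : ∃ f : ι, f ∉ ({r, c, l, e} : Finset ι) := by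
      by_contra hcon
      push Not at hcon
      have h6 : (Finset.univ : Finset ι) ⊆ {r, c, l, e} := fun x _ => hcon x
      have h7 := Finset.card_le_card h6
      have h8 : Finset.card ({r, c, l, e} : Finset ι) ≤ 4 := Finset.card_le_four
      rw [Finset.card_univ] at h7
      omega
    simp only [Finset.mem_insert, Finset.mem_singleton, not_or] at he hf
    obtain ⟨her, hec, hel⟩ := he
    obtain ⟨hfr, hfc, hfl, hfe⟩ := hf
    set M₂ := M₁ + -(had l e M₁) with hM₂
    have hB₂ : Bq H r c M₂ := hB₁.add hrc ((hB₁.had hE (Ne.symm hel)).neg hrc)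
    have e₂ : ∀ a b, M₂ a b = M₁ a b + -(sgv l e a * M₁ a b * sgv l e b) := fun a b => rfl
    set M₃ := M₂ + had e f M₂ with hM₃
    have hB₃ : Bq H r c M₃ := hB₂.add hrc (hB₂.had hE (Ne.symm hfe))
    have e₃ : ∀ a b, M₃ a b = M₂ a b + sgv e f a * M₂ a b * sgv e f b := fun a b => rfl
    refine ⟨3, M₃, hB₃, ?_, ?_⟩
    · rw [e₃, e₂, e₁, sgv_l, sgv_r, sgv_l, sgv_n (Ne.symm hlr) (Ne.symm her), sgv_n (Ne.symm her) (Ne.symm hfr),
        sgv_n (Ne.symm hel) (Ne.symm hfl)]
      ring
    · rintro a b h1 h2 (⟨rfl, hb⟩ | ⟨rfl, ha⟩)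
      · have : M₁ a b = 0 := by
          rw [e₁, sgv_l, sgv_n hb (fun h => h2 ⟨rfl, h⟩)]
          ring
        rw [e₃, e₂, this]
        ring
      · have har : a ≠ r := fun h => h1 ⟨h, rfl⟩
        by_cases hal : a = l
        · have : M₁ a b = 0 := by
            rw [e₁, hal, sgv_r, sgv_n hrc.symm hlc.symm]
            ring
          rw [e₃, e₂, this]
          ring
        · by_cases hae : a = e
          · rw [e₃, hae, sgv_l, sgv_n (Ne.symm hec) (Ne.symm hfc)]
            ring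
          · have : M₂ a b = 0 := by
              rw [e₂, sgv_n hal hae, sgv_n hlc.symm (Ne.symm hec)]
              ring
            rw [e₃, this]
            ring

end Cfsg.Agent.H67.Odm
end

-- part: H67/OdmSym
section
/-!
# Two transvections and the diagonal sign matrices (TEAM ODDM, S4785, helper67)

`edge_row`, `edge_col`, `sym`.
-/

set_option autoImplicit false
set_option linter.unusedSectionVars false
set_option linter.unusedVariables false

namespace Cfsg.Agent.H67.Odm

open Matrix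

universe u v

variable {ι : Type v} [Fintype ι] [DecidableEq ι] {F : Type u} [Field F]
variable {H : Subgroup (GL ι F)}

/-- transposed subgroup -/
def trS (H : Subgroup (GL ι F)) : Subgroup (GL ι F) where
  carrier := {g | Mm H g.1ᵀ}
  one_mem' := by
    change Mm H (1 : Matrix ι ι F)ᵀ
    rw [Matrix.transpose_one]
    exact Mm.one
  mul_mem' := by
    intro x y hx hy
    change Mm H (x.1 * y.1)ᵀ
    rw [Matrix.transpose_mul]
    exact Mm.mul hy hx
  inv_mem' := by
    intro x hx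
    refine Mm.inv_of hx ?_
    rw [← Matrix.transpose_mul, ← Units.val_mul, inv_mul_cancel, Units.val_one, Matrix.transpose_one]

theorem mm_trS {A : Matrix ι ι F} : Mm (trS H) A ↔ Mm H Aᵀ := by
  constructor
  · rintro ⟨g, hg, rfl⟩
    exact hg
  · rintro ⟨h, hh, hA⟩
    have hA' : A = h.1ᵀ := by rw [hA, Matrix.transpose_transpose]
    refine ⟨⟨A, (h⁻¹ : GL ι F).1ᵀ, ?_, ?_⟩, ?_, rfl⟩
    · rw [hA', ← Matrix.transpose_mul, ← Units.val_mul, inv_mul_cancel, Units.val_one, Matrix.transpose_one]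
    · rw [hA', ← Matrix.transpose_mul, ← Units.val_mul, mul_inv_cancel, Units.val_one, Matrix.transpose_one]
    · exact ⟨h, hh, hA⟩

theorem sgm_transpose (i j : ι) : (sgm (F := F) i j)ᵀ = sgm i j := Matrix.diagonal_transpose _

theorem HasE.trS (hE : HasE H) : HasE (trS H) := fun i j hij => by
  rw [mm_trS, sgm_transpose]
  exact hE i j hij

theorem transvection_transpose (i j : ι) (c : F) : (Matrix.transvection i j c)ᵀ = Matrix.transvection j i c := by
  rw [Matrix.transvection, Matrix.transvection, Matrix.transpose_add, Matrix.transpose_one, Matrix.transpose_single]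

theorem isoT (hE : HasE H) (hcard : Fintype.card ι = 3 ∨ 5 ≤ Fintype.card ι) {r c l : ι} (hrc : r ≠ c) (hlr : l ≠ r)
    (hlc : l ≠ c) {M : Matrix ι ι F} (hM : Sp r c M) (h : Mm H (1 + M)) :
    ∃ m : ℕ, Mm H (Matrix.transvection l c (2 ^ m * M l c)) := by
  have h1 : Sp c r Mᵀ := fun a b hab => by
    rcases hM b a hab with h | h
    · exact Or.inr h
    · exact Or.inl h
  obtain ⟨m, hm⟩ := iso hE.trS hcard hrc.symm hlc hlr h1 (by
    rw [mm_trS, Matrix.transpose_add, Matrix.transpose_one, Matrix.transpose_transpose]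
    exact h)
  rw [mm_trS, transvection_transpose, Matrix.transpose_apply] at hm
  exact ⟨m, hm⟩

/-- the embedding of `2 × 2` matrices -/
def psf (X : Matrix ι (Fin 2) F) (Y : Matrix (Fin 2) ι F) (A : Matrix (Fin 2) (Fin 2) F) : Matrix ι ι F :=
  1 + X * (A - 1) * Y

theorem psf_one (X : Matrix ι (Fin 2) F) (Y : Matrix (Fin 2) ι F) : psf X Y 1 = 1 := by
  rw [psf, sub_self, Matrix.mul_zero, Matrix.zero_mul, add_zero]

theorem psf_mul {X : Matrix ι (Fin 2) F} {Y : Matrix (Fin 2) ι F} (h : Y * X = 1) (A B : Matrix (Fin 2) (Fin 2) F) :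
    psf X Y (A * B) = psf X Y A * psf X Y B := by
  have h1 : X * (A - 1) * Y * (X * (B - 1) * Y) = X * ((A - 1) * (B - 1)) * Y := by
    calc X * (A - 1) * Y * (X * (B - 1) * Y) = X * (A - 1) * (Y * X) * (B - 1) * Y := by
          simp only [Matrix.mul_assoc]
      _ = X * ((A - 1) * (B - 1)) * Y := by
          rw [h, Matrix.mul_one]
          simp only [Matrix.mul_assoc]
  rw [psf, psf, psf, mul_add, add_mul, add_mul, one_mul, mul_one, one_mul, h1]
  have h2 : A * B - 1 = (A - 1) + (B - 1) + (A - 1) * (B - 1) := by noncomm_ring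
  rw [h2]
  simp only [Matrix.mul_add, Matrix.add_mul]
  abel

/-- the embedding of `SL_2` -/
def psi {X : Matrix ι (Fin 2) F} {Y : Matrix (Fin 2) ι F} (h : Y * X = 1) : SL2 F →* GL ι F :=
  MonoidHom.toHomUnits
    { toFun := fun A => psf X Y A.1
      map_one' := psf_one X Y
      map_mul' := fun A B => psf_mul h A.1 B.1 }

theorem psi_val {X : Matrix ι (Fin 2) F} {Y : Matrix (Fin 2) ι F} (h : Y * X = 1) (A : SL2 F) :
    (psi h A).1 = psf X Y A.1 := rfl

theorem mem_comap_psi {X : Matrix ι (Fin 2) F} {Y : Matrix (Fin 2) ι F} (h : Y * X = 1) (A : SL2 F) :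
    A ∈ H.comap (psi h) ↔ Mm H (psf X Y A.1) := by
  rw [Subgroup.mem_comap]
  constructor
  · intro h1
    exact ⟨_, h1, psi_val h A⟩
  · rintro ⟨x, hx, hxA⟩
    have : x = psi h A := Units.ext (by rw [hxA, psi_val])
    rwa [← this]

/-- two columns -/
def Xm (x0 x1 : ι → F) : Matrix ι (Fin 2) F := Matrix.of fun k => ![x0 k, x1 k]
/-- two rows -/
def Ym (y0 y1 : ι → F) : Matrix (Fin 2) ι F := Matrix.of ![y0, y1]

theorem Ym_mul_Xm (x0 x1 y0 y1 : ι → F) (h00 : y0 ⬝ᵥ x0 = 1) (h01 : y0 ⬝ᵥ x1 = 0) (h10 : y1 ⬝ᵥ x0 = 0)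
    (h11 : y1 ⬝ᵥ x1 = 1) : Ym y0 y1 * Xm x0 x1 = 1 := by
  ext a b
  rw [Matrix.mul_apply]
  fin_cases a <;> fin_cases b
  · exact h00
  · exact h01
  · exact h10
  · exact h11

theorem psf_apply (x0 x1 y0 y1 : ι → F) (A : Matrix (Fin 2) (Fin 2) F) (r s : ι) :
    psf (Xm x0 x1) (Ym y0 y1) A r s = (1 : Matrix ι ι F) r s +
      (x0 r * (A 0 0 - 1) + x1 r * A 1 0) * y0 s + (x0 r * A 0 1 + x1 r * (A 1 1 - 1)) * y1 s := by
  rw [psf, Matrix.add_apply, Matrix.mul_apply, Fin.sum_univ_two, Matrix.mul_apply, Matrix.mul_apply,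
    Fin.sum_univ_two, Fin.sum_univ_two]
  simp only [Xm, Ym, _root_.Fin.isValue, _root_.Matrix.of_apply, _root_.Matrix.cons_val_zero, _root_.Matrix.sub_apply, _root_.Matrix.one_apply_eq, _root_.Matrix.cons_val_one, _root_.Matrix.cons_val_fin_one, _root_.ne_eq, _root_.one_ne_zero, _root_.not_false_eq_true, _root_.Matrix.one_apply_ne, _root_.sub_zero, _root_.Matrix.cons_val', _root_.zero_ne_one]
  ring

section two

variable {i j : ι} {a φ : ι → F}

/-- the columns and rows attached to two transvections -/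
theorem yx_one (hij : i ≠ j) (hφa : φ ⬝ᵥ a = 0) (ha : a j ≠ 0) (hφ : φ i ≠ 0) :
    Ym ((φ i)⁻¹ • φ) (Pi.single j 1) * Xm (Pi.single i 1) ((a j)⁻¹ • a) = 1 := by
  apply Ym_mul_Xm
  · rw [smul_dotProduct, dotProduct_single, mul_one, smul_eq_mul, inv_mul_cancel₀ hφ]
  · rw [smul_dotProduct, dotProduct_smul, hφa, smul_zero, smul_zero]
  · rw [dotProduct_single, mul_one, Pi.single_eq_of_ne hij]
  · rw [single_dotProduct, one_mul, Pi.smul_apply, smul_eq_mul, inv_mul_cancel₀ ha]

theorem psf_up (c : F) : psf (Xm (Pi.single i 1) ((a j)⁻¹ • a)) (Ym ((φ i)⁻¹ • φ) (Pi.single j 1)) (up c).1 =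
    Matrix.transvection i j c := by
  ext r s
  rw [psf_apply, up_00, up_01, up_10, up_11, Matrix.transvection, Matrix.add_apply, Matrix.single_apply]
  simp only [Pi.single_apply]
  rcases eq_or_ne i r with rfl | h1
  · rcases eq_or_ne j s with rfl | h2
    · simp
    · simp [h2, h2.symm]
  · rcases eq_or_ne j s with rfl | h2
    · simp [h1, h1.symm]
    · simp [h1, h1.symm]

theorem psf_lo (ha : a j ≠ 0) (hφ : φ i ≠ 0) :
    psf (Xm (Pi.single i 1) ((a j)⁻¹ • a)) (Ym ((φ i)⁻¹ • φ) (Pi.single j 1)) (lo (a j * φ i)).1 =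
    1 + Matrix.vecMulVec a φ := by
  ext r s
  rw [psf_apply, lo_00, lo_01, lo_10, lo_11, Matrix.add_apply, Matrix.vecMulVec_apply]
  simp only [Pi.smul_apply, smul_eq_mul]
  field_simp
  ring

theorem ng_val : (ng : SL2 F).1 = -1 := by
  ext r s
  (revert r s; simp only [ng, _root_.Fin.forall_fin_succ, _root_.Matrix.of_apply, _root_.Matrix.cons_val', _root_.Matrix.cons_val_fin_one, _root_.Matrix.neg_apply, Fin.isValue, _root_.Matrix.cons_val_zero, _root_.Matrix.cons_val_succ, _root_.IsEmpty.forall_iff, _root_.and_true, _root_.Matrix.one_apply_eq, Nat.reduceAdd, _root_.Fin.succ_zero_eq_one, _root_.ne_eq, _root_.zero_ne_one, _root_.not_false_eq_true, _root_.Matrix.one_apply_ne, _root_.neg_zero, _root_.and_self, _root_.Fin.succ_ne_zero, _root_.neg_inj, _root_.true_and])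

theorem psf_ng (X : Matrix ι (Fin 2) F) (Y : Matrix (Fin 2) ι F) : psf X Y (ng : SL2 F).1 = 1 - 2 • (X * Y) := by
  rw [psf, ng_val]
  have : (-1 - 1 : Matrix (Fin 2) (Fin 2) F) = -(2 • (1 : Matrix (Fin 2) (Fin 2) F)) := by
    rw [two_smul]; abel
  rw [this, Matrix.mul_neg, Matrix.mul_smul, Matrix.mul_one, Matrix.neg_mul, Matrix.smul_mul, sub_eq_add_neg]

/-- the involution -/
theorem mm_ng [Finite F] (h2 : (2 : F) ≠ 0) (hij : i ≠ j) {c : F} (hc : c ≠ 0) (hx : Mm H (Matrix.transvection i j c))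
    (ht : Mm H (1 + Matrix.vecMulVec a φ)) (hφa : φ ⬝ᵥ a = 0) (ha : a j ≠ 0) (hφ : φ i ≠ 0) :
    Mm H (psf (Xm (Pi.single i 1) ((a j)⁻¹ • a)) (Ym ((φ i)⁻¹ • φ) (Pi.single j 1)) (ng : SL2 F).1) := by
  rw [← mem_comap_psi (yx_one hij hφa ha hφ)]
  refine ng_mem h2 hc (mul_ne_zero ha hφ) ?_ ?_
  · rw [mem_comap_psi, psf_up]
    exact hx
  · rw [mem_comap_psi, psf_lo ha hφ]
    exact ht

/-- the unipotent element -/
def Nm (i j : ι) (a φ : ι → F) : Matrix ι ι F :=
  psf (Xm (Pi.single i 1) ((a j)⁻¹ • a)) (Ym ((φ i)⁻¹ • φ) (Pi.single j 1)) (ng : SL2 F).1 * sgm i j - 1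

theorem Nm_apply (r s : ι) : Nm i j a φ r s =
    ((1 : Matrix ι ι F) r s - 2 * ((Pi.single i 1 : ι → F) r * ((φ i)⁻¹ * φ s) +
      (a j)⁻¹ * a r * (Pi.single j 1 : ι → F) s)) * sgv i j s - (1 : Matrix ι ι F) r s := by
  rw [Nm, Matrix.sub_apply, sgm, Matrix.mul_diagonal, psf_apply, ng_00, ng_01, ng_10, ng_11]
  simp only [Pi.smul_apply, smul_eq_mul]
  ring

theorem Nm_other (hij : i ≠ j) {r s : ι} (hi : s ≠ i) (hj : s ≠ j) :
    Nm i j a φ r s = -2 * (Pi.single i 1 : ι → F) r * ((φ i)⁻¹ * φ s) := by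
  rw [Nm_apply, sgv_n hi hj, Pi.single_eq_of_ne hj]
  ring

theorem Nm_i (hij : i ≠ j) (hφ : φ i ≠ 0) (r : ι) : Nm i j a φ r i = 0 := by
  rw [Nm_apply, sgv_l, Pi.single_eq_of_ne hij, inv_mul_cancel₀ hφ]
  rw [Matrix.one_apply, Pi.single_apply]
  split_ifs <;> ring

theorem Nm_jj (hij : i ≠ j) (ha : a j ≠ 0) (s : ι) : Nm i j a φ j s = 0 := by
  by_cases hsj : s = j
  · rw [hsj, Nm_apply, sgv_r, Pi.single_eq_same, Pi.single_eq_of_ne hij.symm, Matrix.one_apply_eq,
      inv_mul_cancel₀ ha]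
    ring
  · rw [Nm_apply, Pi.single_eq_of_ne hij.symm, Pi.single_eq_of_ne hsj, Matrix.one_apply_ne (Ne.symm hsj)]
    ring

theorem Nm_sp (hij : i ≠ j) (ha : a j ≠ 0) (hφ : φ i ≠ 0) : Sp i j (Nm i j a φ) := by
  intro r s hrs
  by_cases hsi : s = i
  · exact absurd (by rw [hsi]; exact Nm_i hij hφ r) hrs
  · by_cases hri : r = i
    · exact Or.inl ⟨hri, hsi⟩
    · by_cases hsj : s = j
      · refine Or.inr ⟨hsj, ?_⟩
        rintro rfl
        exact hrs (Nm_jj hij ha s)
      · exfalso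
        apply hrs
        rw [Nm_other hij hsi hsj, Pi.single_eq_of_ne hri]
        ring

theorem mm_Nm [Finite F] (h2 : (2 : F) ≠ 0) (hE : HasE H) (hij : i ≠ j) {c : F} (hc : c ≠ 0)
    (hx : Mm H (Matrix.transvection i j c))
    (ht : Mm H (1 + Matrix.vecMulVec a φ)) (hφa : φ ⬝ᵥ a = 0) (ha : a j ≠ 0) (hφ : φ i ≠ 0) :
    Mm H (1 + Nm i j a φ) := by
  rw [Nm, add_sub_cancel]
  exact (mm_ng h2 hij hc hx ht hφa ha hφ).mul (hE i j hij)

theorem edge_row [Finite F] (h2 : (2 : F) ≠ 0) (hE : HasE H) (hcard : Fintype.card ι = 3 ∨ 5 ≤ Fintype.card ι)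
    (hij : i ≠ j) {c : F} (hc : c ≠ 0) (hx : Mm H (Matrix.transvection i j c))
    (ht : Mm H (1 + Matrix.vecMulVec a φ)) (hφa : φ ⬝ᵥ a = 0) (ha : a j ≠ 0) (hφ : φ i ≠ 0) {l : ι} (hli : l ≠ i)
    (hlj : l ≠ j) : ∃ m : ℕ, Mm H (Matrix.transvection i l (2 ^ m * (-2 * ((φ i)⁻¹ * φ l)))) := by
  obtain ⟨m, hm⟩ := iso hE hcard hij hli hlj (Nm_sp hij ha hφ) (mm_Nm h2 hE hij hc hx ht hφa ha hφ)
  rw [Nm_other hij hli hlj, Pi.single_eq_same, mul_one] at hm
  exact ⟨m, hm⟩

/-- `A` fixes the column vector `e_i` and the row vector `e_j` -/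
def Fx (i j : ι) (A : Matrix ι ι F) : Prop :=
  A *ᵥ Pi.single i 1 = Pi.single i 1 ∧ Pi.single j 1 ᵥ* A = Pi.single j 1

theorem Fx.one : Fx i j (1 : Matrix ι ι F) := ⟨Matrix.one_mulVec _, Matrix.vecMul_one _⟩

theorem Fx.mul {A B : Matrix ι ι F} (hA : Fx i j A) (hB : Fx i j B) : Fx i j (A * B) :=
  ⟨by rw [← Matrix.mulVec_mulVec, hB.1, hA.1], by rw [← Matrix.vecMul_vecMul, hA.2, hB.2]⟩

theorem Fx.pow {A : Matrix ι ι F} (hA : Fx i j A) (n : ℕ) : Fx i j (A ^ n) := by
  induction n with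
  | zero => rw [pow_zero]; exact Fx.one
  | succ n ih => rw [pow_succ]; exact ih.mul hA

theorem Fx_Nm (hij : i ≠ j) (ha : a j ≠ 0) (hφ : φ i ≠ 0) : Fx i j (1 + Nm i j a φ) := by
  constructor
  · rw [Matrix.add_mulVec, Matrix.one_mulVec, Matrix.mulVec_single_one]
    have : (Nm i j a φ).col i = 0 := by
      ext r
      exact Nm_i hij hφ r
    rw [this, add_zero]
  · rw [Matrix.vecMul_add, Matrix.vecMul_one, Matrix.single_one_vecMul]
    have : (Nm i j a φ).row j = 0 := by
      ext s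
      exact Nm_jj hij ha s
    rw [this, add_zero]

/-- the standard columns and rows -/
theorem yx_std (hij : i ≠ j) :
    Ym (Pi.single i (1 : F)) (Pi.single j 1) * Xm (Pi.single i (1 : F)) (Pi.single j 1) = 1 := by
  apply Ym_mul_Xm
  · simp only [_root_.dotProduct_single, _root_.Pi.single_eq_same, _root_.mul_one]
  · rw [single_dotProduct, one_mul, Pi.single_eq_of_ne hij]
  · rw [single_dotProduct, one_mul, Pi.single_eq_of_ne hij.symm]
  · simp only [_root_.dotProduct_single, _root_.Pi.single_eq_same, _root_.mul_one]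

theorem psf_std_up (c : F) : psf (Xm (Pi.single i (1 : F)) (Pi.single j 1)) (Ym (Pi.single i 1) (Pi.single j 1)) (up c).1 =
    Matrix.transvection i j c := by
  ext r s
  rw [psf_apply, up_00, up_01, up_10, up_11, Matrix.transvection, Matrix.add_apply, Matrix.single_apply]
  simp only [Pi.single_apply]
  rcases eq_or_ne i r with rfl | h1
  · rcases eq_or_ne j s with rfl | h2
    · simp
    · simp [h2, h2.symm]
  · rcases eq_or_ne j s with rfl | h2
    · simp [h1, h1.symm]
    · simp [h1, h1.symm]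

theorem psf_std_lo (c : F) : psf (Xm (Pi.single i (1 : F)) (Pi.single j 1)) (Ym (Pi.single i 1) (Pi.single j 1)) (lo c).1 =
    Matrix.transvection j i c := by
  ext r s
  rw [psf_apply, lo_00, lo_01, lo_10, lo_11, Matrix.transvection, Matrix.add_apply, Matrix.single_apply]
  simp only [Pi.single_apply]
  rcases eq_or_ne j r with rfl | h1
  · rcases eq_or_ne i s with rfl | h2
    · simp
    · simp [h2, h2.symm]
  · rcases eq_or_ne i s with rfl | h2
    · simp [h1, h1.symm]
    · simp [h1, h1.symm]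

theorem psf_std_ng (hij : i ≠ j) : psf (Xm (Pi.single i (1 : F)) (Pi.single j 1)) (Ym (Pi.single i 1) (Pi.single j 1))
    (ng : SL2 F).1 = sgm i j := by
  ext r s
  rw [psf_apply, ng_00, ng_01, ng_10, ng_11, sgm, Matrix.diagonal_apply, Matrix.one_apply]
  by_cases hrs : r = s
  · subst hrs
    rw [if_pos rfl, if_pos rfl]
    by_cases h1 : r = i
    · rw [h1, sgv_l, Pi.single_eq_same, Pi.single_eq_of_ne hij]
      ring
    · by_cases h2 : r = j
      · rw [h2, sgv_r, Pi.single_eq_same, Pi.single_eq_of_ne hij.symm]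
        ring
      · rw [sgv_n h1 h2, Pi.single_eq_of_ne h1, Pi.single_eq_of_ne h2]
        ring
  · rw [if_neg hrs, if_neg hrs]
    by_cases h1 : r = i
    · have hs : s ≠ i := fun h => hrs (h1.trans h.symm)
      rw [Pi.single_eq_of_ne hs, h1, Pi.single_eq_of_ne hij]
      ring
    · by_cases h2 : r = j
      · have hs : s ≠ j := fun h => hrs (h2.trans h.symm)
        rw [Pi.single_eq_of_ne hs, h2, Pi.single_eq_of_ne hij.symm]
        ring
      · rw [Pi.single_eq_of_ne h1, Pi.single_eq_of_ne h2]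
        ring

/-- `δ`-stability -/
theorem dl_std {k : ι} (hki : k ≠ i) (hkj : k ≠ j) (hij : i ≠ j) (A : SL2 F) :
    psf (Xm (Pi.single i (1 : F)) (Pi.single j 1)) (Ym (Pi.single i 1) (Pi.single j 1)) (dl A).1 =
    sgm i k * psf (Xm (Pi.single i (1 : F)) (Pi.single j 1)) (Ym (Pi.single i 1) (Pi.single j 1)) A.1 * sgm i k := by
  ext r s
  rw [sgm_conj, psf_apply, psf_apply, dl_00, dl_01, dl_10, dl_11]
  have h1 : (sgv i k r : F) * (1 : Matrix ι ι F) r s * sgv i k s = (1 : Matrix ι ι F) r s := by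
    rcases eq_or_ne r s with rfl | h
    · rw [Matrix.one_apply_eq, mul_one, sgv_sq]
    · rw [Matrix.one_apply_ne h, mul_zero, zero_mul]
  have hi : ∀ r : ι, (sgv i k r : F) * (Pi.single i 1 : ι → F) r = -(Pi.single i 1 : ι → F) r := by
    intro r
    rcases eq_or_ne r i with rfl | h
    · rw [sgv_l]; ring
    · rw [Pi.single_eq_of_ne h]; ring
  have hj : ∀ r : ι, (sgv i k r : F) * (Pi.single j 1 : ι → F) r = (Pi.single j 1 : ι → F) r := by
    intro r
    rcases eq_or_ne r j with rfl | h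
    · rw [sgv_n hij.symm (Ne.symm hkj)]; ring
    · rw [Pi.single_eq_of_ne h]; ring
  have hir := hi r
  have his := hi s
  have hjr := hj r
  have hjs := hj s
  generalize (sgv i k r : F) = e at *
  generalize (sgv i k s : F) = e' at *
  generalize (Pi.single i 1 : ι → F) r = x at *
  generalize (Pi.single i 1 : ι → F) s = x' at *
  generalize (Pi.single j 1 : ι → F) r = y at *
  generalize (Pi.single j 1 : ι → F) s = y' at *
  have e1 : e * (x * (A.1 0 0 - 1) * x') * e' = x * (A.1 0 0 - 1) * x' := by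
    linear_combination (A.1 0 0 - 1) * x' * e' * hir - (A.1 0 0 - 1) * x * his
  have e2 : e * (x * A.1 0 1 * y') * e' = -(x * A.1 0 1 * y') := by
    linear_combination (A.1 0 1) * y' * e' * hir - (A.1 0 1) * x * hjs
  have e3 : e * (y * A.1 1 0 * x') * e' = -(y * A.1 1 0 * x') := by
    linear_combination (A.1 1 0) * x' * e' * hjr + (A.1 1 0) * y * his
  have e4 : e * (y * (A.1 1 1 - 1) * y') * e' = y * (A.1 1 1 - 1) * y' := by
    linear_combination (A.1 1 1 - 1) * y' * e' * hjr + (A.1 1 1 - 1) * y * hjs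
  linear_combination -h1 - e1 - e2 - e3 - e4

/-- conjugation in a group: `(U G)² = 1`, `G² = 1`, `U^p = 1` -/
theorem conj_half {Γ : Type*} [Group Γ] {U G : Γ} (hG : G * G = 1) (hUG : (U * G) * (U * G) = 1) {p k : ℕ}
    (hU : U ^ p = 1) (hk : 2 * k = p + 1) : (U ^ k)⁻¹ * (U * G) * U ^ k = G := by
  have hG' : G⁻¹ = G := inv_eq_of_mul_eq_one_left hG
  have h1 : G * U * G⁻¹ = U⁻¹ := by
    rw [hG', eq_inv_iff_mul_eq_one]
    have h3 : U * (G * U * G * U) * U⁻¹ = 1 := by
      calc U * (G * U * G * U) * U⁻¹ = (U * G) * (U * G) := by group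
        _ = 1 := hUG
    have h4 : G * U * G * U = U⁻¹ * (U * (G * U * G * U) * U⁻¹) * U := by group
    rw [h4, h3]
    group
  have h2 : G * U ^ k * G⁻¹ = (U ^ k)⁻¹ := by
    rw [← conj_pow, h1, inv_pow]
  have h3 : G * U ^ k = (U ^ k)⁻¹ * G := by
    rw [← h2]; group
  have h5 : (U ^ k)⁻¹ * U * (U ^ k)⁻¹ = 1 := by
    have h6 : U = U ^ k * U ^ k := by
      rw [← pow_add, ← two_mul, hk, pow_succ, hU, one_mul]
    have h7 : (U ^ k)⁻¹ * (U ^ k * U ^ k) * (U ^ k)⁻¹ = 1 := by group
    rwa [← h6] at h7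
  calc (U ^ k)⁻¹ * (U * G) * U ^ k = (U ^ k)⁻¹ * U * (G * U ^ k) := by group
    _ = ((U ^ k)⁻¹ * U * (U ^ k)⁻¹) * G := by rw [h3]; group
    _ = G := by rw [h5, one_mul]

/-- **symmetry** -/
theorem sym [Finite F] (h2 : (2 : F) ≠ 0) (hE : HasE H) (hij : i ≠ j) {k : ι} (hki : k ≠ i) (hkj : k ≠ j)
    {c : F} (hc : c ≠ 0) (hx : Mm H (Matrix.transvection i j c))
    (ht : Mm H (1 + Matrix.vecMulVec a φ)) (hφa : φ ⬝ᵥ a = 0) (ha : a j ≠ 0) (hφ : φ i ≠ 0) :
    ∃ d : F, d ≠ 0 ∧ Mm H (Matrix.transvection j i d) := by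
  obtain ⟨p, hpc⟩ := CharP.exists F
  have hpp : p.Prime := CharP.char_is_prime F p
  have : Fact p.Prime := ⟨hpp⟩
  have hp2 : p ≠ 2 := by
    rintro rfl
    apply h2
    exact_mod_cast CharP.cast_eq_zero F 2
  have hp3 : 3 ≤ p := by
    have := hpp.two_le
    omega
  obtain ⟨q, hq⟩ := hpp.odd_of_ne_two hp2
  -- notation
  set X := Xm (Pi.single i (1 : F)) ((a j)⁻¹ • a) with hX
  set Y := Ym ((φ i)⁻¹ • φ) (Pi.single j (1 : F)) with hY
  set X₀ := Xm (Pi.single i (1 : F)) (Pi.single j (1 : F)) with hX₀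
  set Y₀ := Ym (Pi.single i (1 : F)) (Pi.single j (1 : F)) with hY₀
  have hYX : Y * X = 1 := yx_one hij hφa ha hφ
  have hYX₀ : Y₀ * X₀ = 1 := yx_std hij
  set N := Nm i j a φ with hN
  have hNH : Mm H (1 + N) := mm_Nm h2 hE hij hc hx ht hφa ha hφ
  have hN3 : N * N * N = 0 := (Nm_sp hij ha hφ).mul3 hij (Nm_sp hij ha hφ) (Nm_sp hij ha hφ)
  have hNp : (1 + N) ^ p = 1 := by
    have : Nonempty ι := ⟨i⟩
    have : CharP (Matrix ι ι F) p := inferInstance
    rw [add_pow_char_of_commute _ (Commute.one_left N), one_pow]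
    have : N ^ p = N * N * N * N ^ (p - 3) := by
      have h : p = 3 + (p - 3) := by omega
      conv_lhs => rw [h, pow_add]
      rw [pow_succ, pow_two]
    rw [this, hN3, zero_mul, add_zero]
  obtain ⟨U, hUH, hU⟩ := hNH
  obtain ⟨G, hGH, hG⟩ := hE i j hij
  have hUp : U ^ p = 1 := Units.ext (by rw [Units.val_pow_eq_pow_val, hU, hNp]; rfl)
  have hGG : G * G = 1 := Units.ext (by rw [Units.val_mul, hG, sgm_sq]; rfl)
  have hUG : (U * G).1 = psf X Y (ng : SL2 F).1 := by
    rw [Units.val_mul, hU, hG, hN, Nm, add_sub_cancel, mul_assoc, sgm_sq, mul_one]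
  have hngng : (ng : SL2 F) * ng = 1 := by rw [← pow_two]; exact ng_sq
  have hUG2 : (U * G) * (U * G) = 1 := Units.ext (by
    rw [Units.val_mul, hUG, ← psf_mul hYX, ← Matrix.SpecialLinearGroup.coe_mul, hngng,
      Matrix.SpecialLinearGroup.coe_one, psf_one]
    rfl)
  have hk : 2 * (q + 1) = p + 1 := by omega
  have hconj := conj_half hGG hUG2 hUp hk
  set V := U ^ (q + 1) with hV
  have hVH : V ∈ H := H.pow_mem hUH _
  have hVF : Fx i j V.1 := by
    rw [hV, Units.val_pow_eq_pow_val, hU]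
    exact (Fx_Nm hij ha hφ).pow _
  have hVi : Fx i j (V⁻¹ : GL ι F).1 := by
    have h1 : (V⁻¹ : GL ι F).1 * V.1 = 1 := by rw [← Units.val_mul, inv_mul_cancel]; rfl
    have h1' : V.1 * (V⁻¹ : GL ι F).1 = 1 := by rw [← Units.val_mul, mul_inv_cancel]; rfl
    constructor
    · conv_lhs => rw [← hVF.1]
      rw [Matrix.mulVec_mulVec, h1, Matrix.one_mulVec]
    · conv_lhs => rw [← hVF.2]
      rw [Matrix.vecMul_vecMul, h1', Matrix.vecMul_one]
  set X' := (V⁻¹ : GL ι F).1 * X with hX'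
  set Y' := Y * V.1 with hY'
  have hY'X' : Y' * X' = 1 := by
    rw [hY', hX', Matrix.mul_assoc, ← Matrix.mul_assoc V.1, ← Units.val_mul, mul_inv_cancel, Units.val_one,
      Matrix.one_mul, hYX]
  have hcj : ∀ A : Matrix (Fin 2) (Fin 2) F, (V⁻¹ : GL ι F).1 * psf X Y A * V.1 = psf X' Y' A := by
    intro A
    rw [psf, psf, mul_add, add_mul, mul_one, ← Units.val_mul, inv_mul_cancel, Units.val_one, hX', hY']
    simp only [Matrix.mul_assoc]
  -- `X' Y' = X₀ Y₀`
  have hXY : X' * Y' = X₀ * Y₀ := by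
    have h1 := congrArg (fun g : GL ι F => g.1) hconj
    simp only [Units.val_mul] at h1
    rw [← Units.val_mul, ← Units.val_mul] at h1
    have h3 : ((V⁻¹ : GL ι F) * (U * G)).1 * V.1 = psf X' Y' (ng : SL2 F).1 := by
      rw [Units.val_mul, hUG, hcj]
    rw [h3, hG, ← psf_std_ng hij, psf_ng, psf_ng, sub_right_inj] at h1
    have h4 : (2 : F) • (X' * Y') = (2 : F) • (X₀ * Y₀) := by
      have e : ∀ Z : Matrix ι ι F, (2 : F) • Z = 2 • Z := fun Z => ofNat_smul_eq_nsmul F 2 Z
      rw [e, e]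
      exact h1
    exact smul_right_injective _ h2 h4
  -- the matrix `G'`
  set A₀ := Y₀ * X' with hA₀
  set B₀ := Y' * X₀ with hB₀
  have hBA : B₀ * A₀ = 1 := by
    rw [hA₀, hB₀]
    calc Y' * X₀ * (Y₀ * X') = Y' * (X₀ * Y₀) * X' := by simp only [Matrix.mul_assoc]
      _ = (Y' * X') * (Y' * X') := by rw [← hXY]; simp only [Matrix.mul_assoc]
      _ = 1 := by rw [hY'X', Matrix.one_mul]
  have hAB : A₀ * B₀ = 1 := mul_eq_one_comm.1 hBA
  have hXA : X₀ * A₀ = X' := by
    rw [hA₀, ← Matrix.mul_assoc, ← hXY, Matrix.mul_assoc, hY'X', Matrix.mul_one]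
  have hBY : B₀ * Y₀ = Y' := by
    rw [hB₀, Matrix.mul_assoc, ← hXY, ← Matrix.mul_assoc, hY'X', Matrix.one_mul]
  have hAup : A₀ = (up (A₀ 0 1)).1 := by
    have hcol0 : ∀ r, X' r 0 = (Pi.single i 1 : ι → F) r := by
      intro r
      have h3 : X' r 0 = ((V⁻¹ : GL ι F).1 *ᵥ (Pi.single i 1 : ι → F)) r := rfl
      rw [h3, hVi.1]
    have hrow : ∀ b, Y₀ 1 ⬝ᵥ (fun r => X' r b) = X j b := by
      intro b
      have h3 : Y₀ 1 ⬝ᵥ (fun r => X' r b) = ((Pi.single j 1 : ι → F) ᵥ* (V⁻¹ : GL ι F).1) ⬝ᵥ (fun r => X r b) := by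
        rw [← Matrix.dotProduct_mulVec]
        rfl
      rw [h3, hVi.2, single_dotProduct, one_mul]
    ext b b'
    fin_cases b <;> fin_cases b'
    · change Y₀ 0 ⬝ᵥ (fun r => X' r 0) = 1
      have : (fun r => X' r 0) = (Pi.single i 1 : ι → F) := funext hcol0
      rw [this, dotProduct_single, mul_one]
      change (Pi.single i 1 : ι → F) i = 1
      rw [Pi.single_eq_same]
    · rfl
    · change Y₀ 1 ⬝ᵥ (fun r => X' r 0) = 0
      rw [hrow]
      change (Pi.single i 1 : ι → F) j = 0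
      rw [Pi.single_eq_of_ne hij.symm]
    · change Y₀ 1 ⬝ᵥ (fun r => X' r 1) = 1
      rw [hrow]
      change (a j)⁻¹ * a j = 1
      rw [inv_mul_cancel₀ ha]
  have hBup : B₀ = ((up (A₀ 0 1))⁻¹ : SL2 F).1 := by
    have h3 : (up (A₀ 0 1)).1 * ((up (A₀ 0 1))⁻¹ : SL2 F).1 = 1 := by
      rw [← Matrix.SpecialLinearGroup.coe_mul, mul_inv_cancel, Matrix.SpecialLinearGroup.coe_one]
    rw [← hAup] at h3
    calc B₀ = B₀ * (A₀ * ((up (A₀ 0 1))⁻¹ : SL2 F).1) := by rw [h3, Matrix.mul_one]
      _ = ((up (A₀ 0 1))⁻¹ : SL2 F).1 := by rw [← Matrix.mul_assoc, hBA, Matrix.one_mul]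
  -- the group `L`
  have hd : a j * φ i ≠ 0 := mul_ne_zero ha hφ
  obtain ⟨d', hd', hd'L⟩ := exists_lower (F := F) h2 (L := H.comap (psi hYX₀)) (c := c)
    (t := up (A₀ 0 1) * lo (a j * φ i) * (up (A₀ 0 1))⁻¹) (α := A₀ 0 1) (d := a j * φ i) (by
      intro A hA
      rw [mem_comap_psi] at hA ⊢
      rw [dl_std hki hkj hij]
      exact ((hE i k (Ne.symm hki)).mul hA).mul (hE i k (Ne.symm hki))) hc (by
      rw [mem_comap_psi, psf_std_up]
      exact hx) (by
      rw [mem_comap_psi, Matrix.SpecialLinearGroup.coe_mul, Matrix.SpecialLinearGroup.coe_mul, ← hBup, ← hAup]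
      have h3 : psf X₀ Y₀ (A₀ * (lo (a j * φ i)).1 * B₀) = (V⁻¹ : GL ι F).1 * (1 + Matrix.vecMulVec a φ) * V.1 := by
        rw [← psf_lo ha hφ, ← hX, ← hY, hcj, psf, psf]
        congr 1
        have h4 : A₀ * (lo (a j * φ i)).1 * B₀ - 1 = A₀ * ((lo (a j * φ i)).1 - 1) * B₀ := by
          rw [Matrix.mul_sub, Matrix.sub_mul, Matrix.mul_one, hAB]
        rw [h4, ← hXA, ← hBY]
        simp only [Matrix.mul_assoc]
      rw [h3]
      have h5 : Mm H (V⁻¹ : GL ι F).1 := ⟨V⁻¹, H.inv_mem hVH, rfl⟩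
      have h6 : Mm H V.1 := ⟨V, hVH, rfl⟩
      exact (h5.mul ht).mul h6) hd rfl
  rw [mem_comap_psi, psf_std_lo] at hd'L
  exact ⟨d', hd', hd'L⟩

end two

end Cfsg.Agent.H67.Odm
end

private theorem dce_0237e020041f : _root_.True := by
  try have : _root_.True := by simp only [_root_.Cfsg.Agent.H67.Odm.Xm.eq_1]
  try have : _root_.True := by simp only [_root_.Matrix.ProjectiveSpecialLinearGroup.congr_simp]
  try have : _root_.True := by simp only [_root_.Cfsg.Agent.H67.Odm.up.eq_1]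
  try have : _root_.True := by simp only [_root_.Cfsg.Agent.H67.Odm.Ym.eq_1]
  try have : _root_.True := by simp only [_root_.Cfsg.Agent.H67.Odm.Nm.eq_1]
  try have : _root_.True := by simp only [_root_.Cfsg.Agent.H67.Odm.psf.eq_1]
  try have : _root_.True := by simp only [_root_.Cfsg.Agent.H67.Odm.sgm.congr_simp]
  try have : _root_.True := by simp only [_root_.Cfsg.Agent.H67.Odm.sgv.congr_simp]
  try have : _root_.True := by simp only [_root_.Cfsg.Agent.H67.Odm.lo.eq_1]
  try have : _root_.True := by simp only [_root_.Cfsg.Agent.H67.Odm.ng.eq_1]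
  try have : _root_.True := by simp only [_root_.Cfsg.Agent.H67.Odm.sgm.eq_1]
  exact _root_.True.intro
end

-- part: H683/OddM/GeoLR_mg
section
prune_inst 0x304021045400000000000002100000023000040000000400040000000009802000402000120001000000000000000000000000000000000000200000000100000000000001000000020090000000000000000000000000000000000000000000000000000
set_option linter.all false
open scoped Cfsg.Agent.FastGrp

-- part: H683/OddM/Tv
section
/-!
# S4785: transvections and elements `(J_3, 1^(n-3))` of `SL_n(q)`, `q` odd (helper683)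

They are real in `PSL_n(q)`, `n ≥ 3`. Transvections do not lie in the members of the classes 2 (monomial), 3, 6, 8
(orthogonal); `(J_3, 1^(n-3))` does not lie in symplectic similarity groups.
-/

set_option autoImplicit false

namespace Cfsg.Agent.H683.OddM

open Matrix Cfsg Cfsg.Geo Cfsg.Agent.H304.PslT Cfsg.Agent.H453.OddM

variable {F : Type*} [Field F] {n : ℕ}

/-- `t` is a transvection -/
def IsTv (t : GL (Fin n) F) : Prop :=
  ∃ (a : Fin n → F) (φ : (Fin n → F) →ₗ[F] F), a ≠ 0 ∧ φ ≠ 0 ∧ φ a = 0 ∧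
    ∀ v, (t : Matrix (Fin n) (Fin n) F) *ᵥ v = v + φ v • a

/-- `x = 1 + N`, `N³ = 0`, `N²` of rank one -/
def IsJ (x : GL (Fin n) F) : Prop :=
  ∃ (N : (Fin n → F) →ₗ[F] (Fin n → F)) (u : Fin n → F) (φ : (Fin n → F) →ₗ[F] F), u ≠ 0 ∧ φ ≠ 0 ∧ N u = 0 ∧
    (∀ v, N (N v) = φ v • u) ∧ ∀ v, (x : Matrix (Fin n) (Fin n) F) *ᵥ v = v + N v

/-! ### conjugation -/

theorem conj_mulVec (h x : GL (Fin n) F) (v : Fin n → F) :
    ((h * x * h⁻¹ : GL (Fin n) F) : Matrix (Fin n) (Fin n) F) *ᵥ v =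
      (h : Matrix (Fin n) (Fin n) F) *ᵥ ((x : Matrix (Fin n) (Fin n) F) *ᵥ
        (((h⁻¹ : GL (Fin n) F) : Matrix (Fin n) (Fin n) F) *ᵥ v)) := by
  rw [Matrix.mulVec_mulVec, Matrix.mulVec_mulVec, Units.val_mul, Units.val_mul, Matrix.mul_assoc]

theorem mulVec_inv (h : GL (Fin n) F) (v : Fin n → F) :
    (h : Matrix (Fin n) (Fin n) F) *ᵥ (((h⁻¹ : GL (Fin n) F) : Matrix (Fin n) (Fin n) F) *ᵥ v) = v := by
  rw [Matrix.mulVec_mulVec, ← Units.val_mul, mul_inv_cancel, Units.val_one, Matrix.one_mulVec]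

theorem inv_mulVec (h : GL (Fin n) F) (v : Fin n → F) :
    ((h⁻¹ : GL (Fin n) F) : Matrix (Fin n) (Fin n) F) *ᵥ ((h : Matrix (Fin n) (Fin n) F) *ᵥ v) = v := by
  rw [Matrix.mulVec_mulVec, ← Units.val_mul, inv_mul_cancel, Units.val_one, Matrix.one_mulVec]

theorem IsTv.conj {t : GL (Fin n) F} (ht : IsTv t) (h : GL (Fin n) F) : IsTv (h * t * h⁻¹) := by
  obtain ⟨a, φ, ha, hφ, hφa, ht⟩ := ht
  refine ⟨(h : Matrix (Fin n) (Fin n) F) *ᵥ a,
    φ.comp (Matrix.toLin' (((h⁻¹ : GL (Fin n) F) : Matrix (Fin n) (Fin n) F))), ?_, ?_, ?_, ?_⟩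
  · intro h0
    apply ha
    rw [← inv_mulVec h a, h0, Matrix.mulVec_zero]
  · intro h0
    apply hφ
    refine LinearMap.ext fun v => ?_
    have := congrArg (fun ψ : (Fin n → F) →ₗ[F] F => ψ ((h : Matrix (Fin n) (Fin n) F) *ᵥ v)) h0
    simp only [LinearMap.comp_apply, Matrix.toLin'_apply, LinearMap.zero_apply] at this
    rwa [inv_mulVec] at this
  · rw [LinearMap.comp_apply, Matrix.toLin'_apply, inv_mulVec, hφa]
  · intro v
    rw [conj_mulVec, ht, Matrix.mulVec_add, mulVec_inv, Matrix.mulVec_smul, LinearMap.comp_apply,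
      Matrix.toLin'_apply]

theorem IsJ.conj {t : GL (Fin n) F} (ht : IsJ t) (h : GL (Fin n) F) : IsJ (h * t * h⁻¹) := by
  obtain ⟨N, u, φ, hu, hφ, hNu, hN, ht⟩ := ht
  refine ⟨(Matrix.toLin' (h : Matrix (Fin n) (Fin n) F)).comp (N.comp
      (Matrix.toLin' (((h⁻¹ : GL (Fin n) F) : Matrix (Fin n) (Fin n) F)))), (h : Matrix (Fin n) (Fin n) F) *ᵥ u,
    φ.comp (Matrix.toLin' (((h⁻¹ : GL (Fin n) F) : Matrix (Fin n) (Fin n) F))), ?_, ?_, ?_, ?_, ?_⟩
  · intro h0
    apply hu
    rw [← inv_mulVec h u, h0, Matrix.mulVec_zero]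
  · intro h0
    apply hφ
    refine LinearMap.ext fun v => ?_
    have := congrArg (fun ψ : (Fin n → F) →ₗ[F] F => ψ ((h : Matrix (Fin n) (Fin n) F) *ᵥ v)) h0
    simp only [LinearMap.comp_apply, Matrix.toLin'_apply, LinearMap.zero_apply] at this
    rwa [inv_mulVec] at this
  · simp only [LinearMap.comp_apply, Matrix.toLin'_apply]
    rw [inv_mulVec, hNu, Matrix.mulVec_zero]
  · intro v
    simp only [LinearMap.comp_apply, Matrix.toLin'_apply]
    rw [inv_mulVec, hN, Matrix.mulVec_smul]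
  · intro v
    rw [conj_mulVec, ht, Matrix.mulVec_add, mulVec_inv]
    rfl

/-! ### the classes -/

theorem bil_zero_right {f : (Fin n → F) → (Fin n → F) → F} (hb : IsBilinearForm f) (v : Fin n → F) : f v 0 = 0 := by
  have := hb.smul_right 0 v 0
  rwa [zero_smul, zero_mul] at this

theorem mult_one {f : (Fin n → F) → (Fin n → F) → F} (hb : IsBilinearForm f) (hnd : IsNondegenerateForm f)
    {c : F} {N : (Fin n → F) →ₗ[F] (Fin n → F)} (h : ∀ v w, f (v + N v) (w + N w) = c * f v w)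
    (h3 : ∀ v, N (N (N v)) = 0) {v0 : Fin n → F} (h0 : v0 ≠ 0) (hv0 : N v0 = 0) : c = 1 := by
  obtain ⟨w, hw⟩ := (hnd v0 h0).2
  have key : ∀ w, f v0 (N w) = (c - 1) * f v0 w := by
    intro w
    have h1 := h v0 w
    rw [hv0, add_zero, hb.add_right] at h1
    linear_combination h1
  have h4 : (c - 1) * ((c - 1) * ((c - 1) * f v0 w)) = 0 := by
    rw [← key, ← key, ← key, h3, bil_zero_right hb]
  have h5 : c - 1 = 0 := by
    rcases mul_eq_zero.1 h4 with h | h
    · exact h
    rcases mul_eq_zero.1 h with h | h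
    · exact h
    rcases mul_eq_zero.1 h with h | h
    · exact h
    · exact absurd h hw
  exact sub_eq_zero.1 h5

/-- class 8, quadratic forms -/
theorem IsTv.not_quad {t : GL (Fin n) F} (ht : IsTv t) (h2 : (2 : F) ≠ 0) {Q : (Fin n → F) → F}
    (hQ : IsNondegenerateQuadraticForm Q) (h : t ∈ quadSimilarityGroup Q) : False := by
  obtain ⟨a, φ, ha, hφ, hφa, ht⟩ := ht
  obtain ⟨c, hc⟩ := h
  set f := QuadraticMap.polar Q with hf
  have hb : IsBilinearForm f := hQ.polar_bilinear
  have hsym : ∀ v w, f v w = f w v := fun v w => QuadraticMap.polar_comm Q v w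
  let N : (Fin n → F) →ₗ[F] (Fin n → F) := LinearMap.smulRight φ a
  have hN : ∀ v, N v = φ v • a := fun v => LinearMap.smulRight_apply ..
  have hfc : ∀ v w, f (v + N v) (w + N w) = c * f v w := by
    intro v w
    rw [hN, hN, ← ht, ← ht, hf]
    simp only [QuadraticMap.polar]
    rw [← Matrix.mulVec_add, hc, hc, hc]
    ring
  have hNN : ∀ v, N (N v) = 0 := by
    intro v
    rw [hN (N v), hN v, map_smul, hφa, smul_zero, zero_smul]
  have hc1 : (c : F) = 1 := mult_one hb hQ.nondegenerate hfc (fun v => by rw [hNN (N v)]) ha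
    (by rw [hN, hφa, zero_smul])
  rw [hc1] at hfc
  have key : ∀ v w, φ w * f v a + φ v * f a w + φ v * φ w * f a a = 0 := by
    intro v w
    have h1 := hfc v w
    rw [hN, hN, hb.add_left, hb.add_right, hb.add_right, hb.smul_left, hb.smul_left, hb.smul_right,
      hb.smul_right] at h1
    linear_combination h1
  obtain ⟨v, hv⟩ : ∃ v, φ v ≠ 0 := by
    by_contra hcon
    push Not at hcon
    exact hφ (LinearMap.ext hcon)
  have haa : f a a = 0 := by
    have h1 := key v a
    rw [hφa] at h1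
    have h3 : φ v * f a a = 0 := by linear_combination h1
    exact (mul_eq_zero.1 h3).resolve_left hv
  obtain ⟨x, hx⟩ := (hQ.nondegenerate a ha).2
  apply hx
  change f a x = 0
  by_cases hφx : φ x = 0
  · have h1 := key v x
    rw [hφx] at h1
    have h3 : φ v * f a x = 0 := by linear_combination h1
    exact (mul_eq_zero.1 h3).resolve_left hv
  · have h1 := key x x
    rw [haa, hsym x a] at h1
    have h3 : (2 * φ x) * f a x = 0 := by linear_combination h1
    exact (mul_eq_zero.1 h3).resolve_left (mul_ne_zero h2 hφx)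

/-- class 8, symplectic forms -/
theorem IsJ.not_symp {t : GL (Fin n) F} (ht : IsJ t) {f : (Fin n → F) → (Fin n → F) → F}
    (hf : IsSymplecticForm f) (h : t ∈ similarityGroup f) : False := by
  obtain ⟨N, u, φ, hu, hφ, hNu, hN, ht⟩ := ht
  obtain ⟨c, hc⟩ := h
  have hb := hf.bilinear
  have hfc : ∀ v w, f (v + N v) (w + N w) = c * f v w := by
    intro v w
    rw [← ht, ← ht]; exact hc v w
  have h3 : ∀ v, N (N (N v)) = 0 := by
    intro v
    rw [hN v, map_smul, hNu, smul_zero]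
  have hc1 : (c : F) = 1 := mult_one hb hf.nondegenerate hfc h3 hu hNu
  rw [hc1] at hfc
  have k1 : ∀ v w, f (N (N v)) (N w) = 0 := by
    intro v w
    have h1 := hfc (N (N v)) w
    rw [h3, add_zero, hb.add_right] at h1
    linear_combination h1
  have k2 : ∀ v w, f (N (N v)) w = - f (N v) (N w) := by
    intro v w
    have h1 := hfc (N v) w
    rw [hb.add_left, hb.add_right, hb.add_right, k1] at h1
    linear_combination h1
  have k3 : ∀ v, f (N (N v)) v = 0 := by
    intro v
    have h1 := k2 v v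
    rw [hf.alternating, neg_zero] at h1
    exact h1
  have k4 : ∀ v w, φ v * f u w = - (φ w * f u v) := by
    intro v w
    have h1 := k3 (v + w)
    rw [map_add, map_add, hb.add_left, hb.add_right, hb.add_right, k3, k3, hN, hN, hb.smul_left, hb.smul_left] at h1
    linear_combination h1
  have k5 : ∀ v, φ v * f u v = 0 := by
    intro v
    have h1 := k3 v
    rwa [hN, hb.smul_left] at h1
  obtain ⟨v, hv⟩ : ∃ v, φ v ≠ 0 := by
    by_contra hcon
    push Not at hcon
    exact hφ (LinearMap.ext hcon)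
  obtain ⟨x, hx⟩ := (hf.nondegenerate u hu).2
  have h4 : f u v = 0 := (mul_eq_zero.1 (k5 v)).resolve_left hv
  have h5 := k4 v x
  rw [h4, mul_zero, neg_zero] at h5
  exact hx ((mul_eq_zero.1 h5).resolve_left hv)

/-- class 3 -/
theorem IsTv.not_ext {t : GL (Fin n) F} (ht : IsTv t) (hn : 3 ≤ n) {r : ℕ} (hr : r.Prime)
    {K : Subalgebra F (Matrix (Fin n) (Fin n) F)} (hK : IsFieldSubalgebra r K) (h : t ∈ subalgebraNormalizer K) :
    False := by
  obtain ⟨a, φ, ha, hφ, hφa, ht⟩ := ht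
  -- every nonzero element of `K` is injective
  have hinj : ∀ k ∈ K, k ≠ 0 → ∀ v, k *ᵥ v = 0 → v = 0 := by
    intro k hk hk0 v hv
    obtain ⟨y, hy, hky⟩ := hK.inv k hk hk0
    have h1 : y * k = 1 := by rw [← hK.comm k hk y hy, hky]
    calc v = (y * k) *ᵥ v := by rw [h1, Matrix.one_mulVec]
      _ = 0 := by rw [← Matrix.mulVec_mulVec, hv, Matrix.mulVec_zero]
  -- `t` commutes with `K`
  have hcomm : ∀ k ∈ K, ∀ v, φ (k *ᵥ v) • a = φ v • (k *ᵥ a) := by
    intro k hk v
    set k' : Matrix (Fin n) (Fin n) F := (t : Matrix (Fin n) (Fin n) F) * k * ((t⁻¹ : GL (Fin n) F) : Matrix (Fin n) (Fin n) F)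
      with hk'
    have hk'K : k' ∈ K := (h k).1 hk
    have e1 : ∀ v, (t : Matrix (Fin n) (Fin n) F) *ᵥ (k *ᵥ v) = k' *ᵥ ((t : Matrix (Fin n) (Fin n) F) *ᵥ v) := by
      intro v
      rw [hk', ← Matrix.mulVec_mulVec, ← Matrix.mulVec_mulVec, inv_mulVec]
    have e2 : ∀ v, (k - k') *ᵥ v = φ v • (k' *ᵥ a) - φ (k *ᵥ v) • a := by
      intro v
      have := e1 v
      rw [ht, ht, Matrix.mulVec_add, Matrix.mulVec_smul] at this
      rw [Matrix.sub_mulVec]
      linear_combination (exp := 1) this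
    have e3 : k = k' := by
      by_contra hne
      have h0 : k - k' ≠ 0 := sub_ne_zero.2 hne
      have hi := hinj (k - k') (K.sub_mem hk hk'K) h0
      have hsub : LinearMap.range (Matrix.toLin' (k - k')) ≤ Submodule.span F {k' *ᵥ a, a} := by
        rintro _ ⟨v, rfl⟩
        rw [Matrix.toLin'_apply, e2]
        exact Submodule.sub_mem _ (Submodule.smul_mem _ _ (Submodule.subset_span (by simp)))
          (Submodule.smul_mem _ _ (Submodule.subset_span (by simp)))
      have hker : LinearMap.ker (Matrix.toLin' (k - k')) = ⊥ := by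
        rw [LinearMap.ker_eq_bot']
        intro v hv
        exact hi v (by rwa [Matrix.toLin'_apply] at hv)
      have h5 := LinearMap.finrank_range_of_inj (LinearMap.ker_eq_bot.1 hker)
      have h6 := Submodule.finrank_mono hsub
      have h7 : Module.finrank F (Submodule.span F ({k' *ᵥ a, a} : Set (Fin n → F))) ≤ 2 := by
        classical
        have := finrank_span_finset_le_card (R := F) ({k' *ᵥ a, a} : Finset (Fin n → F))
        have h8 := this.trans Finset.card_le_two
        rwa [Finset.coe_insert, Finset.coe_singleton] at h8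
      rw [h5, Module.finrank_fintype_fun_eq_card, Fintype.card_fin] at h6
      omega
    have := e2 v
    rw [← e3, sub_self, Matrix.zero_mulVec] at this
    exact (sub_eq_zero.1 this.symm).symm
  obtain ⟨v, hv⟩ : ∃ v, φ v ≠ 0 := by
    by_contra hcon
    push Not at hcon
    exact hφ (LinearMap.ext hcon)
  have hsc : ∀ k ∈ K, k = ((φ v)⁻¹ * φ (k *ᵥ v)) • (1 : Matrix (Fin n) (Fin n) F) := by
    intro k hk
    by_contra hne
    have h1 : k - ((φ v)⁻¹ * φ (k *ᵥ v)) • (1 : Matrix (Fin n) (Fin n) F) ≠ 0 := sub_ne_zero.2 hne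
    apply ha
    apply hinj _ (K.sub_mem hk (K.smul_mem K.one_mem _)) h1
    rw [Matrix.sub_mulVec, Matrix.smul_mulVec, Matrix.one_mulVec, mul_smul, hcomm k hk v, smul_smul,
      inv_mul_cancel₀ hv, one_smul, sub_self]
  have h1 : Module.finrank F K ≤ 1 := by
    refine finrank_le_one (⟨1, K.one_mem⟩ : K) fun w => ⟨(φ v)⁻¹ * φ (w.1 *ᵥ v), ?_⟩
    ext1
    exact (hsc w.1 w.2).symm
  rw [hK.finrank_eq] at h1
  exact absurd hr.one_lt (by omega)

/-- class 2, monomial groups -/
theorem IsTv.not_mono {t : GL (Fin n) F} (ht : IsTv t) (h2 : (2 : F) ≠ 0) {s : ℕ}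
    {D : Fin s → Submodule F (Fin n → F)} (hD : IsMDecomposition 1 D) (h : t ∈ decompositionStabilizer D) : False := by
  obtain ⟨a, φ, ha, hφ, hφa, ht⟩ := ht
  obtain ⟨σ, hσ⟩ := h
  have hstab : ∀ i, ∀ v ∈ D i, v + φ v • a ∈ D (σ i) := by
    intro i v hv
    rw [← hσ i, ← ht]
    exact ⟨v, hv, Matrix.toLin'_apply _ _⟩
  have hdisj : ∀ i j, i ≠ j → ∀ v, v ∈ D i → v ∈ D j → v = 0 := by
    intro i j hij v hi hj
    have := hD.indep.pairwiseDisjoint hij
    exact (Submodule.disjoint_def.1 this) v hi hj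
  -- all lines are stable
  have hfix : ∀ i, σ i = i := by
    intro i
    by_contra hne
    obtain ⟨v, hv⟩ : ∃ v : D i, v ≠ 0 := by
      have h1 := hD.finrank_eq i
      have : Nontrivial (D i) := Module.nontrivial_of_finrank_pos (R := F) (by omega)
      exact exists_ne 0
    have hv0 : (v : Fin n → F) ≠ 0 := fun h => hv (Subtype.ext h)
    have h1 := hstab i v v.2
    have hφv : φ v ≠ 0 := by
      intro h0
      rw [h0, zero_smul, add_zero] at h1
      exact hv0 (hdisj i (σ i) (Ne.symm hne) _ v.2 h1)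
    set w : Fin n → F := v + φ v • a with hw
    have hφw : φ w = φ v := by rw [hw, map_add, map_smul, hφa, smul_zero, add_zero]
    have h3 := hstab (σ i) w h1
    rw [hφw] at h3
    have h4 : w + φ v • a = (2 : F) • w - (v : Fin n → F) := by
      rw [hw, two_smul]; abel
    rw [h4] at h3
    by_cases hl : σ (σ i) = i
    · rw [hl] at h3
      have h5 : (2 : F) • w ∈ D i := by
        have := (D i).add_mem h3 v.2
        rwa [sub_add_cancel] at this
      have h6 : w ∈ D i := by
        have := (D i).smul_mem (2 : F)⁻¹ h5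
        rwa [smul_smul, inv_mul_cancel₀ h2, one_smul] at this
      have h7 := hdisj i (σ i) (Ne.symm hne) _ h6 h1
      rw [h7, map_zero] at hφw
      exact hφv hφw.symm
    · have h5 : σ (σ i) ≠ σ i := fun h => hne (σ.injective h)
      have h6 : (2 : F) • w - (v : Fin n → F) ∈ ⨆ j ≠ σ (σ i), D j :=
        Submodule.sub_mem _
          (Submodule.smul_mem _ _ ((le_iSup₂_of_le (f := fun j (_ : j ≠ σ (σ i)) => D j) (σ i) (Ne.symm h5) le_rfl) h1))
          ((le_iSup₂_of_le (f := fun j (_ : j ≠ σ (σ i)) => D j) i (Ne.symm hl) le_rfl) v.2)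
      have h7 := (Submodule.disjoint_def.1 (hD.indep (σ (σ i)))) _ h3 h6
      have h8 : (v : Fin n → F) = (2 : F) • w := (sub_eq_zero.1 h7).symm
      have h9 : (v : Fin n → F) ∈ D (σ i) := by rw [h8]; exact (D (σ i)).smul_mem _ h1
      exact hv0 (hdisj i (σ i) (Ne.symm hne) _ v.2 h9)
  apply hφ
  have hall : ∀ i, ∀ v ∈ D i, φ v = 0 := by
    intro i v hv
    by_contra hφv
    have h1 := hstab i v hv
    rw [hfix i] at h1
    have h3 : a ∈ D i := by
      have := (D i).smul_mem (φ v)⁻¹ ((D i).sub_mem h1 hv)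
      rwa [add_sub_cancel_left, smul_smul, inv_mul_cancel₀ hφv, one_smul] at this
    obtain ⟨w, hw⟩ := finrank_eq_one_iff'.1 (hD.finrank_eq i)
    obtain ⟨c, hc⟩ := hw.2 ⟨a, h3⟩
    obtain ⟨d, hd⟩ := hw.2 ⟨v, hv⟩
    have hc' : c • (w : Fin n → F) = a := congrArg Subtype.val hc
    have hd' : d • (w : Fin n → F) = v := congrArg Subtype.val hd
    have hc0 : c ≠ 0 := by
      rintro rfl
      rw [zero_smul] at hc'
      exact ha hc'.symm
    apply hφv
    have h4 : φ (w : Fin n → F) = 0 := by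
      have h5 := hφa
      rw [← hc', map_smul, smul_eq_mul] at h5
      exact (mul_eq_zero.1 h5).resolve_left hc0
    rw [← hd', map_smul, h4, smul_zero]
  have hker : iSup D ≤ LinearMap.ker φ := iSup_le fun i v hv => LinearMap.mem_ker.2 (hall i v hv)
  rw [hD.iSup_eq_top] at hker
  exact LinearMap.ext fun v => LinearMap.mem_ker.1 (hker (Submodule.mem_top : v ∈ ⊤))

end Cfsg.Agent.H683.OddM
end

-- part: H683/OddM/Real3
section
/-!
# S4785: transvections and elements `(J_3, 1^(n-3))` are real in `PSL_n(q)`, `n ≥ 3`, `q` odd (helper683)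
-/

set_option autoImplicit false

namespace Cfsg.Agent.H683.OddM

open Matrix Cfsg Cfsg.Geo Cfsg.Agent.H304.PslT Cfsg.Agent.H453.OddM

variable {F : Type*} [Field F] {n : ℕ}

theorem isTv_of {t : GL (Fin n) F} (ht : H262.El.IsTv t) : IsTv t := by
  obtain ⟨u, w, hu, hw, huw, h⟩ := ht
  refine ⟨u, H262.El.dp w, hu, ?_, huw, fun v => H918.IsRankOneElt.mulVec h v⟩
  intro h0
  apply hw
  funext i
  have := congrArg (fun f : (Fin n → F) →ₗ[F] F => f (Pi.single i 1)) h0
  simpa only [_root_.Pi.zero_apply, _root_.Cfsg.Agent.H262.El.dp_apply, _root_.dotProduct_single, _root_.mul_one, _root_.LinearMap.zero_apply] using this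

/-- the diagonal involution -/
def dg (i k : Fin n) : Matrix (Fin n) (Fin n) F := Matrix.diagonal fun l => if l = i ∨ l = k then -1 else 1

theorem det_dg {i k : Fin n} (h : i ≠ k) : (dg i k : Matrix (Fin n) (Fin n) F).det = 1 := by
  classical
  rw [dg, Matrix.det_diagonal, Finset.prod_ite]
  have h1 : (Finset.univ.filter fun l => l = i ∨ l = k) = {i, k} := by
    ext l; simp only [_root_.Finset.mem_filter, _root_.Finset.mem_univ, _root_.true_and, _root_.Finset.mem_insert, _root_.Finset.mem_singleton]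
  rw [h1]
  simp only [h, _root_.Finset.prod_const, _root_.Finset.mem_singleton, _root_.not_false_eq_true, _root_.Finset.card_insert_of_notMem, _root_.Finset.card_singleton, _root_.Nat.reduceAdd, _root_.even_two, _root_.Even.neg_pow, _root_.one_pow, _root_.not_or, _root_.Finset.prod_const_one, _root_.mul_one]

theorem dg_mul_self (i k : Fin n) : (dg i k : Matrix (Fin n) (Fin n) F) * dg i k = 1 := by
  rw [dg, Matrix.diagonal_mul_diagonal, ← Matrix.diagonal_one]
  congr 1
  funext l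
  split_ifs <;> simp

/-- a diagonal involution inverting `X` makes it real -/
theorem isReal_sl {t d : Matrix.SpecialLinearGroup (Fin n) F} (hdd : d * d = 1)
    (h : (d : Matrix (Fin n) (Fin n) F) * (t : Matrix (Fin n) (Fin n) F) * (d : Matrix (Fin n) (Fin n) F) *
      (t : Matrix (Fin n) (Fin n) F) = 1) : IsReal t := by
  refine ⟨d, ?_⟩
  have h1 : d * t * d * t = 1 := Subtype.ext h
  rw [eq_inv_iff_mul_eq_one, ← eq_inv_of_mul_eq_one_left hdd]
  exact h1

/-- real transvections -/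
theorem exists_tv (hn : 3 ≤ n) : ∃ t : Matrix.SpecialLinearGroup (Fin n) F,
    IsReal t ∧ H262.El.IsTv (Matrix.SpecialLinearGroup.toGL t) := by
  classical
  let i0 : Fin n := ⟨0, by omega⟩
  let i1 : Fin n := ⟨1, by omega⟩
  let i2 : Fin n := ⟨2, by omega⟩
  have h01 : i0 ≠ i1 := by simp [i0, i1]
  have h02 : i0 ≠ i2 := by simp [i0, i2]
  have h12 : i1 ≠ i2 := by simp [i1, i2]
  let t : Matrix.SpecialLinearGroup (Fin n) F := ⟨Matrix.transvection i0 i1 1, Matrix.det_transvection_of_ne i0 i1 h01 1⟩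
  let d : Matrix.SpecialLinearGroup (Fin n) F := ⟨dg i0 i2, det_dg h02⟩
  have hdd : d * d = 1 := Subtype.ext (dg_mul_self i0 i2)
  have h1 : (dg i0 i2 : Matrix (Fin n) (Fin n) F) * Matrix.transvection i0 i1 (1 : F) * (dg i0 i2 : Matrix (Fin n) (Fin n) F) =
      Matrix.transvection i0 i1 (-1 : F) := by
    rw [Matrix.transvection, Matrix.transvection, mul_add, add_mul, mul_one, dg_mul_self]
    congr 1
    ext a b
    rw [dg, Matrix.mul_diagonal, Matrix.diagonal_mul, Matrix.single_apply, Matrix.single_apply]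
    by_cases h : i0 = a ∧ i1 = b
    · obtain ⟨rfl, rfl⟩ := h
      simp [h01.symm, h12]
    · simp [h]
  have h2 : (dg i0 i2 : Matrix (Fin n) (Fin n) F) * Matrix.transvection i0 i1 (1 : F) * (dg i0 i2 : Matrix (Fin n) (Fin n) F) *
      Matrix.transvection i0 i1 (1 : F) = 1 := by
    rw [h1, Matrix.transvection_mul_transvection_same _ _ h01, neg_add_cancel, Matrix.transvection_zero]
  refine ⟨t, isReal_sl hdd h2, Pi.single i0 1, Pi.single i1 1, ?_, ?_, ?_, ?_⟩
  · exact fun h => one_ne_zero (by simpa using congrFun h i0 : (1 : F) = 0)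
  · exact fun h => one_ne_zero (by simpa using congrFun h i1 : (1 : F) = 0)
  · simp only [h01.symm, _root_.dotProduct_single, _root_.ne_eq, _root_.not_false_eq_true, _root_.Pi.single_eq_of_ne', _root_.mul_one]
  · change Matrix.transvection i0 i1 1 = _
    rw [Matrix.transvection]
    congr 1
    ext a b
    rw [Matrix.single_apply, Matrix.vecMulVec_apply, Pi.single_apply, Pi.single_apply]
    by_cases h1 : a = i0
    · by_cases h2 : b = i1
      · simp [h1, h2]
      · simp [h2, Ne.symm h2]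
    · simp [h1, Ne.symm h1]

/-- real elements of type `(J_3, 1^(n-3))` -/
theorem exists_j (hn : 3 ≤ n) (h2 : (2 : F) ≠ 0) : ∃ t : Matrix.SpecialLinearGroup (Fin n) F,
    IsReal t ∧ IsJ (Matrix.SpecialLinearGroup.toGL t) := by
  classical
  let i0 : Fin n := ⟨0, by omega⟩
  let i1 : Fin n := ⟨1, by omega⟩
  let i2 : Fin n := ⟨2, by omega⟩
  have h01 : i0 ≠ i1 := by simp [i0, i1]
  have h02 : i0 ≠ i2 := by simp [i0, i2]
  have h12 : i1 ≠ i2 := by simp [i1, i2]
  let N : Matrix (Fin n) (Fin n) F := Matrix.single i0 i1 1 + Matrix.single i1 i2 1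
  have hN2 : N * N = Matrix.single i0 i2 1 := by
    simp only [N, mul_add, add_mul]
    rw [Matrix.single_mul_single_of_ne _ _ _ _ h01.symm, Matrix.single_mul_single_same,
      Matrix.single_mul_single_of_ne _ _ _ _ h02.symm, Matrix.single_mul_single_of_ne _ _ _ _ h12.symm]
    simp
  have hN3 : N * N * N = 0 := by
    rw [hN2]
    simp only [N, mul_add]
    rw [Matrix.single_mul_single_of_ne _ _ _ _ h02.symm, Matrix.single_mul_single_of_ne _ _ _ _ h12.symm, add_zero]
  let X : Matrix (Fin n) (Fin n) F := 1 + N + (2⁻¹ : F) • (N * N)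
  let Y : Matrix (Fin n) (Fin n) F := 1 - N + (2⁻¹ : F) • (N * N)
  have hYX : Y * X = 1 := by
    have e1 : N * (N * N) = 0 := by rw [← mul_assoc, hN3]
    have e2 : N * N * (N * N) = 0 := by rw [← mul_assoc, hN3, zero_mul]
    have e3 : (2⁻¹ : F) • (N * N) + (2⁻¹ : F) • (N * N) = N * N := by
      rw [← add_smul, ← two_mul, mul_inv_cancel₀ h2, one_smul]
    simp only [X, Y, mul_add, add_mul, sub_mul, one_mul, mul_one, Matrix.smul_mul, Matrix.mul_smul, e1, e2, hN3,
      smul_zero, add_zero, sub_zero]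
    rw [← sub_eq_zero]
    have : (1 : Matrix (Fin n) (Fin n) F) - N + (2⁻¹ : F) • (N * N) + (N - N * N) + (2⁻¹ : F) • (N * N) - 1 =
      ((2⁻¹ : F) • (N * N) + (2⁻¹ : F) • (N * N)) - N * N := by abel
    first
      | rw [this, e3, sub_self]
      | (have h5 := e3; rw [← sub_eq_zero] at h5; rw [← h5]; abel)
  have hX : X = Matrix.transvection i0 i1 1 * Matrix.transvection i1 i2 1 * Matrix.transvection i0 i2 (-(2⁻¹ : F)) := by
    have e3 : (Matrix.single i0 i2 1 : Matrix (Fin n) (Fin n) F) + Matrix.single i0 i2 (-(2⁻¹ : F)) =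
        (2⁻¹ : F) • (Matrix.single i0 i2 1) := by
      rw [← Matrix.single_add, Matrix.smul_single]
      congr 1
      rw [smul_eq_mul, mul_one]
      field_simp
      ring
    simp only [X, Matrix.transvection, mul_add, add_mul, one_mul, mul_one, hN2]
    rw [Matrix.single_mul_single_same, Matrix.single_mul_single_of_ne _ _ _ _ h01.symm,
      Matrix.single_mul_single_of_ne _ _ _ _ h02.symm, Matrix.single_mul_single_of_ne _ _ _ _ h02.symm, ← e3]
    simp only [N, mul_one, add_zero]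
    abel
  have hdet : X.det = 1 := by
    rw [hX, Matrix.det_mul, Matrix.det_mul, Matrix.det_transvection_of_ne _ _ h01, Matrix.det_transvection_of_ne _ _ h12,
      Matrix.det_transvection_of_ne _ _ h02]
    simp
  let t : Matrix.SpecialLinearGroup (Fin n) F := ⟨X, hdet⟩
  let d : Matrix.SpecialLinearGroup (Fin n) F := ⟨dg i0 i2, det_dg h02⟩
  have hdd : d * d = 1 := Subtype.ext (dg_mul_self i0 i2)
  have hdN : (dg i0 i2 : Matrix (Fin n) (Fin n) F) * N * dg i0 i2 = -N := by
    ext a b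
    simp only [N]
    rw [dg, Matrix.mul_diagonal, Matrix.diagonal_mul, Matrix.neg_apply, Matrix.add_apply, Matrix.single_apply,
      Matrix.single_apply]
    by_cases h : i0 = a ∧ i1 = b
    · obtain ⟨rfl, rfl⟩ := h
      simp [h01.symm, h12]
    · by_cases h' : i1 = a ∧ i2 = b
      · obtain ⟨rfl, rfl⟩ := h'
        simp [h01.symm, h12, h02.symm]
      · simp [h, h']
  have hdX : (dg i0 i2 : Matrix (Fin n) (Fin n) F) * X * dg i0 i2 = Y := by
    have e1 : (dg i0 i2 : Matrix (Fin n) (Fin n) F) * (N * N) * dg i0 i2 = N * N := by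
      calc (dg i0 i2 : Matrix (Fin n) (Fin n) F) * (N * N) * dg i0 i2
          = (dg i0 i2 * N * dg i0 i2) * (dg i0 i2 * N * dg i0 i2) := by
            simp only [mul_assoc]
            rw [← mul_assoc (dg i0 i2) (dg i0 i2), dg_mul_self, one_mul]
        _ = N * N := by rw [hdN, neg_mul_neg]
    simp only [X, Y, mul_add, add_mul, mul_one, dg_mul_self, hdN, Matrix.mul_smul, Matrix.smul_mul, e1]
    abel
  have hrl : (dg i0 i2 : Matrix (Fin n) (Fin n) F) * X * (dg i0 i2 : Matrix (Fin n) (Fin n) F) * X = 1 := by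
    rw [hdX, hYX]
  refine ⟨t, isReal_sl hdd hrl, Matrix.toLin' (N + (2⁻¹ : F) • (N * N)), Pi.single i0 1, LinearMap.proj i2,
    ?_, ?_, ?_, ?_, ?_⟩
  · exact fun h => one_ne_zero (by simpa using congrFun h i0 : (1 : F) = 0)
  · intro h
    have := congrArg (fun f : (Fin n → F) →ₗ[F] F => f (Pi.single i2 1)) h
    simp at this
  · rw [Matrix.toLin'_apply, hN2]
    simp only [N, Matrix.add_mulVec, Matrix.smul_mulVec]
    rw [Matrix.mulVec_single_one, Matrix.mulVec_single_one, Matrix.mulVec_single_one]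
    ext a
    simp [Matrix.single_apply, h01.symm, h12.symm, h02.symm]
  · intro v
    rw [← LinearMap.comp_apply, ← Matrix.toLin'_mul, Matrix.toLin'_apply, LinearMap.proj_apply]
    have e1 : N * (N * N) = 0 := by rw [← mul_assoc, hN3]
    have e2 : N * N * (N * N) = 0 := by rw [← mul_assoc, hN3, zero_mul]
    have e4 : (N + (2⁻¹ : F) • (N * N)) * (N + (2⁻¹ : F) • (N * N)) = Matrix.single i0 i2 1 := by
      simp only [mul_add, add_mul, Matrix.smul_mul, Matrix.mul_smul, e1, e2, hN3, smul_zero, add_zero]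
      exact hN2
    rw [e4]
    ext a
    by_cases h : a = i0
    · subst h
      simp only [Matrix.mulVec, dotProduct, Matrix.single_apply, _root_.true_and, _root_.ite_mul, _root_.one_mul, _root_.MulZeroClass.zero_mul, _root_.Finset.sum_ite_eq, _root_.Finset.mem_univ, ↓ _root_.reduceIte, _root_.Pi.smul_apply, _root_.Pi.single_eq_same, _root_.smul_eq_mul, _root_.mul_one]
    · simp [Matrix.mulVec, dotProduct, Matrix.single_apply, h, Ne.symm h]
  · intro v
    rw [Matrix.toLin'_apply]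
    change X *ᵥ v = _
    simp only [X]
    rw [add_assoc, Matrix.add_mulVec, Matrix.one_mulVec]

/-- real classes of `SL_n` are met by `pre M` -/
theorem exists_mem_pre {M : Subgroup (Matrix.ProjectiveSpecialLinearGroup (Fin n) F)} (hc : Cov _ M)
    {t : Matrix.SpecialLinearGroup (Fin n) F} (ht : IsReal t) :
    ∃ h : GL (Fin n) F, h * Matrix.SpecialLinearGroup.toGL t * h⁻¹ ∈ pre M := by
  obtain ⟨g, hg⟩ := hc.2 _ (ht.map (pr n F))
  obtain ⟨h, rfl⟩ := QuotientGroup.mk'_surjective _ g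
  refine ⟨Matrix.SpecialLinearGroup.toGL h, h * t * h⁻¹, ?_, by simp only [_root_.map_mul, _root_.map_inv]⟩
  change pr n F (h * t * h⁻¹) ∈ M
  rw [map_mul, map_mul, map_inv]
  exact hg

end Cfsg.Agent.H683.OddM
end

-- part: H683/OddM/GeoL
section
/-!
# S4785, GEO-L: the geometric maximal subgroups of `PSL_n(q)`, `n ≥ 3`, `q` odd, which meet all real classes (helper683)

`geo_psl` : `M` maximal in `PSL_n(q)`, `Cov _ M`, and the primes `Ppd q e u`, `e` even, are real: then `pre M` is in the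
residual class, or `n` is odd and `M` stabilises a line or a hyperplane.
-/

set_option autoImplicit false

namespace Cfsg.Agent.H683.OddM

open Matrix Cfsg Cfsg.Geo Cfsg.Agent.H728.DghpNum Cfsg.Agent.H304.Ppd Cfsg.Agent.H304.PslT
  Cfsg.Agent.H251.GeoCard Cfsg.Agent.H304.GeoL Cfsg.Agent.H453.OddM

variable {F : Type*} [Field F] [Fintype F] {n : ℕ}

/-- the data extracted from `Cov` -/
structure Dat (M : Subgroup (Matrix.ProjectiveSpecialLinearGroup (Fin n) F)) : Prop where
  hn : 3 ≤ n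
  odd : Odd (Fintype.card F)
  ppd : ∀ e u, Ppd (Fintype.card F) e u → Even e → 2 ≤ e → e ≤ n → u ∣ Nat.card M
  tv : ∃ t ∈ pre M, H262.El.IsTv t
  jj : ∃ t ∈ pre M, IsJ t

theorem Dat.two_ne {M : Subgroup (Matrix.ProjectiveSpecialLinearGroup (Fin n) F)} (h : Dat M) : (2 : F) ≠ 0 := by
  obtain ⟨p, hp⟩ := CharP.exists F
  have hpp : p.Prime := CharP.char_is_prime F p
  obtain ⟨k, -, hk⟩ := FiniteField.card F p
  have hp2 : p ≠ 2 := by
    rintro rfl
    have h1 := h.odd
    rw [hk] at h1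
    exact absurd h1 (Nat.not_odd_iff_even.2 (Nat.even_pow.2 ⟨even_two, k.ne_zero⟩))
  intro h2
  have h3 : ((2 : ℕ) : F) = 0 := by exact_mod_cast h2
  rw [CharP.cast_eq_zero_iff F p] at h3
  exact hp2 ((Nat.prime_dvd_prime_iff_eq hpp Nat.prime_two).1 h3)

theorem Dat.three_le {M : Subgroup (Matrix.ProjectiveSpecialLinearGroup (Fin n) F)} (h : Dat M) : 3 ≤ Fintype.card F := by
  have h1 : 1 < Fintype.card F := Fintype.one_lt_card
  obtain ⟨c, hc⟩ := h.odd
  omega

/-- elements of real prime order -/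
theorem Dat.elt {M : Subgroup (Matrix.ProjectiveSpecialLinearGroup (Fin n) F)} (h : Dat M) {e u : ℕ}
    (hP : Ppd (Fintype.card F) e u) (he : Even e) (he2 : 2 ≤ e) (hen : e ≤ n) :
    ∃ x ∈ pre M, orderOf x = u := by
  obtain ⟨x, h1, h2⟩ := exists_of_dvd hP.prime (h.ppd e u hP he he2 hen)
  exact ⟨x, h2, h1⟩

theorem Dat.dvd {M : Subgroup (Matrix.ProjectiveSpecialLinearGroup (Fin n) F)} (h : Dat M) {e u : ℕ}
    (hP : Ppd (Fintype.card F) e u) (he : Even e) (he2 : 2 ≤ e) (hen : e ≤ n) {X : Subgroup (GL (Fin n) F)}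
    (hX : pre M ≤ X) : u ∣ Nat.card X := by
  obtain ⟨x, hx, hxu⟩ := h.elt hP he he2 hen
  rw [← hxu, ← Subgroup.orderOf_mk x (hX hx)]
  exact _root_.orderOf_dvd_natCard _

/-- the largest even exponent -/
theorem exists_even (hn : 3 ≤ n) : ∃ e, Even e ∧ 2 ≤ e ∧ e ≤ n ∧ n ≤ e + 1 ∧ (4 ≤ n → 4 ≤ e) ∧ (Even n → e = n) := by
  rcases Nat.even_or_odd n with h | h
  · exact ⟨n, h, by omega, le_rfl, by omega, fun h => h, fun _ => rfl⟩
  · obtain ⟨c, hc⟩ := h
    exact ⟨n - 1, ⟨c, by omega⟩, by omega, by omega, by omega, fun h4 => by omega, fun ⟨d, hd⟩ => by omega⟩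

theorem Dat.good {M : Subgroup (Matrix.ProjectiveSpecialLinearGroup (Fin n) F)} (h : Dat M) (h4 : 4 ≤ n) :
    ∃ e u : ℕ, Ppd (Fintype.card F) e u ∧ Even e ∧ 2 ≤ e ∧ e ≤ n ∧ n ≤ e + 1 ∧ e < u ∧ (Even n → e = n) := by
  obtain ⟨e, h1, h2, h3, h4', h5, h6⟩ := exists_even h.hn
  have h7 := h5 h4
  have h8 := h.three_le
  obtain ⟨u, hu⟩ := exists_ppd (q := Fintype.card F) (e := e) (by omega) (by omega) (by omega)
  exact ⟨e, u, hu, h1, h2, h3, h4', hu.lt, h6⟩

variable {M : Subgroup (Matrix.ProjectiveSpecialLinearGroup (Fin n) F)}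

theorem Dat.class2 (h : Dat M) {t m : ℕ} {D : Fin t → Submodule F (Fin n → F)} (htm : t * m = n)
    (hD : IsMDecomposition m D) (hM : pre M ≤ decompositionStabilizer D) : False := by
  by_cases hm1 : m = 1
  · subst hm1
    obtain ⟨x, hx, hxt⟩ := h.tv
    exact (isTv_of hxt).not_mono h.two_ne hD (hM hx)
  have ht := hD.two_le
  have hm := hD.pos
  have h4 : 2 * 2 ≤ n := by rw [← htm]; exact Nat.mul_le_mul ht (show 2 ≤ m by omega)
  obtain ⟨e, u, hP, h1, h2, h3, h5, h6, -⟩ := h.good (by omega)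
  have hd := h.dvd hP h1 h2 h3 hM
  have hF : ¬ u ∣ Nat.card F := by rw [Nat.card_eq_fintype_card]; exact hP.ndvd
  rcases decomp hD hP.prime hF hd with h7 | h7
  · have : t * 2 ≤ n := by rw [← htm]; exact Nat.mul_le_mul_left t (by omega)
    omega
  · rw [Nat.card_eq_fintype_card] at h7
    have h8 := dvd_iff' hP h7
    have : 2 * m ≤ n := by rw [← htm]; exact Nat.mul_le_mul_right m ht
    omega

theorem Dat.class4 (h : Dat M) {n₁ n₂ : ℕ} {e : Fin n ≃ Fin n₁ × Fin n₂} {P : GL (Fin n) F} (h1 : 2 ≤ n₁)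
    (h12 : n₁ < n₂) (hnn : n₁ * n₂ = n) (hM : pre M ≤ tensorProductSubgroup n₁ n₂ e P) : False := by
  have h4 : 2 * 2 ≤ n := by rw [← hnn]; exact Nat.mul_le_mul h1 (show 2 ≤ n₂ by omega)
  obtain ⟨e, u, hP, k1, k2, k3, k5, k6, -⟩ := h.good (by omega)
  have hd := h.dvd hP k1 k2 k3 hM
  have hF : ¬ u ∣ Nat.card F := by rw [Nat.card_eq_fintype_card]; exact hP.ndvd
  have h6 := tensor _ _ hP.prime hF hd
  rw [Nat.card_eq_fintype_card] at h6
  have h7 := dvd_iff' hP h6
  rw [max_eq_right h12.le] at h7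
  have : 2 * n₂ ≤ n := by rw [← hnn]; exact Nat.mul_le_mul_right n₂ h1
  omega

theorem Dat.class7 (h : Dat M) {m t : ℕ} {e : Fin n ≃ (Fin t → Fin m)} {P : GL (Fin n) F} (hm : 3 ≤ m)
    (ht : 2 ≤ t) (hmt : m ^ t = n) (hM : pre M ≤ tensorWreathSubgroup m t e P) : False := by
  have h8 : m ^ 2 ≤ m ^ t := Nat.pow_le_pow_right (by omega) ht
  have h9 : 3 * m ≤ m ^ 2 := by rw [pow_two]; exact Nat.mul_le_mul_right m hm
  obtain ⟨e, u, hP, k1, k2, k3, k5, k6, -⟩ := h.good (by omega)
  have hd := h.dvd hP k1 k2 k3 hM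
  have hF : ¬ u ∣ Nat.card F := by rw [Nat.card_eq_fintype_card]; exact hP.ndvd
  rcases wreath _ _ hP.prime hF hd with h6 | h6
  · have : t < m ^ t := Nat.lt_pow_self (by omega)
    omega
  · rw [Nat.card_eq_fintype_card] at h6
    have h7 := dvd_iff' hP h6
    omega

theorem Dat.class3 (h : Dat M) {r : ℕ} {K : Subalgebra F (Matrix (Fin n) (Fin n) F)} (hr : r.Prime)
    (hK : IsFieldSubalgebra r K) (hM : pre M ≤ subalgebraNormalizer K) : False := by
  obtain ⟨x, hx, hxt⟩ := h.tv
  exact (isTv_of hxt).not_ext h.hn hr hK (hM hx)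

theorem Dat.class5 (h : Dat M) {F₀ : Subfield F} {r : ℕ} {P : GL (Fin n) F} (hr : r.Prime)
    (hF₀ : Fintype.card F = Nat.card F₀ ^ r) (hM : pre M ≤ subfieldSubgroup F₀ P) : False := by
  have hq0 : 3 ≤ Nat.card F₀ := by
    have h1 : 1 < Nat.card F₀ := Finite.one_lt_card
    have h2 := h.odd
    rw [hF₀] at h2
    have h3 : Odd (Nat.card F₀) := by
      rcases Nat.even_or_odd (Nat.card F₀) with h4 | h4
      · exact absurd h2 (Nat.not_odd_iff_even.2 (Nat.even_pow.2 ⟨h4, hr.ne_zero⟩))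
      · exact h4
    obtain ⟨c, hc⟩ := h3
    omega
  have hr2 := hr.two_le
  obtain ⟨e, h1, h2, h3, h4, -, -⟩ := exists_even h.hn
  have hn := h.hn
  have hre : 2 * e ≤ r * e := Nat.mul_le_mul_right e hr2
  obtain ⟨u, hu⟩ := exists_ppd (q := Nat.card F₀) (e := r * e) (by omega) (by omega) (by omega)
  have hP : Ppd (Fintype.card F) e u := by
    have := hu.pow r hr.ne_zero
    rw [← hF₀, Nat.gcd_comm, Nat.gcd_mul_right_right, Nat.mul_div_cancel_left _ hr.pos] at this
    exact this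
  have hd := h.dvd hP h1 h2 h3 hM
  have hF : ¬ u ∣ Nat.card F := by rw [Nat.card_eq_fintype_card]; exact hP.ndvd
  rcases subfield hP.prime hF hd with h6 | h6
  · rw [Nat.card_eq_fintype_card] at h6
    have := (hP.dvd_iff 1).mp (by rwa [pow_one])
    exact absurd (Nat.le_of_dvd one_pos this) (by omega)
  · have h7 := dvd_iff' hu h6
    rw [Fintype.card_fin] at h7
    omega

/-- an abelian-by-scalars absolutely irreducible group, `n ≥ 4` -/
theorem Dat.class6_four (h : Dat M) (h4 : 4 ≤ n) {r k : ℕ} {R : Subgroup (GL (Fin n) F)}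
    (hR : IsLinearSymplecticTypeData r R) (ht : H920.IsType r k R) (hM : pre M ≤ subgroupNormalizer R) : False := by
  obtain ⟨x, hx, hxt⟩ := h.tv
  refine hxt.not_mem_subgroupNormalizer (by rwa [Fintype.card_fin]) hR.absIrred ?_ (hM hx)
  intro a ha b hb
  have h1 := H920.comm_of_type hR.symplecticType hR.absIrred ht a ha b hb
  obtain ⟨c, hc⟩ := (mem_scalars_iff _).1 h1
  refine ⟨(c : F), ?_⟩
  have h2 : a * b = (a * b * a⁻¹ * b⁻¹) * (b * a) := by group
  have h3 := congrArg Units.val h2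
  rw [Units.val_mul, Units.val_mul (a * b * a⁻¹ * b⁻¹), Units.val_mul b a] at h3
  rw [h3, hc, Matrix.smul_mul, Matrix.one_mul]

theorem Dat.class6 (h : Dat M) {r k p e : ℕ} {R : Subgroup (GL (Fin n) F)} (hR : IsLinearSymplecticTypeData r R)
    (hr : r.Prime) (hro : Odd r) (hk : 1 ≤ k) (hnk : n = r ^ k) (hrp : r ≠ p) (hmin : IsMinimalFieldFor r p e F)
    (hZ : Nat.card (Subgroup.center R) = r) (hc : Nat.card R = r ^ (1 + 2 * k))
    (hM : pre M ≤ subgroupNormalizer R) : False := by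
  by_cases h4 : 4 ≤ n
  · exact h.class6_four h4 hR (Or.inl ⟨hro, hZ, hc⟩) hM
  have hn := h.hn
  have hn3 : n = 3 := by omega
  have hr3 : r = 3 := by
    have h1 : r ∣ 3 := by
      rw [← hn3, hnk]
      exact dvd_pow_self r (by omega)
    exact (Nat.prime_dvd_prime_iff_eq hr Nat.prime_three).1 h1
  obtain ⟨hp, hcp, hcard, -, -⟩ := hmin
  haveI := Fact.mk hp
  haveI := hcp
  haveI : Nonempty (Fin n) := ⟨⟨0, by omega⟩⟩
  obtain ⟨x, hx, hxt⟩ := h.tv
  have hx1 : x ≠ 1 := by
    rintro rfl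
    obtain ⟨a, w, ha, hw, haw, h1⟩ := hxt
    rw [Units.val_one, left_eq_add] at h1
    obtain ⟨i, hi⟩ := Function.ne_iff.1 ha
    obtain ⟨j, hj⟩ := Function.ne_iff.1 hw
    have := congrFun (congrFun h1 i) j
    rw [Matrix.vecMulVec_apply, Matrix.zero_apply] at this
    rcases mul_eq_zero.1 this with h2 | h2
    · exact hi h2
    · exact hj h2
  have hxp : orderOf x = p := orderOf_eq_prime hxt.pow_char hx1
  have hd : p ∣ Nat.card (subgroupNormalizer R) := by
    rw [← hxp, ← Subgroup.orderOf_mk x (hM hx)]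
    exact _root_.orderOf_dvd_natCard _
  have hp2 : p ≠ 2 := by
    rintro rfl
    exact h.two_ne (by exact_mod_cast CharP.cast_eq_zero F 2)
  rcases symplecticType hR.symplecticType hR.absIrred (Or.inl ⟨hro, hZ, hc⟩) hk hp hd with h1 | h1 | h1
  · exact hrp h1.symm
  · rw [Nat.card_eq_fintype_card, hcard] at h1
    have he0 : e ≠ 0 := by
      rintro rfl
      have h5 := h.three_le
      rw [hcard, pow_zero] at h5
      omega
    have h3 : p ∣ p ^ e := dvd_pow_self p he0
    have h5 : p ∣ 1 := by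
      have h6 := Nat.dvd_sub h3 h1
      rwa [Nat.sub_sub_self (Nat.one_le_pow _ _ hp.pos)] at h6
    exact hp.one_lt.ne' (Nat.dvd_one.1 h5)
  · rw [← hnk, hn3] at h1
    have h5 := hp.two_le
    have h6 : p = 4 := by omega
    rw [h6] at hp
    exact absurd hp (by norm_num)

theorem Dat.class8_symp (h : Dat M) {f : (Fin n → F) → (Fin n → F) → F} (hf : IsSymplecticForm f)
    (hM : pre M ≤ similarityGroup f) : False := by
  obtain ⟨x, hx, hxj⟩ := h.jj
  exact hxj.not_symp hf (hM hx)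

theorem Dat.class8_quad (h : Dat M) {Q : (Fin n → F) → F} (hQ : IsNondegenerateQuadraticForm Q)
    (hM : pre M ≤ quadSimilarityGroup Q) : False := by
  obtain ⟨x, hx, hxt⟩ := h.tv
  exact (isTv_of hxt).not_quad h.two_ne hQ (hM hx)

theorem Dat.class8_unit (h : Dat M) {σ : F ≃+* F} {f : (Fin n → F) → (Fin n → F) → F} (hf : IsUnitaryForm σ f)
    (hM : pre M ≤ similarityGroup f) : False := by
  have hn := h.hn
  haveI : Nonempty (Fin n) := ⟨⟨0, by omega⟩⟩
  obtain ⟨p, k, hp, hpF, hF, hσ⟩ := exists_frobenius hf.ne_refl hf.involutive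
  haveI : Fact p.Prime := ⟨hp⟩
  obtain ⟨e, heo, he2, hen, hne, -, -⟩ := exists_even hn
  have hq0 : 3 ≤ p ^ k := by
    have h1 : 1 < Fintype.card F := Fintype.one_lt_card
    have h2 := h.odd
    have hk0 : k ≠ 0 := by
      rintro rfl
      rw [hF] at h1; norm_num at h1
    have h3 : p ^ k ≠ 2 := by
      intro h4
      rw [hF, h4] at h2
      exact absurd h2 (by decide)
    have h5 : 2 ≤ p ^ k := hp.two_le.trans (Nat.le_self_pow hk0 p)
    omega
  obtain ⟨u, hP⟩ := exists_ppd (q := p ^ k) (e := 2 * e) (by omega) (by omega) (by omega)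
  have hPq : Ppd (Fintype.card F) e u := by
    rw [hF]
    have := hP.pow 2 two_ne_zero
    rwa [Nat.gcd_comm, Nat.gcd_mul_right_right, Nat.mul_div_cancel_left _ (by norm_num)] at this
  obtain ⟨x, hx, hxu⟩ := h.elt hPq heo he2 hen
  have h1 := odd_of_unitary hF hP he2 (by rw [Fintype.card_fin]; omega) hxu hσ hf (hM hx)
  exact (Nat.not_even_iff_odd.mpr h1) heo

theorem Dat.class1 (h : Dat M) {W : Submodule F (Fin n → F)} (hW0 : W ≠ ⊥) (hW1 : W ≠ ⊤)
    (hM : pre M ≤ subspaceStabilizer W) :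
    Odd n ∧ (Module.finrank F W = 1 ∨ Module.finrank F W = n - 1) := by
  have hn := h.hn
  have h1 : 0 < Module.finrank F W := Nat.pos_of_ne_zero fun h => hW0 (Submodule.finrank_eq_zero.mp h)
  have h2 : Module.finrank F W < n := by
    have := Submodule.finrank_lt hW1
    rwa [Module.finrank_fintype_fun_eq_card, Fintype.card_fin] at this
  by_cases h4 : 4 ≤ n
  · obtain ⟨e, u, hP, k1, k2, k3, k5, k6, k7⟩ := h.good h4
    obtain ⟨x, hx, hxu⟩ := h.elt hP k1 k2 k3
    have h5 := le_finrank_of_mem_stabilizer hP hxu (mem_of_subspaceStabilizer (hM hx))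
    rw [Fintype.card_fin] at h5
    rcases Nat.even_or_odd n with h6 | h6
    · have h7 := k7 h6
      omega
    · refine ⟨h6, ?_⟩
      have h8 : e ≠ n := by
        rintro rfl
        exact absurd k1 (Nat.not_even_iff_odd.2 h6)
      omega
  · have hn3 : n = 3 := by omega
    refine ⟨by rw [hn3]; decide, by omega⟩

/-- **GEO-L**, from the data. -/
theorem Dat.geo (h : Dat M) (hM : IsCoatom M) : InLinearResidualClass (pre M) ∨
    (Odd n ∧ ∃ W : Submodule F (Fin n → F), (Module.finrank F W = 1 ∨ Module.finrank F W = n - 1) ∧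
      pre M = subspaceStabilizer W ⊓ specialLinear (Fin n) F) := by
  rcases H915.sl_cases h.hn (isMaximalIn_pre hM) with ⟨W, h0, h1, he⟩ | ⟨t, m, D, htm, hD, -, -, he⟩ |
    ⟨r, K, hr, hrn, hK, he⟩ | ⟨n₁, n₂, e, P, h1, h2, h3, -, he⟩ | ⟨F₀, r, P, hr, hF, he⟩ |
    ⟨r, k, p, e, R, hR, hr, hro, -, hk, hnk, hrp, hmin, hZ, hc, he⟩ | ⟨k, R, hR, hnk, -, -, hZ, hc, he⟩ |
    ⟨m, t, e, P, hm, ht, hmt, he⟩ | ⟨f, hf, hne, h4, he⟩ | ⟨σ, f, hf, he⟩ | ⟨-, Q, hQ, he⟩ | he
  · obtain ⟨h2, h3⟩ := h.class1 h0 h1 (he.le.trans inf_le_left)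
    exact Or.inr ⟨h2, W, h3, he⟩
  · exact (h.class2 htm hD (he.le.trans inf_le_left)).elim
  · exact (h.class3 hr hK (he.le.trans inf_le_left)).elim
  · exact (h.class4 h1 h2 h3 (he.le.trans inf_le_left)).elim
  · exact (h.class5 hr hF (he.le.trans inf_le_left)).elim
  · exact (h.class6 hR hr hro hk hnk hrp hmin hZ hc (he.le.trans inf_le_left)).elim
  · refine (h.class6_four ?_ hR (Or.inr ⟨rfl, hZ, hc⟩) (he.le.trans inf_le_left)).elim
    have hn := h.hn
    rcases k with _ | _ | k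
    · rw [hnk] at hn; norm_num at hn
    · rw [hnk] at hn; norm_num at hn
    · rw [hnk]
      calc 4 = 2 ^ 2 := by norm_num
        _ ≤ 2 ^ (k + 1 + 1) := Nat.pow_le_pow_right (by norm_num) (by omega)
  · exact (h.class7 hm ht hmt (he.le.trans inf_le_left)).elim
  · exact (h.class8_symp hf (he.le.trans inf_le_left)).elim
  · exact (h.class8_unit hf (he.le.trans inf_le_left)).elim
  · exact (h.class8_quad hQ (he.le.trans inf_le_left)).elim
  · exact Or.inl he

theorem dat (hn : 3 ≤ n) (hodd : Odd (Fintype.card F)) (hc : Cov _ M)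
    (hreal : ∀ e u, Ppd (Fintype.card F) e u → Even e → 2 ≤ e → e ≤ n →
      RealP (Matrix.ProjectiveSpecialLinearGroup (Fin n) F) u) : Dat M := by
  have h2 : (2 : F) ≠ 0 := by
    obtain ⟨p, hp⟩ := CharP.exists F
    have hpp : p.Prime := CharP.char_is_prime F p
    obtain ⟨k, -, hk⟩ := FiniteField.card F p
    have hp2 : p ≠ 2 := by
      rintro rfl
      rw [hk] at hodd
      exact absurd hodd (Nat.not_odd_iff_even.2 (Nat.even_pow.2 ⟨even_two, k.ne_zero⟩))
    intro h2
    have h3 : ((2 : ℕ) : F) = 0 := by exact_mod_cast h2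
    rw [CharP.cast_eq_zero_iff F p] at h3
    exact hp2 ((Nat.prime_dvd_prime_iff_eq hpp Nat.prime_two).1 h3)
  refine ⟨hn, hodd, fun e u hP he he2 hen => hc.dvd (hreal e u hP he he2 hen), ?_, ?_⟩
  · obtain ⟨t, hr, ht⟩ := exists_tv (F := F) hn
    obtain ⟨g, hg⟩ := exists_mem_pre hc hr
    exact ⟨_, hg, ht.conj g⟩
  · obtain ⟨t, hr, ht⟩ := exists_j (F := F) hn h2
    obtain ⟨g, hg⟩ := exists_mem_pre hc hr
    exact ⟨_, hg, ht.conj g⟩

/-- **GEO-L.** -/
theorem geo_psl (hn : 3 ≤ n) (hodd : Odd (Fintype.card F)) (hM : IsCoatom M) (hc : Cov _ M)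
    (hreal : ∀ e u, Ppd (Fintype.card F) e u → Even e → 2 ≤ e → e ≤ n →
      RealP (Matrix.ProjectiveSpecialLinearGroup (Fin n) F) u) :
    InLinearResidualClass (pre M) ∨
    (Odd n ∧ ∃ W : Submodule F (Fin n → F), (Module.finrank F W = 1 ∨ Module.finrank F W = n - 1) ∧
      pre M = subspaceStabilizer W ⊓ specialLinear (Fin n) F) :=
  (dat hn hodd hc hreal).geo hM

end Cfsg.Agent.H683.OddM
end

-- part: H683/OddM/GeoLR
section
/-!
# S4785, GEO-L, without the hypothesis on the real primes (helper683; real primes: helper660)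
-/

set_option autoImplicit false

namespace Cfsg.Agent.H683.OddM

open Matrix Cfsg Cfsg.Geo Cfsg.Agent.H728.DghpNum Cfsg.Agent.H304.PslT Cfsg.Agent.H453.OddM

variable {F : Type*} [Field F] [Fintype F] {n : ℕ}

theorem two_ne_zero_of_odd (hodd : Odd (Fintype.card F)) : (2 : F) ≠ 0 := by
  obtain ⟨p, hp⟩ := CharP.exists F
  have hpp : p.Prime := CharP.char_is_prime F p
  obtain ⟨k, -, hk⟩ := FiniteField.card F p
  have hp2 : p ≠ 2 := by
    rintro rfl
    rw [hk] at hodd
    exact absurd hodd (Nat.not_odd_iff_even.2 (Nat.even_pow.2 ⟨even_two, k.ne_zero⟩))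
  intro h2
  have h3 : ((2 : ℕ) : F) = 0 := by exact_mod_cast h2
  rw [CharP.cast_eq_zero_iff F p] at h3
  exact hp2 ((Nat.prime_dvd_prime_iff_eq hpp Nat.prime_two).1 h3)

/-- the real primes -/
theorem real_ppd (hodd : Odd (Fintype.card F)) {e u : ℕ} (hP : Ppd (Fintype.card F) e u) (he : Even e)
    (he2 : 2 ≤ e) (hen : e ≤ n) : RealP (Matrix.ProjectiveSpecialLinearGroup (Fin n) F) u := by
  have hlt := hP.lt
  exact realP_psl_ord (two_ne_zero_of_odd hodd) hP.prime (by omega) hP.ord (by omega) (Or.inl ⟨he, hen⟩)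

/-- **GEO-L.** -/
theorem geo_psl' (hn : 3 ≤ n) (hodd : Odd (Fintype.card F))
    {M : Subgroup (Matrix.ProjectiveSpecialLinearGroup (Fin n) F)} (hM : IsCoatom M) (hc : Cov _ M) :
    InLinearResidualClass (pre M) ∨
    (Odd n ∧ ∃ W : Submodule F (Fin n → F), (Module.finrank F W = 1 ∨ Module.finrank F W = n - 1) ∧
      pre M = subspaceStabilizer W ⊓ specialLinear (Fin n) F) :=
  geo_psl hn hodd hM hc fun _ _ hP he he2 hen => real_ppd hodd hP he he2 hen

end Cfsg.Agent.H683.OddM
end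

-- part: H131/OddChain
section
/-!
# Orbits on chains of subspaces (helper131, for S4785, part C4)

`Chain F V c` : chains of subspaces of dimensions `c, c + 1, …, n = dim V`.  A group `H` acting on `V` fixes the line of
`v` and contains all transvections `x ↦ x + φ x v`.  Let `o c` be the number of orbits of `H` on the chains and `f c` the
number of orbits on the chains whose smallest member contains `v`.  Then `o c = f c + (n - c) f (c + 1)` and
`f 1 = f 2`.  Hence for `n` odd `o 1`, `o 2`, `o 3` are not all odd (`not_all_odd`).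
-/

set_option autoImplicit false

namespace Cfsg.Agent.H131.OddChain

open Module

/-! ### Numbers of orbits -/

section orbs

variable {H : Type*} [Group H]

/-- the number of orbits meeting `s` -/
noncomputable def orbs (H : Type*) [Group H] {Ω : Type*} [MulAction H Ω] (s : Set Ω) : ℕ :=
  ((fun a => (Quotient.mk (MulAction.orbitRel H Ω) a)) '' s).ncard

theorem mk_eq {Ω : Type*} [MulAction H Ω] {a b : Ω} :
    (Quotient.mk (MulAction.orbitRel H Ω) a = Quotient.mk (MulAction.orbitRel H Ω) b) ↔ ∃ h : H, h • b = a := by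
  rw [Quotient.eq, MulAction.orbitRel_apply]
  rfl

theorem orbs_univ {Ω : Type*} [MulAction H Ω] :
    orbs H (Set.univ : Set Ω) = Nat.card (MulAction.orbitRel.Quotient H Ω) := by
  unfold orbs
  rw [Set.image_univ, Set.range_eq_univ.2 Quotient.mk_surjective, Set.ncard_univ]

theorem orbs_empty {Ω : Type*} [MulAction H Ω] : orbs H (∅ : Set Ω) = 0 := by
  unfold orbs
  rw [Set.image_empty, Set.ncard_empty]

theorem orbs_union {Ω : Type*} [MulAction H Ω] [Finite Ω] {s t : Set Ω} (hd : ∀ a ∈ s, ∀ h : H, h • a ∉ t) :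
    orbs H (s ∪ t) = orbs H s + orbs H t := by
  unfold orbs
  rw [Set.image_union]
  refine Set.ncard_union_eq ?_ (Set.toFinite _) (Set.toFinite _)
  rw [Set.disjoint_left]
  rintro _ ⟨a, ha, rfl⟩ ⟨b, hb, hab⟩
  obtain ⟨h, rfl⟩ := mk_eq.1 hab
  exact hd a ha h hb

theorem orbs_congr {Ω Ω' : Type*} [MulAction H Ω] [MulAction H Ω'] {s : Set Ω} {s' : Set Ω'} (Φ : Ω → Ω')
    (hm : ∀ a ∈ s, Φ a ∈ s') (he : ∀ a ∈ s, ∀ h : H, Φ (h • a) = h • Φ a) (hi : ∀ a ∈ s, ∀ h : H, h • a ∈ s)
    (hs : ∀ b ∈ s', ∃ a ∈ s, Φ a = b) (hf : ∀ a ∈ s, ∀ b ∈ s, Φ a = Φ b → ∃ h : H, h • a = b) :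
    orbs H s = orbs H s' := by
  unfold orbs
  refine Set.ncard_congr (fun o ho => Quotient.mk _ (Φ ho.choose)) ?_ ?_ ?_
  · intro o ho
    exact ⟨_, hm _ ho.choose_spec.1, rfl⟩
  · intro o o' ho ho' hoo
    obtain ⟨h, hh⟩ := mk_eq.1 hoo
    rw [← he _ ho'.choose_spec.1] at hh
    obtain ⟨k, hk⟩ := hf _ (hi _ ho'.choose_spec.1 h) _ ho.choose_spec.1 hh
    rw [← ho.choose_spec.2, ← ho'.choose_spec.2]
    refine mk_eq.2 ⟨k * h, ?_⟩
    rw [mul_smul, hk]
  · rintro _ ⟨b, hb, rfl⟩
    obtain ⟨a, ha, rfl⟩ := hs b hb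
    have ho : (Quotient.mk (MulAction.orbitRel H Ω) a) ∈ (fun a => (Quotient.mk (MulAction.orbitRel H Ω) a)) '' s :=
      ⟨a, ha, rfl⟩
    refine ⟨_, ho, ?_⟩
    obtain ⟨h, hh⟩ := mk_eq.1 ho.choose_spec.2
    refine mk_eq.2 ⟨h, ?_⟩
    rw [← he _ ha, hh]

end orbs

/-! ### Linear algebra -/

section lin

variable {F V : Type*} [Field F] [AddCommGroup V] [Module F V] [FiniteDimensional F V]

omit [FiniteDimensional F V] in
theorem inf_span {X : Submodule F V} {v : V} (hv : v ∉ X) : X ⊓ F ∙ v = ⊥ := by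
  rw [eq_bot_iff]
  rintro x ⟨hx, hx'⟩
  obtain ⟨a, rfl⟩ := Submodule.mem_span_singleton.1 hx'
  rcases eq_or_ne a 0 with rfl | ha
  · rw [zero_smul]; exact Submodule.zero_mem _
  · exact absurd ((Submodule.smul_mem_iff X ha).1 hx) hv

theorem finrank_sup {X : Submodule F V} {v : V} (hv : v ∉ X) : finrank F ↥(X ⊔ F ∙ v) = finrank F X + 1 := by
  have hv0 : v ≠ 0 := fun h => hv (h ▸ X.zero_mem)
  have h1 := Submodule.finrank_sup_add_finrank_inf_eq X (F ∙ v)
  rw [inf_span hv, finrank_bot, finrank_span_singleton hv0] at h1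
  exact h1

omit [FiniteDimensional F V] in
theorem exists_compl {Z : Submodule F V} {v : V} (hv : v ∈ Z) (hv0 : v ≠ 0) :
    ∃ X : Submodule F V, X ⊔ F ∙ v = Z ∧ v ∉ X := by
  obtain ⟨W, hW⟩ := Submodule.exists_isCompl (F ∙ v)
  have hle : F ∙ v ≤ Z := (Submodule.span_singleton_le_iff_mem v Z).2 hv
  refine ⟨Z ⊓ W, ?_, fun h => ?_⟩
  · rw [inf_sup_assoc_of_le W hle, sup_comm W, hW.sup_eq_top, inf_top_eq]
  · have h1 : v ∈ (F ∙ v) ⊓ W := ⟨Submodule.mem_span_singleton_self v, h.2⟩
    rw [hW.inf_eq_bot] at h1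
    exact hv0 ((Submodule.mem_bot F).1 h1)

omit [FiniteDimensional F V] in
theorem inf_sup_eq {X Y : Submodule F V} {v : V} (hv : v ∈ Y) (h : Y ≤ X ⊔ F ∙ v) : (X ⊓ Y) ⊔ F ∙ v = Y := by
  have hle : F ∙ v ≤ Y := (Submodule.span_singleton_le_iff_mem v Y).2 hv
  rw [inf_comm, inf_sup_assoc_of_le X hle, inf_eq_left.2 h]

omit [FiniteDimensional F V] in
/-- the transvections are transitive on the complements of `v` -/
theorem exists_transvection {X X' : Submodule F V} {v : V} (hX : v ∉ X) (hX' : v ∉ X')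
    (h : X ⊔ F ∙ v = X' ⊔ F ∙ v) : ∃ φ : V →ₗ[F] F, φ v = 0 ∧ ∀ x ∈ X, x + φ x • v ∈ X' := by
  obtain ⟨f, hf, hfX⟩ := Submodule.exists_le_ker_of_notMem hX
  obtain ⟨g, hg, hgX⟩ := Submodule.exists_le_ker_of_notMem hX'
  refine ⟨(f v)⁻¹ • f - (g v)⁻¹ • g, ?_, ?_⟩
  · simp [hf, hg]
  · intro x hx
    have h1 : f x = 0 := hfX hx
    have h2 : x ∈ X' ⊔ F ∙ v := by
      rw [← h]
      exact Submodule.mem_sup_left hx
    obtain ⟨y, hy, z, hz, rfl⟩ := Submodule.mem_sup.1 h2
    obtain ⟨a, rfl⟩ := Submodule.mem_span_singleton.1 hz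
    have h3 : g y = 0 := hgX hy
    have h4 : (((f v)⁻¹ • f - (g v)⁻¹ • g) (y + a • v)) = -a := by
      rw [LinearMap.sub_apply, LinearMap.smul_apply, LinearMap.smul_apply, h1, map_add, h3, map_smul, smul_zero,
        zero_add, zero_sub, smul_eq_mul, smul_eq_mul]
      field_simp
    rw [h4, neg_smul, add_neg_cancel_right]
    exact hy

end lin

/-! ### Chains -/

/-- chains of subspaces of dimensions `c, c + 1, …, dim V` -/
@[ext]
structure Chain (F V : Type*) [Field F] [AddCommGroup V] [Module F V] (c : ℕ) where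
  S : ℕ → Submodule F V
  mono : Monotone S
  bot : ∀ i < c, S i = ⊥
  rank : ∀ i, c ≤ i → finrank F (S i) = min i (finrank F V)

namespace Chain

variable {F V : Type*} [Field F] [AddCommGroup V] [Module F V] {c : ℕ}

/-- the image of a chain -/
def map (e : V ≃ₗ[F] V) (C : Chain F V c) : Chain F V c where
  S i := (C.S i).map (e : V →ₗ[F] V)
  mono i j h := Submodule.map_mono (C.mono h)
  bot i h := by rw [C.bot i h, Submodule.map_bot]
  rank i h := by
    rw [← C.rank i h]
    exact (LinearEquiv.finrank_eq (e.submoduleMap (C.S i))).symm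

theorem map_S (e : V ≃ₗ[F] V) (C : Chain F V c) (i : ℕ) : (C.map e).S i = (C.S i).map (e : V →ₗ[F] V) := rfl

instance mulAction : MulAction (V ≃ₗ[F] V) (Chain F V c) where
  smul e C := C.map e
  one_smul C := Chain.ext (funext fun i => Submodule.map_id (C.S i))
  mul_smul e f C := Chain.ext (funext fun i => Submodule.map_comp (f : V →ₗ[F] V) (e : V →ₗ[F] V) (C.S i))

theorem eq_top [FiniteDimensional F V] (C : Chain F V c) {i : ℕ} (hc : c ≤ i) (hi : finrank F V ≤ i) : C.S i = ⊤ := by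
  apply Submodule.eq_top_of_finrank_eq
  rw [C.rank i hc, min_eq_right hi]

theorem finite_chain [Finite V] [FiniteDimensional F V] : Finite (Chain F V c) := by
  have h1 : Finite (Submodule F V) := Finite.of_injective (fun X => (X : Set V)) SetLike.coe_injective
  refine Finite.of_injective (fun (C : Chain F V c) (i : Fin (c + finrank F V)) => C.S i) ?_
  intro C C' h
  refine Chain.ext (funext fun i => ?_)
  by_cases hi : i < c + finrank F V
  · exact congrFun h ⟨i, hi⟩
  · rw [C.eq_top (by omega) (by omega), C'.eq_top (by omega) (by omega)]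

variable [FiniteDimensional F V] {v : V}

open Classical in
/-- the chain of the images modulo `v` -/
noncomputable def up (v : V) (C : Chain F V c) : Chain F V (c + 1) where
  S i := if i ≤ c then ⊥ else if v ∈ C.S i then C.S i else C.S (i - 1) ⊔ F ∙ v
  mono := by
    refine monotone_nat_of_le_succ fun i => ?_
    by_cases h1 : i ≤ c
    · rw [if_pos h1]
      exact bot_le
    · rw [if_neg h1, if_neg (by omega : ¬ i + 1 ≤ c)]
      by_cases h2 : v ∈ C.S i
      · rw [if_pos h2, if_pos (C.mono (Nat.le_succ i) h2)]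
        exact C.mono (Nat.le_succ i)
      · rw [if_neg h2]
        by_cases h3 : v ∈ C.S (i + 1)
        · rw [if_pos h3]
          exact sup_le (C.mono (by omega)) ((Submodule.span_singleton_le_iff_mem v _).2 h3)
        · rw [if_neg h3]
          exact sup_le_sup_right (C.mono (by omega)) _
  bot i h := if_pos (by omega)
  rank i h := by
    rw [if_neg (by omega : ¬ i ≤ c)]
    by_cases h2 : v ∈ C.S i
    · rw [if_pos h2]
      exact C.rank i (by omega)
    · rw [if_neg h2]
      have h3 : v ∉ C.S (i - 1) := fun h3 => h2 (C.mono (by omega) h3)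
      have h4 : i < finrank F V := by
        by_contra h4
        apply h2
        rw [C.eq_top (by omega) (by omega)]
        trivial
      rw [finrank_sup h3, C.rank _ (by omega), min_eq_left (by omega), min_eq_left (by omega)]
      omega

open Classical in
theorem up_S (C : Chain F V c) {i : ℕ} (hi : c < i) (hv : v ∉ C.S i) : (C.up v).S i = C.S (i - 1) ⊔ F ∙ v := by
  change (if i ≤ c then ⊥ else if v ∈ C.S i then C.S i else C.S (i - 1) ⊔ F ∙ v) = _
  rw [if_neg (by omega), if_neg hv]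

open Classical in
theorem up_S' (C : Chain F V c) {i : ℕ} (hi : c < i) (hv : v ∈ C.S i) : (C.up v).S i = C.S i := by
  change (if i ≤ c then ⊥ else if v ∈ C.S i then C.S i else C.S (i - 1) ⊔ F ∙ v) = _
  rw [if_neg (by omega), if_pos hv]

/-- `v` enters with the member of dimension `i` -/
theorem sup_eq (C : Chain F V c) {i : ℕ} (hi : c ≤ i) (h1 : v ∉ C.S i) (h2 : v ∈ C.S (i + 1)) :
    C.S i ⊔ F ∙ v = C.S (i + 1) := by
  have h4 : i < finrank F V := by
    by_contra h4
    apply h1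
    rw [C.eq_top (by omega) (by omega)]
    trivial
  refine Submodule.eq_of_le_of_finrank_eq (sup_le (C.mono (Nat.le_succ i))
    ((Submodule.span_singleton_le_iff_mem v _).2 h2)) ?_
  rw [finrank_sup h1, C.rank _ hi, C.rank _ (by omega), min_eq_left (by omega), min_eq_left (by omega)]

theorem up_S'' (C : Chain F V c) {i : ℕ} (hi : c ≤ i) (h1 : v ∉ C.S i) : (C.up v).S (i + 1) = C.S i ⊔ F ∙ v := by
  by_cases h2 : v ∈ C.S (i + 1)
  · rw [C.up_S' (by omega) h2, C.sup_eq hi h1 h2]
  · rw [C.up_S (by omega) h2, Nat.add_sub_cancel]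

/-- chains with `v` entering with the member of dimension `j` -/
def E (F : Type*) {V : Type*} [Field F] [AddCommGroup V] [Module F V] (v : V) (c j : ℕ) : Set (Chain F V c) :=
  {C | v ∉ C.S (j - 1) ∧ v ∈ C.S j}

/-- chains whose smallest member contains `v` -/
def B (F : Type*) {V : Type*} [Field F] [AddCommGroup V] [Module F V] (v : V) (c : ℕ) : Set (Chain F V c) :=
  {C | v ∈ C.S c}

theorem up_mem_B (C : Chain F V c) : C.up v ∈ B F v (c + 1) := by
  change v ∈ (C.up v).S (c + 1)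
  by_cases h : v ∈ C.S c
  · rw [C.up_S' (by omega) (C.mono (Nat.le_succ c) h)]
    exact C.mono (Nat.le_succ c) h
  · rw [C.up_S'' le_rfl h]
    exact Submodule.mem_sup_right (Submodule.mem_span_singleton_self v)

open Classical in
/-- a chain with given image -/
noncomputable def down (D : Chain F V (c + 1)) (hD : D ∈ B F v (c + 1)) {j : ℕ} (hj : c < j) (hjn : j ≤ finrank F V)
    (X : Submodule F V) (hX : X ⊔ F ∙ v = D.S j) (hvX : v ∉ X) : Chain F V c where
  S i := if i < c then ⊥ else if i < j then X ⊓ D.S (i + 1) else D.S i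
  mono := by
    have hXj : X ≤ D.S j := by rw [← hX]; exact le_sup_left
    refine monotone_nat_of_le_succ fun i => ?_
    by_cases h1 : i < c
    · rw [if_pos h1]
      exact bot_le
    · rw [if_neg h1, if_neg (by omega : ¬ i + 1 < c)]
      by_cases h2 : i < j
      · rw [if_pos h2]
        by_cases h3 : i + 1 < j
        · rw [if_pos h3]
          exact inf_le_inf_left _ (D.mono (by omega))
        · rw [if_neg h3]
          exact inf_le_right
      · rw [if_neg h2, if_neg (by omega : ¬ i + 1 < j)]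
        exact D.mono (by omega)
  bot i h := if_pos h
  rank i h := by
    rw [if_neg (by omega : ¬ i < c)]
    by_cases h2 : i < j
    · rw [if_pos h2]
      have hvD : v ∈ D.S (i + 1) := D.mono (by omega) hD
      have h3 : (X ⊓ D.S (i + 1)) ⊔ F ∙ v = D.S (i + 1) := inf_sup_eq hvD (by rw [hX]; exact D.mono (by omega))
      have h4 : v ∉ X ⊓ D.S (i + 1) := fun h => hvX h.1
      have h5 := finrank_sup h4
      rw [h3, D.rank _ (by omega), min_eq_left (by omega)] at h5
      rw [min_eq_left (by omega)]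
      omega
    · rw [if_neg h2]
      exact D.rank i (by omega)

theorem down_S (D : Chain F V (c + 1)) (hD : D ∈ B F v (c + 1)) {j : ℕ} (hj : c < j) (hjn : j ≤ finrank F V)
    (X : Submodule F V) (hX : X ⊔ F ∙ v = D.S j) (hvX : v ∉ X) {i : ℕ} (hi : c ≤ i) (hij : i < j) :
    (down D hD hj hjn X hX hvX).S i = X ⊓ D.S (i + 1) := by
  change (if i < c then ⊥ else if i < j then X ⊓ D.S (i + 1) else D.S i) = _
  rw [if_neg (by omega), if_pos hij]

theorem down_S' (D : Chain F V (c + 1)) (hD : D ∈ B F v (c + 1)) {j : ℕ} (hj : c < j) (hjn : j ≤ finrank F V)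
    (X : Submodule F V) (hX : X ⊔ F ∙ v = D.S j) (hvX : v ∉ X) {i : ℕ} (hi : j ≤ i) :
    (down D hD hj hjn X hX hvX).S i = D.S i := by
  change (if i < c then ⊥ else if i < j then X ⊓ D.S (i + 1) else D.S i) = _
  rw [if_neg (by omega), if_neg (by omega)]

theorem down_mem (D : Chain F V (c + 1)) (hD : D ∈ B F v (c + 1)) {j : ℕ} (hj : c < j) (hjn : j ≤ finrank F V)
    (X : Submodule F V) (hX : X ⊔ F ∙ v = D.S j) (hvX : v ∉ X) : down D hD hj hjn X hX hvX ∈ E F v c j := by
  constructor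
  · rw [down_S D hD hj hjn X hX hvX (by omega) (by omega)]
    exact fun h => hvX h.1
  · rw [down_S' D hD hj hjn X hX hvX le_rfl]
    exact D.mono (by omega) hD

theorem up_down (D : Chain F V (c + 1)) (hD : D ∈ B F v (c + 1)) {j : ℕ} (hj : c < j) (hjn : j ≤ finrank F V)
    (X : Submodule F V) (hX : X ⊔ F ∙ v = D.S j) (hvX : v ∉ X) : (down D hD hj hjn X hX hvX).up v = D := by
  refine Chain.ext (funext fun i => ?_)
  by_cases h1 : i ≤ c
  · rw [((down D hD hj hjn X hX hvX).up v).bot i (by omega), D.bot i (by omega)]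
  by_cases h2 : i < j
  · obtain ⟨k, rfl⟩ : ∃ k, i = k + 1 := ⟨i - 1, by omega⟩
    have h3 : v ∉ (down D hD hj hjn X hX hvX).S k := by
      rw [down_S D hD hj hjn X hX hvX (by omega) (by omega)]
      exact fun h => hvX h.1
    rw [up_S'' _ (by omega) h3, down_S D hD hj hjn X hX hvX (by omega) (by omega)]
    exact inf_sup_eq (D.mono (by omega) hD) (by rw [hX]; exact D.mono (by omega))
  · have h3 : v ∈ (down D hD hj hjn X hX hvX).S i := by
      rw [down_S' D hD hj hjn X hX hvX (by omega)]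
      exact D.mono (by omega) hD
    rw [up_S' _ (by omega) h3, down_S' D hD hj hjn X hX hvX (by omega)]

/-- forget the smallest member -/
def drop (C : Chain F V c) : Chain F V (c + 1) where
  S i := if i ≤ c then ⊥ else C.S i
  mono := by
    refine monotone_nat_of_le_succ fun i => ?_
    by_cases h1 : i ≤ c
    · rw [if_pos h1]
      exact bot_le
    · rw [if_neg h1, if_neg (by omega : ¬ i + 1 ≤ c)]
      exact C.mono (Nat.le_succ i)
  bot i h := if_pos (by omega)
  rank i h := by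
    rw [if_neg (by omega : ¬ i ≤ c)]
    exact C.rank i (by omega)

omit [FiniteDimensional F V] in
theorem drop_S (C : Chain F V c) {i : ℕ} (hi : c < i) : C.drop.S i = C.S i := by
  change (if i ≤ c then ⊥ else C.S i) = _
  rw [if_neg (by omega)]

omit [FiniteDimensional F V] in
theorem drop_map (e : V ≃ₗ[F] V) (C : Chain F V c) : (C.map e).drop = C.drop.map e := by
  refine Chain.ext (funext fun i => ?_)
  by_cases h1 : i ≤ c
  · rw [(C.map e).drop.bot i (by omega), map_S, C.drop.bot i (by omega), Submodule.map_bot]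
  · rw [drop_S _ (by omega), map_S, map_S, drop_S _ (by omega)]

/-- every chain can be extended -/
theorem exists_drop (hc : c < finrank F V) (D : Chain F V (c + 1)) : ∃ C : Chain F V c, C.drop = D := by
  have h1 : D.S (c + 1) ≠ ⊥ := by
    intro h
    have h2 := D.rank (c + 1) le_rfl
    rw [h, finrank_bot, min_eq_left (by omega)] at h2
    omega
  obtain ⟨w, hw, hw0⟩ := Submodule.exists_mem_ne_zero_of_ne_bot h1
  obtain ⟨X, hX, hwX⟩ := exists_compl hw hw0
  refine ⟨down D hw (Nat.lt_succ_self c) (by omega) X hX hwX, Chain.ext (funext fun i => ?_)⟩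
  by_cases h1 : i ≤ c
  · rw [Chain.bot _ i (by omega), D.bot i (by omega)]
  · rw [drop_S _ (by omega), down_S' D hw (Nat.lt_succ_self c) (by omega) X hX hwX (by omega)]

end Chain

/-! ### The numbers of orbits -/

section count

variable {F V : Type*} [Field F] [AddCommGroup V] [Module F V] [FiniteDimensional F V] {v : V}
  {H : Type*} [Group H] [∀ c, MulAction H (Chain F V c)]

/-- the situation -/
structure Sit (H : Type*) [Group H] {F V : Type*} [Field F] [AddCommGroup V] [Module F V]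
    [∀ c, MulAction H (Chain F V c)] (ρ : H →* (V ≃ₗ[F] V)) (v : V) : Prop where
  act : ∀ (c : ℕ) (h : H) (C : Chain F V c), h • C = C.map (ρ h)
  ne : v ≠ 0
  line : ∀ h : H, ρ h v ∈ F ∙ v
  trans : ∀ φ : V →ₗ[F] F, φ v = 0 → ∃ h : H, ∀ x, ρ h x = x + φ x • v

variable {ρ : H →* (V ≃ₗ[F] V)} (A : Sit H ρ v)

include A

omit [FiniteDimensional F V] in
theorem Sit.map_line (h : H) : (F ∙ v).map (ρ h : V →ₗ[F] V) = F ∙ v := by
  rw [Submodule.map_span, Set.image_singleton]
  apply le_antisymm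
  · exact (Submodule.span_singleton_le_iff_mem _ _).2 (A.line h)
  · rw [Submodule.span_singleton_le_iff_mem]
    obtain ⟨a, ha⟩ := Submodule.mem_span_singleton.1 (A.line h)
    have ha0 : a ≠ 0 := by
      rintro rfl
      rw [zero_smul] at ha
      exact A.ne ((ρ h).map_eq_zero_iff.1 ha.symm)
    refine Submodule.mem_span_singleton.2 ⟨a⁻¹, ?_⟩
    change a⁻¹ • (ρ h) v = v
    rw [← ha, smul_smul, inv_mul_cancel₀ ha0, one_smul]

omit [FiniteDimensional F V] in
theorem Sit.mem_map (h : H) (X : Submodule F V) : v ∈ X.map (ρ h : V →ₗ[F] V) ↔ v ∈ X := by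
  rw [← Submodule.span_singleton_le_iff_mem, ← Submodule.span_singleton_le_iff_mem]
  conv_lhs => rw [← A.map_line h]
  constructor
  · intro h1 x hx
    obtain ⟨y, hy, hyx⟩ := h1 (Submodule.mem_map_of_mem hx)
    rwa [← (ρ h).injective hyx]
  · exact fun h1 => Submodule.map_mono h1

theorem Sit.up_smul {c : ℕ} (h : H) (C : Chain F V c) : (h • C).up v = h • C.up v := by
  rw [A.act, A.act]
  refine Chain.ext (funext fun i => ?_)
  by_cases h1 : i ≤ c
  · rw [Chain.bot _ i (by omega), Chain.map_S, Chain.bot _ i (by omega), Submodule.map_bot]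
  by_cases h2 : v ∈ C.S i
  · rw [Chain.up_S' _ (by omega) (by rw [Chain.map_S, A.mem_map]; exact h2), Chain.map_S, Chain.map_S,
      Chain.up_S' _ (by omega) h2]
  · rw [Chain.up_S _ (by omega) (by rw [Chain.map_S, A.mem_map]; exact h2), Chain.map_S, Chain.map_S,
      Chain.up_S _ (by omega) h2, Submodule.map_sup, A.map_line]

omit [FiniteDimensional F V] in
theorem Sit.smul_B {c : ℕ} {C : Chain F V c} (hC : C ∈ Chain.B F v c) (h : H) : h • C ∈ Chain.B F v c := by
  change v ∈ (h • C).S c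
  rw [A.act, Chain.map_S, A.mem_map]
  exact hC

omit [FiniteDimensional F V] in
theorem Sit.smul_E {c j : ℕ} {C : Chain F V c} (hC : C ∈ Chain.E F v c j) (h : H) : h • C ∈ Chain.E F v c j := by
  constructor
  · rw [A.act, Chain.map_S, A.mem_map]
    exact hC.1
  · rw [A.act, Chain.map_S, A.mem_map]
    exact hC.2

/-- chains with the same entry and the same image are conjugate -/
theorem Sit.fibre {c j : ℕ} (hj : c < j) {C C' : Chain F V c} (hC : C ∈ Chain.E F v c j)
    (hC' : C' ∈ Chain.E F v c j) (h : C.up v = C'.up v) : ∃ k : H, k • C = C' := by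
  obtain ⟨i, rfl⟩ : ∃ i, j = i + 1 := ⟨j - 1, by omega⟩
  have e1 : v ∉ C.S i := hC.1
  have e2 : v ∉ C'.S i := hC'.1
  have e3 : v ∈ C.S (i + 1) := hC.2
  have e4 : v ∈ C'.S (i + 1) := hC'.2
  have e5 : C.S i ⊔ F ∙ v = C'.S i ⊔ F ∙ v := by
    rw [← Chain.up_S'' C (by omega) e1, ← Chain.up_S'' C' (by omega) e2, h]
  obtain ⟨φ, hφ, hφX⟩ := exists_transvection e1 e2 e5
  obtain ⟨k, hk⟩ := A.trans φ hφ
  -- `k` fixes the subspaces containing `v`
  have hfix : ∀ X : Submodule F V, v ∈ X → X.map (ρ k : V →ₗ[F] V) = X := by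
    intro X hX
    refine Submodule.eq_of_le_of_finrank_eq ?_ (LinearEquiv.finrank_eq ((ρ k).submoduleMap X)).symm
    rintro _ ⟨x, hx, rfl⟩
    change ρ k x ∈ X
    rw [hk]
    exact X.add_mem hx (X.smul_mem _ hX)
  have hX : (C.S i).map (ρ k : V →ₗ[F] V) = C'.S i := by
    refine Submodule.eq_of_le_of_finrank_eq ?_ ?_
    · rintro _ ⟨x, hx, rfl⟩
      change ρ k x ∈ _
      rw [hk]
      exact hφX x hx
    · rw [C'.rank i (by omega), ← C.rank i (by omega)]
      exact (LinearEquiv.finrank_eq ((ρ k).submoduleMap (C.S i))).symm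
  refine ⟨k, ?_⟩
  rw [A.act]
  refine Chain.ext (funext fun l => ?_)
  rw [Chain.map_S]
  by_cases h1 : l < c
  · rw [C.bot l h1, C'.bot l h1, Submodule.map_bot]
  by_cases h2 : i + 1 ≤ l
  · have h3 : v ∈ C.S l := C.mono h2 e3
    have h4 : v ∈ C'.S l := C'.mono h2 e4
    rw [hfix _ h3, ← Chain.up_S' C (by omega) h3, ← Chain.up_S' C' (by omega) h4, h]
  · -- `l ≤ i`
    have key : ∀ D : Chain F V c, v ∉ D.S i → D.S l = D.S i ⊓ (D.up v).S (l + 1) := by
      intro D hD
      have h3 : v ∉ D.S l := fun h3 => hD (D.mono (by omega) h3)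
      rw [Chain.up_S'' D (by omega) h3]
      have h4 : D.S l ≤ D.S i := D.mono (by omega)
      rw [inf_comm, sup_inf_assoc_of_le _ h4, inf_comm, inf_span hD, sup_bot_eq]
    have h5 : v ∈ (C.up v).S (l + 1) := by
      have h3 : v ∉ C.S l := fun h3 => e1 (C.mono (by omega) h3)
      rw [Chain.up_S'' C (by omega) h3]
      exact Submodule.mem_sup_right (Submodule.mem_span_singleton_self v)
    rw [key C e1, key C' e2, ← h, Submodule.map_inf _ (ρ k).injective, hX, hfix _ h5]

theorem Sit.orbs_E {c j : ℕ} (hj : c < j) (hjn : j ≤ finrank F V) :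
    orbs H (Chain.E F v c j) = orbs H (Chain.B F v (c + 1)) := by
  refine orbs_congr (Chain.up v) (fun C _ => C.up_mem_B) (fun C _ h => A.up_smul h C) (fun C hC h => A.smul_E hC h) ?_
    (fun C hC C' hC' h => A.fibre hj hC hC' h)
  intro D hD
  have h1 : v ∈ D.S j := D.mono (by omega) hD
  obtain ⟨X, hX, hvX⟩ := exists_compl h1 A.ne
  exact ⟨_, Chain.down_mem D hD hj hjn X hX hvX, Chain.up_down D hD hj hjn X hX hvX⟩

/-- the orbits on the chains whose smallest member does not contain `v` -/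
theorem Sit.orbs_step [Finite V] {c : ℕ} (k : ℕ) (hk : c + k ≤ finrank F V) :
    orbs H {C : Chain F V c | v ∉ C.S c ∧ v ∈ C.S (c + k)} = k * orbs H (Chain.B F v (c + 1)) := by
  have hfin : Finite (Chain F V c) := Chain.finite_chain
  induction k with
  | zero =>
    have h1 : {C : Chain F V c | v ∉ C.S c ∧ v ∈ C.S (c + 0)} = ∅ := by
      ext C
      simp
    rw [h1, orbs_empty, zero_mul]
  | succ k ih =>
    have h1 : {C : Chain F V c | v ∉ C.S c ∧ v ∈ C.S (c + (k + 1))} =
        {C : Chain F V c | v ∉ C.S c ∧ v ∈ C.S (c + k)} ∪ Chain.E F v c (c + (k + 1)) := by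
      ext C
      constructor
      · rintro ⟨h1, h2⟩
        by_cases h3 : v ∈ C.S (c + k)
        · exact Or.inl ⟨h1, h3⟩
        · exact Or.inr ⟨h3, h2⟩
      · rintro (⟨h1, h2⟩ | ⟨h1, h2⟩)
        · exact ⟨h1, C.mono (by omega) h2⟩
        · exact ⟨fun h3 => h1 (C.mono (by omega) h3), h2⟩
    rw [h1, orbs_union, ih (by omega), A.orbs_E (by omega) hk]
    · ring
    · rintro C ⟨-, h2⟩ h ⟨h3, -⟩
      apply h3
      rw [A.act, Chain.map_S, A.mem_map]
      exact h2

/-- **the number of orbits on the chains** -/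
theorem Sit.card_orbits [Finite V] {c : ℕ} (hc : c ≤ finrank F V) :
    Nat.card (MulAction.orbitRel.Quotient H (Chain F V c)) =
      orbs H (Chain.B F v c) + (finrank F V - c) * orbs H (Chain.B F v (c + 1)) := by
  have hfin : Finite (Chain F V c) := Chain.finite_chain
  rw [← A.orbs_step (finrank F V - c) (by omega), ← orbs_univ, ← orbs_union]
  · congr 1
    ext C
    constructor
    · intro _
      by_cases h3 : v ∈ C.S c
      · exact Or.inl h3
      · refine Or.inr ⟨h3, ?_⟩
        rw [C.eq_top (by omega) (by omega)]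
        trivial
    · intro _
      trivial
  · rintro C hC h ⟨h3, -⟩
    exact h3 (A.smul_B hC h)

theorem Sit.orbs_one (hn : 2 ≤ finrank F V) : orbs H (Chain.B F v 1) = orbs H (Chain.B F v 2) := by
  refine orbs_congr (Chain.up v) (fun C _ => C.up_mem_B) (fun C _ h => A.up_smul h C) (fun C hC h => A.smul_B hC h) ?_ ?_
  · intro D hD
    refine ⟨⟨fun i => if i < 1 then ⊥ else if i < 2 then F ∙ v else D.S i, ?_, fun i hi => if_pos hi, ?_⟩, ?_, ?_⟩
    · refine monotone_nat_of_le_succ fun i => ?_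
      by_cases h1 : i < 1
      · rw [if_pos h1]
        exact bot_le
      · rw [if_neg h1, if_neg (by omega : ¬ i + 1 < 1), if_neg (by omega : ¬ i + 1 < 2)]
        by_cases h2 : i < 2
        · rw [if_pos h2, Submodule.span_singleton_le_iff_mem]
          exact D.mono (by omega) hD
        · rw [if_neg h2]
          exact D.mono (by omega)
    · intro i hi
      rw [if_neg (by omega : ¬ i < 1)]
      by_cases h2 : i < 2
      · rw [if_pos h2, finrank_span_singleton A.ne]
        omega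
      · rw [if_neg h2]
        exact D.rank i (by omega)
    · change v ∈ (if 1 < 1 then ⊥ else if 1 < 2 then F ∙ v else D.S 1)
      rw [if_neg (by omega), if_pos (by omega)]
      exact Submodule.mem_span_singleton_self v
    · refine Chain.ext (funext fun i => ?_)
      by_cases h1 : i ≤ 1
      · rw [Chain.bot _ i (by omega), D.bot i (by omega)]
      · have h3 : (if i < 1 then ⊥ else if i < 2 then F ∙ v else D.S i) = D.S i := by
          rw [if_neg (by omega), if_neg (by omega)]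
        rw [Chain.up_S' _ (by omega)]
        · exact h3
        · change v ∈ (if i < 1 then ⊥ else if i < 2 then F ∙ v else D.S i)
          rw [h3]
          exact D.mono (by omega) hD
  · intro C hC C' hC' h
    refine ⟨1, ?_⟩
    rw [one_smul]
    refine Chain.ext (funext fun i => ?_)
    have key : ∀ D : Chain F V 1, D ∈ Chain.B F v 1 → D.S 1 = F ∙ v := by
      intro D hD
      symm
      refine Submodule.eq_of_le_of_finrank_eq ((Submodule.span_singleton_le_iff_mem _ _).2 hD) ?_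
      rw [finrank_span_singleton A.ne, D.rank 1 le_rfl, min_eq_left (by omega)]
    by_cases h1 : i < 1
    · rw [C.bot i h1, C'.bot i h1]
    by_cases h2 : i = 1
    · rw [h2, key C hC, key C' hC']
    · have e1 : v ∈ C.S i := C.mono (by omega) hC
      have e2 : v ∈ C'.S i := C'.mono (by omega) hC'
      rw [← Chain.up_S' C (by omega) e1, ← Chain.up_S' C' (by omega) e2, h]

/-- **the parity argument** -/
theorem Sit.not_all_odd [Finite V] (hn : 3 ≤ finrank F V) (hodd : Odd (finrank F V))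
    (h1 : Odd (Nat.card (MulAction.orbitRel.Quotient H (Chain F V 1))))
    (h2 : Odd (Nat.card (MulAction.orbitRel.Quotient H (Chain F V 2))))
    (h3 : Odd (Nat.card (MulAction.orbitRel.Quotient H (Chain F V 3)))) : False := by
  rw [A.card_orbits (by omega)] at h1 h2 h3
  rw [A.orbs_one (by omega)] at h1
  obtain ⟨k, hk⟩ := hodd
  have e1 : finrank F V - 1 = 2 * k := by omega
  have e2 : finrank F V - 2 = 2 * (k - 1) + 1 := by omega
  have e3 : finrank F V - 3 = 2 * (k - 1) := by omega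
  rw [e1] at h1
  rw [e2] at h2
  rw [e3] at h3
  rw [← Nat.not_even_iff_odd] at h1 h2 h3
  simp only [Nat.even_add, Nat.even_mul, even_two, true_or, Nat.not_even_one, iff_true, iff_false,
    not_true, false_or] at h1 h2 h3
  (clear * - h1 h2 h3; tauto)

end count

end Cfsg.Agent.H131.OddChain
end

-- part: H131/OddP1A
section
/-!
# Tools for the stabilizer of a line in `SL_n(q)`, `n` odd (helper131, S4785, part C4)

`RO` passes to preimages and to transitive sets; `SL_n(q)` is transitive on the chains of subspaces.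
-/

set_option autoImplicit false

namespace Cfsg.Agent.H131.OddP1

open Module Matrix Cfsg.Agent.H453.OddM Cfsg.Agent.H131.OddChain

/-! ### Transfer of `RO` -/

section transfer

variable {T S : Type*} [Group T] [Group S]

/-- `RO` passes to preimages -/
theorem ro_comap {K : Subgroup S} (f : T →* S) (hf : Function.Surjective f) (h : RO S K) : RO T (K.comap f) := by
  let g : T ⧸ K.comap f → S ⧸ K :=
    Quotient.map' f (fun a b hab => by
      rw [QuotientGroup.leftRel_apply] at hab ⊢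
      rw [← map_inv, ← map_mul]
      exact hab)
  have hg : Function.Bijective g := by
    constructor
    · intro a b hab
      obtain ⟨a, rfl⟩ := QuotientGroup.mk_surjective a
      obtain ⟨b, rfl⟩ := QuotientGroup.mk_surjective b
      have h2 : (QuotientGroup.mk (f a) : S ⧸ K) = QuotientGroup.mk (f b) := hab
      rw [QuotientGroup.eq] at h2 ⊢
      rw [← map_inv, ← map_mul] at h2
      exact h2
    · intro c
      obtain ⟨s, rfl⟩ := QuotientGroup.mk_surjective c
      obtain ⟨t, rfl⟩ := hf s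
      exact ⟨QuotientGroup.mk t, rfl⟩
  have hgs : ∀ (t : T) (ω : T ⧸ K.comap f), g (t • ω) = f t • g ω := by
    intro t ω
    obtain ⟨a, rfl⟩ := QuotientGroup.mk_surjective ω
    change (QuotientGroup.mk (f (t * a)) : S ⧸ K) = QuotientGroup.mk (f t * f a)
    rw [map_mul]
  let e := Equiv.ofBijective g hg
  refine ⟨?_, ?_, ?_⟩
  · have h1 : (K.comap f).index = K.index := Nat.card_congr e
    rw [h1]; exact h.odd_index
  · intro x hx
    have h1 : Nat.card {ω : T ⧸ K.comap f // x • ω = ω} = Nat.card {ω : S ⧸ K // f x • ω = ω} := by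
      refine Nat.card_congr (e.subtypeEquiv fun ω => ?_)
      change _ ↔ f x • g ω = g ω
      rw [← hgs]
      exact ⟨fun h => by rw [h], fun h => hg.1 h⟩
    rw [h1]
    exact h.odd_fix (f x) (hx.map f)
  · intro L
    have h1 : Nat.card (MulAction.orbitRel.Quotient L (T ⧸ K.comap f)) =
        Nat.card (MulAction.orbitRel.Quotient (L.map f) (S ⧸ K)) := by
      refine Nat.card_congr (Quotient.congr e fun a b => ?_)
      change (MulAction.orbitRel L _) a b ↔ (MulAction.orbitRel (L.map f) _) (g a) (g b)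
      rw [MulAction.orbitRel_apply, MulAction.orbitRel_apply]
      constructor
      · rintro ⟨⟨l, hl⟩, rfl⟩
        exact ⟨⟨f l, ⟨l, hl, rfl⟩⟩, (hgs l b).symm⟩
      · rintro ⟨⟨_, ⟨l, hl, rfl⟩⟩, hb⟩
        refine ⟨⟨l, hl⟩, hg.1 ?_⟩
        rw [← hb]
        exact hgs l b
    rw [h1]
    exact h.odd_orb _

/-- the number of orbits on a transitive set is odd -/
theorem ro_orb_set {R : Subgroup T} (h : RO T R) {Ω : Type*} [MulAction T Ω] (ω0 : Ω)
    (ht : ∀ ω : Ω, ∃ t : T, t • ω0 = ω) : Odd (Nat.card (MulAction.orbitRel.Quotient R Ω)) := by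
  have h1 := h.orb (MulAction.stabilizer T ω0)
  have hb : Function.Bijective (MulAction.ofQuotientStabilizer T ω0) := by
    refine ⟨MulAction.injective_ofQuotientStabilizer T ω0, fun ω => ?_⟩
    obtain ⟨t, rfl⟩ := ht ω
    exact ⟨QuotientGroup.mk t, rfl⟩
  have h2 : Nat.card (MulAction.orbitRel.Quotient R (T ⧸ MulAction.stabilizer T ω0)) =
      Nat.card (MulAction.orbitRel.Quotient R Ω) := by
    refine Nat.card_congr (Quotient.congr (Equiv.ofBijective _ hb) fun a b => ?_)
    change (MulAction.orbitRel R _) a b ↔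
      (MulAction.orbitRel R _) (MulAction.ofQuotientStabilizer T ω0 a) (MulAction.ofQuotientStabilizer T ω0 b)
    rw [MulAction.orbitRel_apply, MulAction.orbitRel_apply]
    constructor
    · rintro ⟨r, rfl⟩
      exact ⟨r, (MulAction.ofQuotientStabilizer_smul T ω0 (r : T) b).symm⟩
    · rintro ⟨r, hr⟩
      refine ⟨r, hb.1 ?_⟩
      rw [← hr]
      exact MulAction.ofQuotientStabilizer_smul T ω0 (r : T) b
  rwa [h2] at h1

end transfer

/-! ### Transitivity on chains -/

section chains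

variable {F : Type*} [Field F] {n : ℕ}

/-- the action of `SL_n` on the chains -/
instance slChain (c : ℕ) : MulAction (_root_.Matrix.SpecialLinearGroup (Fin n) F) (Chain F (Fin n → F) c) :=
  MulAction.compHom _ (SpecialLinearGroup.toLin' (R := F) (n := Fin n))

theorem sl_smul {c : ℕ} (g : _root_.Matrix.SpecialLinearGroup (Fin n) F) (C : Chain F (Fin n → F) c) :
    g • C = C.map (SpecialLinearGroup.toLin' g) := rfl

theorem finrank_V : finrank F (Fin n → F) = n := by simp only [_root_.Module.finrank_fintype_fun_eq_card, _root_.Fintype.card_fin]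

/-- adapted families -/
theorem exists_adapted (C : Chain F (Fin n → F) 1) (i : ℕ) (hi : i < n) : ∃ b, b ∈ C.S (i + 1) ∧ b ∉ C.S i := by
  have h1 : finrank F (C.S i) = i := by
    rcases Nat.eq_zero_or_pos i with rfl | h0
    · rw [C.bot 0 (by omega), finrank_bot]
    · rw [C.rank i h0, finrank_V, min_eq_left (by omega)]
  have h2 : finrank F (C.S (i + 1)) = i + 1 := by
    rw [C.rank (i + 1) (by omega), finrank_V, min_eq_left (by omega)]
  by_contra hcon
  push Not at hcon
  have h3 : C.S (i + 1) ≤ C.S i := fun x hx => hcon x hx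
  have h4 := Submodule.finrank_mono h3
  omega

theorem span_adapted (C : Chain F (Fin n → F) 1) {b : Fin n → (Fin n → F)}
    (hb : ∀ i : Fin n, b i ∈ C.S (i + 1) ∧ b i ∉ C.S i) (k : ℕ) (hk : k ≤ n) :
    Submodule.span F {x | ∃ i : Fin n, (i : ℕ) < k ∧ x = b i} = C.S k := by
  induction k with
  | zero =>
    rw [C.bot 0 (by omega)]
    have h1 : {x | ∃ i : Fin n, (i : ℕ) < 0 ∧ x = b i} = ∅ := by
      ext x
      simp only [_root_.not_lt_zero, _root_.false_and, _root_.exists_false, _root_.Set.ofPred_false, _root_.Set.mem_empty_iff_false]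
    rw [h1, Submodule.span_empty]
  | succ k ih =>
    have h1 : {x | ∃ i : Fin n, (i : ℕ) < k + 1 ∧ x = b i} =
        {x | ∃ i : Fin n, (i : ℕ) < k ∧ x = b i} ∪ {b ⟨k, by omega⟩} := by
      ext x
      constructor
      · rintro ⟨i, hi, rfl⟩
        rcases Nat.lt_succ_iff_lt_or_eq.1 hi with h | h
        · exact Or.inl ⟨i, h, rfl⟩
        · right
          have : i = ⟨k, by omega⟩ := Fin.ext h
          rw [this]
          rfl
      · rintro (⟨i, hi, rfl⟩ | h)
        · exact ⟨i, by omega, rfl⟩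
        · exact ⟨⟨k, by omega⟩, Nat.lt_succ_self k, h⟩
    rw [h1, Submodule.span_union, ih (by omega)]
    have hb' := hb ⟨k, by omega⟩
    rcases Nat.eq_zero_or_pos k with rfl | h0
    · rw [C.bot 0 (by omega), bot_sup_eq]
      refine Submodule.eq_of_le_of_finrank_eq ((Submodule.span_singleton_le_iff_mem _ _).2 hb'.1) ?_
      have h2 : b ⟨0, by omega⟩ ≠ 0 := fun h => hb'.2 (by rw [h]; exact Submodule.zero_mem _)
      rw [finrank_span_singleton h2, C.rank _ (by omega), finrank_V, min_eq_left (by omega)]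
    · exact C.sup_eq h0 hb'.2 hb'.1

/-- the matrix of an adapted family is invertible -/
theorem det_adapted (C : Chain F (Fin n → F) 1) {b : Fin n → (Fin n → F)}
    (hb : ∀ i : Fin n, b i ∈ C.S (i + 1) ∧ b i ∉ C.S i) : (Matrix.of b)ᵀ.det ≠ 0 := by
  have h1 : ⊤ ≤ Submodule.span F (Set.range b) := by
    rw [← C.eq_top (i := n + 1) (by omega) (by rw [finrank_V]; omega)]
    have h2 : C.S (n + 1) = C.S n ∨ n = 0 := by
      rcases Nat.eq_zero_or_pos n with h | h
      · exact Or.inr h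
      · left
        rw [C.eq_top (by omega) (by rw [finrank_V]; omega), C.eq_top (by omega) (by rw [finrank_V])]
    rcases h2 with h2 | h2
    · rw [h2, ← span_adapted C hb n le_rfl]
      refine Submodule.span_mono ?_
      rintro x ⟨i, -, rfl⟩
      exact ⟨i, rfl⟩
    · subst h2
      intro x _
      have : x = 0 := Subsingleton.elim _ _
      rw [this]
      exact Submodule.zero_mem _
  have h2 : LinearIndependent F b := linearIndependent_of_top_le_span_of_card_eq_finrank h1 (by simp only [_root_.Fintype.card_fin, _root_.Module.finrank_fintype_fun_eq_card])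
  have h3 : IsUnit (Matrix.of b) := Matrix.linearIndependent_rows_iff_isUnit.1 h2
  rw [Matrix.det_transpose]
  exact ((Matrix.isUnit_iff_isUnit_det _).1 h3).ne_zero

/-- the standard chain is mapped to every chain -/
theorem exists_sl (hn : 0 < n) (C D : Chain F (Fin n → F) 1) : ∃ g : _root_.Matrix.SpecialLinearGroup (Fin n) F, g • C = D := by
  have key : ∀ C : Chain F (Fin n → F) 1, ∃ (g : _root_.Matrix.SpecialLinearGroup (Fin n) F), ∀ k, k ≤ n → C.S k =
      (Submodule.span F {x | ∃ i : Fin n, (i : ℕ) < k ∧ x = Pi.single i 1}).map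
        (SpecialLinearGroup.toLin' g : (Fin n → F) →ₗ[F] (Fin n → F)) := by
    intro C
    choose b hb using fun i : Fin n => exists_adapted C i i.2
    have hd := det_adapted C hb
    let b' : Fin n → (Fin n → F) := Function.update b ⟨0, hn⟩ (((Matrix.of b)ᵀ.det)⁻¹ • b ⟨0, hn⟩)
    have hb' : ∀ i : Fin n, b' i ∈ C.S (i + 1) ∧ b' i ∉ C.S i := by
      intro i
      by_cases hi : i = ⟨0, hn⟩
      · subst hi
        change Function.update b _ _ _ ∈ _ ∧ Function.update b _ _ _ ∉ _
        rw [Function.update_self]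
        refine ⟨Submodule.smul_mem _ _ (hb _).1, fun h => (hb ⟨0, hn⟩).2 ?_⟩
        exact (Submodule.smul_mem_iff _ (inv_ne_zero hd)).1 h
      · change Function.update b _ _ _ ∈ _ ∧ Function.update b _ _ _ ∉ _
        rw [Function.update_of_ne hi]
        exact hb i
    have hdet : (Matrix.of b')ᵀ.det = 1 := by
      have h1 : (Matrix.of b')ᵀ = Matrix.updateCol (Matrix.of b)ᵀ ⟨0, hn⟩
          (((Matrix.of b)ᵀ.det)⁻¹ • b ⟨0, hn⟩) := by
        ext i j
        rw [Matrix.transpose_apply, Matrix.of_apply, Matrix.updateCol_apply]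
        by_cases hj : j = ⟨0, hn⟩
        · rw [if_pos hj]
          change Function.update b _ _ _ _ = _
          rw [hj, Function.update_self]
        · rw [if_neg hj]
          change Function.update b _ _ _ _ = _
          rw [Function.update_of_ne hj]
          rfl
      rw [h1, Matrix.det_updateCol_smul]
      have h2 : Matrix.updateCol (Matrix.of b)ᵀ ⟨0, hn⟩ (b ⟨0, hn⟩) = (Matrix.of b)ᵀ := by
        ext i j
        rw [Matrix.updateCol_apply]
        by_cases hj : j = ⟨0, hn⟩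
        · rw [if_pos hj, hj]
          rfl
        · rw [if_neg hj]
      rw [h2, inv_mul_cancel₀ hd]
    refine ⟨⟨(Matrix.of b')ᵀ, hdet⟩, fun k hk => ?_⟩
    rw [Submodule.map_span, ← span_adapted C hb' k hk]
    congr 1
    have hcol : ∀ i : Fin n, (SpecialLinearGroup.toLin' (⟨(Matrix.of b')ᵀ, hdet⟩ : _root_.Matrix.SpecialLinearGroup (Fin n) F) :
        (Fin n → F) →ₗ[F] (Fin n → F)) (Pi.single i 1) = b' i := by
      intro i
      change Matrix.toLin' (Matrix.of b')ᵀ (Pi.single i 1) = _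
      rw [Matrix.toLin'_apply, Matrix.mulVec_single_one]
      rfl
    ext x
    constructor
    · rintro ⟨i, hi, rfl⟩
      exact ⟨Pi.single i 1, ⟨i, hi, rfl⟩, hcol i⟩
    · rintro ⟨_, ⟨i, hi, rfl⟩, rfl⟩
      exact ⟨i, hi, hcol i⟩
  obtain ⟨g, hg⟩ := key C
  obtain ⟨h, hh⟩ := key D
  refine ⟨h * g⁻¹, ?_⟩
  rw [mul_smul]
  have h1 : ∀ (g : _root_.Matrix.SpecialLinearGroup (Fin n) F) (X : Submodule F (Fin n → F)),
      (X.map (SpecialLinearGroup.toLin' g : (Fin n → F) →ₗ[F] (Fin n → F))).map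
        (SpecialLinearGroup.toLin' g⁻¹ : (Fin n → F) →ₗ[F] (Fin n → F)) = X := by
    intro g X
    rw [← Submodule.map_comp]
    have h2 : (SpecialLinearGroup.toLin' g⁻¹ : (Fin n → F) →ₗ[F] (Fin n → F)) ∘ₗ
        (SpecialLinearGroup.toLin' g : (Fin n → F) →ₗ[F] (Fin n → F)) = LinearMap.id := by
      rw [map_inv]
      ext x
      simp only [_root_.LinearEquiv.comp_coe, _root_.LinearMap.coe_comp, _root_.LinearEquiv.coe_coe, _root_.LinearMap.coe_single, _root_.Function.comp_apply, _root_.LinearEquiv.trans_apply, _root_.LinearEquiv.coe_inv, _root_.LinearEquiv.symm_apply_apply, _root_.LinearMap.id_comp]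
    rw [h2, Submodule.map_id]
  refine Chain.ext (funext fun k => ?_)
  rw [sl_smul, sl_smul, Chain.map_S, Chain.map_S]
  by_cases hk : k ≤ n
  · rw [hg k hk, h1, hh k hk]
  · rw [C.eq_top (by omega) (by rw [finrank_V]; omega), D.eq_top (by omega) (by rw [finrank_V]; omega),
      Submodule.map_top, LinearEquiv.range, Submodule.map_top, LinearEquiv.range]

theorem exists_chain : Nonempty (Chain F (Fin n → F) 1) := by
  let B : ℕ → Submodule F (Fin n → F) := fun k => Submodule.span F {x | ∃ i : Fin n, (i : ℕ) < k ∧ x = Pi.single i 1}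
  have hmono : Monotone B := by
    intro i j hij
    refine Submodule.span_mono ?_
    rintro x ⟨l, hl, rfl⟩
    exact ⟨l, by omega, rfl⟩
  have hrank : ∀ k, k ≤ n → finrank F (B k) = k := by
    intro k hk
    induction k with
    | zero =>
      have h1 : {x : Fin n → F | ∃ i : Fin n, (i : ℕ) < 0 ∧ x = Pi.single i 1} = ∅ := by
        ext x
        simp only [_root_.not_lt_zero, _root_.false_and, _root_.exists_false, _root_.Set.ofPred_false, _root_.Set.mem_empty_iff_false]
      change finrank F (Submodule.span F _) = 0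
      rw [h1, Submodule.span_empty, finrank_bot]
    | succ k ih =>
      have h1 : {x : Fin n → F | ∃ i : Fin n, (i : ℕ) < k + 1 ∧ x = Pi.single i 1} =
          {x | ∃ i : Fin n, (i : ℕ) < k ∧ x = Pi.single i 1} ∪ {Pi.single ⟨k, by omega⟩ 1} := by
        ext x
        constructor
        · rintro ⟨i, hi, rfl⟩
          rcases Nat.lt_succ_iff_lt_or_eq.1 hi with h | h
          · exact Or.inl ⟨i, h, rfl⟩
          · right
            have : i = ⟨k, by omega⟩ := Fin.ext h
            rw [this]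
            rfl
        · rintro (⟨i, hi, rfl⟩ | h)
          · exact ⟨i, by omega, rfl⟩
          · exact ⟨⟨k, by omega⟩, Nat.lt_succ_self k, h⟩
      have h2 : B (k + 1) = B k ⊔ F ∙ (Pi.single (⟨k, by omega⟩ : Fin n) (1 : F)) := by
        change Submodule.span F _ = _
        rw [h1, Submodule.span_union]
      have h3 : (Pi.single (⟨k, by omega⟩ : Fin n) (1 : F)) ∉ B k := by
        intro h
        have h4 : B k ≤ LinearMap.ker (LinearMap.proj (⟨k, by omega⟩ : Fin n) : (Fin n → F) →ₗ[F] F) := by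
          rw [Submodule.span_le]
          rintro x ⟨i, hi, rfl⟩
          change (Pi.single i (1 : F) : Fin n → F) ⟨k, by omega⟩ = 0
          rw [Pi.single_apply, if_neg]
          intro h5
          rw [← h5] at hi
          exact absurd hi (lt_irrefl _)
        have h5 := h4 h
        change (Pi.single (⟨k, by omega⟩ : Fin n) (1 : F) : Fin n → F) ⟨k, by omega⟩ = 0 at h5
        rw [Pi.single_eq_same] at h5
        exact one_ne_zero h5
      rw [h2, finrank_sup h3, ih (by omega)]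
  refine ⟨⟨B, hmono, ?_, ?_⟩⟩
  · intro i hi
    have : i = 0 := by omega
    subst this
    exact Submodule.finrank_eq_zero.1 (hrank 0 (Nat.zero_le _))
  · intro i _
    rw [finrank_V]
    rcases le_total i n with h | h
    · rw [min_eq_left h, hrank i h]
    · rw [min_eq_right h]
      refine le_antisymm ((Submodule.finrank_le _).trans (by rw [finrank_V])) ?_
      exact (hrank n le_rfl).symm.le.trans (Submodule.finrank_mono (hmono h))

theorem exists_sl_step {c : ℕ} (hc : c < n)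
    (h : ∀ C D : Chain F (Fin n → F) c, ∃ g : _root_.Matrix.SpecialLinearGroup (Fin n) F, g • C = D)
    (C D : Chain F (Fin n → F) (c + 1)) : ∃ g : _root_.Matrix.SpecialLinearGroup (Fin n) F, g • C = D := by
  obtain ⟨C', rfl⟩ := Chain.exists_drop (by rw [finrank_V]; exact hc) C
  obtain ⟨D', rfl⟩ := Chain.exists_drop (by rw [finrank_V]; exact hc) D
  obtain ⟨g, rfl⟩ := h C' D'
  exact ⟨g, by rw [sl_smul, sl_smul, Chain.drop_map]⟩

end chains

end Cfsg.Agent.H131.OddP1
end

-- part: H131/OddP1B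
section
/-!
# The unipotent radical of the stabilizer of a line in `SL_n(q)` (helper131, S4785, part C4)
-/

set_option autoImplicit false
set_option linter.unusedSectionVars false

namespace Cfsg.Agent.H131.OddP1

open Module Matrix Cfsg.Agent.H453.OddM Cfsg.Agent.H131.OddChain

/-! ### A group lemma -/

section grp

theorem dvd_of_modEq {p r a b : ℕ} (hp : p.Prime) (hr : r.Prime) (hrp : r ≠ p) (hba : b ≤ a)
    (h : p ^ b ≡ p ^ a [MOD r]) : r ∣ p ^ (a - b) - 1 := by
  have h1 : r ∣ p ^ a - p ^ b := (Nat.modEq_iff_dvd' (Nat.pow_le_pow_right hp.pos hba)).1 h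
  have h2 : p ^ a - p ^ b = p ^ b * (p ^ (a - b) - 1) := by
    rw [Nat.mul_sub, mul_one, ← pow_add, Nat.add_sub_cancel' hba]
  rw [h2] at h1
  exact (Nat.Coprime.pow_right b ((Nat.coprime_primes hr hp).2 hrp)).dvd_of_dvd_mul_left h1

/-- an element of order `r` acting on a group of order `p ^ N`, `r` a primitive prime divisor of `p ^ N - 1` -/
theorem inv_sub {G : Type*} [Group G] [Finite G] {p r N : ℕ} (hp : p.Prime) (hr : r.Prime) (hrp : r ≠ p)
    {U X : Subgroup G} (hU : Nat.card ↥U = p ^ N) (hXU : X ≤ U) {h : G} (hh : orderOf h = r)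
    (hhU : ∀ u ∈ U, h * u * h⁻¹ ∈ U) (hhX : ∀ u ∈ X, h * u * h⁻¹ ∈ X)
    (hprim : ∀ i, 0 < i → i < N → ¬ r ∣ p ^ i - 1) : X = ⊥ ∨ X = U ∨ ∀ u ∈ U, h * u = u * h := by
  have hrf : Fact r.Prime := ⟨hr⟩
  have key : ∀ Y : Subgroup G, Y ≤ U → (∀ u ∈ Y, h * u * h⁻¹ ∈ Y) → ∃ a b : ℕ, a ≤ N ∧ b ≤ a ∧
      Nat.card ↥Y = p ^ a ∧ Nat.card ↥(Y ⊓ Subgroup.centralizer ({h} : Set G)) = p ^ b ∧ r ∣ p ^ (a - b) - 1 := by
    intro Y hY hhY
    obtain ⟨a, ha, ha'⟩ := (Nat.dvd_prime_pow hp).1 (hU ▸ Subgroup.card_dvd_of_le hY)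
    obtain ⟨b, hb, hb'⟩ := (Nat.dvd_prime_pow hp).1 (ha' ▸ Subgroup.card_dvd_of_le
      (inf_le_left : Y ⊓ Subgroup.centralizer ({h} : Set G) ≤ Y))
    refine ⟨a, b, ha, hb, ha', hb', dvd_of_modEq hp hr hrp hb ?_⟩
    have h1 := Cfsg.Agent.CpAutJ4.card_fix hh (Y : Set G) hhY
    have h2 : Nat.card {a : G // a ∈ (Y : Set G) ∧ h * a = a * h} =
        Nat.card ↥(Y ⊓ Subgroup.centralizer ({h} : Set G)) := by
      refine Nat.card_congr (Equiv.subtypeEquivRight fun a => ?_)
      rw [Subgroup.mem_inf, Subgroup.mem_centralizer_singleton_iff]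
      exact ⟨fun h => ⟨h.1, h.2.symm⟩, fun h => ⟨h.1, h.2.symm⟩⟩
    rw [h2, hb'] at h1
    have h3 : Nat.card ↥(Y : Set G) = p ^ a := ha'
    rw [h3] at h1
    exact h1.symm
  obtain ⟨a, b, ha, hb, hXa, hXb, hd⟩ := key X hXU hhX
  by_cases haN : a = N
  · right; left
    refine Subgroup.eq_of_le_of_card_ge hXU ?_
    rw [hXa, hU, haN]
  by_cases ha0 : a = 0
  · left
    rw [ha0, pow_zero] at hXa
    exact Subgroup.card_eq_one.1 hXa
  have hab : a = b := by
    by_contra hne
    exact hprim (a - b) (by omega) (by omega) hd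
  right; right
  obtain ⟨a', b', ha', hb', hUa, hUb, hd'⟩ := key U le_rfl hhU
  have haN' : a' = N := by
    rw [hU] at hUa
    exact (Nat.pow_right_injective hp.two_le hUa).symm
  -- `b' > 0`
  have hle : X ⊓ Subgroup.centralizer ({h} : Set G) ≤ U ⊓ Subgroup.centralizer ({h} : Set G) :=
    inf_le_inf_right _ hXU
  have hb0 : 0 < b' := by
    by_contra h0
    have h1 : b' = 0 := by omega
    have h2 := Subgroup.card_dvd_of_le hle
    rw [hXb, hUb, h1, pow_zero, Nat.dvd_one] at h2
    have h3 : b = 0 := by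
      by_contra h3
      exact (Nat.one_lt_pow h3 hp.one_lt).ne' h2
    omega
  have hbN : b' = N := by
    by_contra hne
    exact hprim (a' - b') (by omega) (by omega) hd'
  have h1 : U ⊓ Subgroup.centralizer ({h} : Set G) = U :=
    Subgroup.eq_of_le_of_card_ge inf_le_left (by rw [hU, hUb, hbN])
  intro u hu
  rw [← h1] at hu
  exact (Subgroup.mem_centralizer_singleton_iff.1 hu.2).symm

end grp

/-! ### Matrices -/

section mat

variable {F : Type*} [Field F] {n : ℕ}

/-- the action on column vectors -/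
def ac (A : _root_.Matrix.SpecialLinearGroup (Fin n) F) (x : Fin n → F) : Fin n → F := (A : Matrix (Fin n) (Fin n) F) *ᵥ x

theorem ac_def (A : _root_.Matrix.SpecialLinearGroup (Fin n) F) (x : Fin n → F) :
    ac A x = (A : Matrix (Fin n) (Fin n) F) *ᵥ x := rfl

theorem ac_one (x : Fin n → F) : ac (1 : _root_.Matrix.SpecialLinearGroup (Fin n) F) x = x := one_mulVec x

theorem ac_mul (A B : _root_.Matrix.SpecialLinearGroup (Fin n) F) (x : Fin n → F) : ac (A * B) x = ac A (ac B x) :=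
  (mulVec_mulVec x A.1 B.1).symm

theorem ac_add (A : _root_.Matrix.SpecialLinearGroup (Fin n) F) (x y : Fin n → F) : ac A (x + y) = ac A x + ac A y :=
  mulVec_add _ _ _

theorem ac_smul (A : _root_.Matrix.SpecialLinearGroup (Fin n) F) (c : F) (x : Fin n → F) : ac A (c • x) = c • ac A x :=
  mulVec_smul _ _ _

theorem ac_inv (A : _root_.Matrix.SpecialLinearGroup (Fin n) F) (x : Fin n → F) : ac A⁻¹ (ac A x) = x := by
  rw [← ac_mul, inv_mul_cancel, ac_one]

theorem ac_inv' (A : _root_.Matrix.SpecialLinearGroup (Fin n) F) (x : Fin n → F) : ac A (ac A⁻¹ x) = x := by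
  rw [← ac_mul, mul_inv_cancel, ac_one]

/-- the stabilizer of the line of `v` -/
def lineStab (v : Fin n → F) : Subgroup (_root_.Matrix.SpecialLinearGroup (Fin n) F) where
  carrier := {A | ∃ c : F, c ≠ 0 ∧ ac A v = c • v}
  one_mem' := ⟨1, one_ne_zero, by rw [ac_one, one_smul]⟩
  mul_mem' := by
    rintro A B ⟨c, hc, hA⟩ ⟨d, hd, hB⟩
    refine ⟨c * d, mul_ne_zero hc hd, ?_⟩
    rw [ac_mul, hB, ac_smul, hA, smul_smul, mul_comm]
  inv_mem' := by
    rintro A ⟨c, hc, hA⟩
    refine ⟨c⁻¹, inv_ne_zero hc, ?_⟩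
    have h1 : ac A⁻¹ (ac A v) = v := by
      exact ac_inv A v
    rw [hA, ac_smul] at h1
    rw [← h1, smul_smul, inv_mul_cancel₀ hc, one_smul]
    rw [h1]

theorem sl_ext {A B : _root_.Matrix.SpecialLinearGroup (Fin n) F} (h : ∀ x, ac A x = ac B x) : A = B := by
  apply Subtype.ext
  ext i j
  have h1 := congrFun (h (Pi.single j 1)) i
  rw [ac_def, ac_def, mulVec_single_one, mulVec_single_one] at h1
  exact h1

/-- the elements acting trivially on `v` and modulo `v` -/
def rad (v : Fin n → F) : Subgroup (_root_.Matrix.SpecialLinearGroup (Fin n) F) where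
  carrier := {A | ac A v = v ∧ ∀ x, ∃ a : F, ac A x = x + a • v}
  one_mem' := ⟨by rw [ac_one], fun x => ⟨0, by
    rw [ac_one, zero_smul, add_zero]⟩⟩
  mul_mem' := by
    rintro A B ⟨hA, hA'⟩ ⟨hB, hB'⟩
    refine ⟨by rw [ac_mul, hB, hA], fun x => ?_⟩
    obtain ⟨a, ha⟩ := hA' x
    obtain ⟨b, hb⟩ := hB' x
    refine ⟨a + b, ?_⟩
    rw [ac_mul, hb, ac_add, ac_smul, hA, ha, add_smul, add_assoc]
  inv_mem' := by
    rintro A ⟨hA, hA'⟩
    have h1 : ac A⁻¹ v = v := by
      nth_rewrite 1 [← hA]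
      exact ac_inv A v
    refine ⟨h1, fun x => ?_⟩
    obtain ⟨a, ha⟩ := hA' x
    refine ⟨-a, ?_⟩
    have h2 := ac_inv A x
    rw [ha, ac_add, ac_smul, h1] at h2
    rw [neg_smul, ← sub_eq_add_neg, eq_sub_iff_add_eq]
    exact h2

/-- the transvections -/
def tv (v φ : Fin n → F) (h : φ ⬝ᵥ v = 0) : _root_.Matrix.SpecialLinearGroup (Fin n) F :=
  ⟨1 + vecMulVec v φ, by
    rw [vecMulVec_eq Unit, det_one_add_replicateCol_mul_replicateRow, h, add_zero]⟩

theorem tv_ac {v φ : Fin n → F} (h : φ ⬝ᵥ v = 0) (x : Fin n → F) :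
    ac (tv v φ h) x = x + (φ ⬝ᵥ x) • v := by
  change (1 + vecMulVec v φ) *ᵥ x = _
  rw [add_mulVec, one_mulVec, vecMulVec_mulVec, op_smul_eq_smul]

theorem tv_mem {v φ : Fin n → F} (h : φ ⬝ᵥ v = 0) : tv v φ h ∈ rad v :=
  ⟨by rw [tv_ac, h, zero_smul, add_zero], fun x => ⟨_, tv_ac h x⟩⟩

theorem exists_tv {v : Fin n → F} (hv : v ≠ 0) {A : _root_.Matrix.SpecialLinearGroup (Fin n) F} (hA : A ∈ rad v) :
    ∃ (φ : Fin n → F) (h : φ ⬝ᵥ v = 0), A = tv v φ h := by
  obtain ⟨k, hk⟩ := Function.ne_iff.1 hv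
  have hk' : v k ≠ 0 := hk
  let φ : Fin n → F := fun j => (v k)⁻¹ * (A.1 - 1) k j
  have h1 : ∀ x, ac A x = x + (φ ⬝ᵥ x) • v := by
    intro x
    obtain ⟨a, ha⟩ := hA.2 x
    have h2 : φ ⬝ᵥ x = (v k)⁻¹ * ((A.1 - 1) *ᵥ x) k := by
      rw [mulVec, dotProduct, dotProduct, Finset.mul_sum]
      exact Finset.sum_congr rfl fun j _ => mul_assoc _ _ _
    have h3 : (A.1 - 1) *ᵥ x = ac A x - x := by
      rw [sub_mulVec, one_mulVec]
      rfl
    rw [h2, h3, ha, add_sub_cancel_left, Pi.smul_apply, smul_eq_mul, mul_comm a,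
      inv_mul_cancel_left₀ hk']
  have h2 : φ ⬝ᵥ v = 0 := by
    have h3 := h1 v
    rw [hA.1] at h3
    have h4 : (φ ⬝ᵥ v) • v = 0 := by
      have := congrArg (fun y => y - v) h3
      simpa only [_root_.smul_eq_zero, _root_.add_sub_cancel_left, _root_.sub_self] using this.symm
    exact (smul_eq_zero.1 h4).resolve_right hv
  refine ⟨φ, h2, sl_ext fun x => ?_⟩
  rw [h1, tv_ac]

theorem conj_mem_rad {v : Fin n → F} {A B : _root_.Matrix.SpecialLinearGroup (Fin n) F} (hA : A ∈ lineStab v) (hB : B ∈ rad v) :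
    A * B * A⁻¹ ∈ rad v := by
  obtain ⟨c, hc, hAv⟩ := hA
  have h1 : ac A⁻¹ v = c⁻¹ • v := by
    have h1 := ac_inv A v
    rw [hAv, ac_smul] at h1
    rw [← h1, smul_smul, inv_mul_cancel₀ hc, one_smul, h1]
  refine ⟨?_, fun x => ?_⟩
  · rw [ac_mul, ac_mul, h1, ac_smul,
      hB.1, ac_smul, hAv, smul_smul, inv_mul_cancel₀ hc, one_smul]
  · obtain ⟨b, hb⟩ := hB.2 (ac A⁻¹ x)
    refine ⟨b * c, ?_⟩
    rw [ac_mul, ac_mul, hb, ac_add,
      ac_inv', ac_smul, hAv, smul_smul]

/-- the order of the radical -/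
theorem card_rad [Finite F] {v : Fin n → F} (hv : v ≠ 0) : Nat.card ↥(rad v) = Nat.card F ^ (n - 1) := by
  let f : (Fin n → F) →ₗ[F] F :=
    { toFun := fun φ => φ ⬝ᵥ v
      map_add' := fun a b => add_dotProduct a b v
      map_smul' := fun c a => smul_dotProduct c a v }
  have h1 : Nat.card ↥(rad v) = Nat.card ↥(LinearMap.ker f) := by
    refine (Nat.card_congr (Equiv.ofBijective (fun φ : ↥(LinearMap.ker f) =>
      (⟨tv v φ.1 φ.2, tv_mem φ.2⟩ : ↥(rad v))) ⟨?_, ?_⟩)).symm
    · rintro ⟨φ, hφ⟩ ⟨ψ, hψ⟩ h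
      obtain ⟨k, hk⟩ := Function.ne_iff.1 hv
      have hk' : v k ≠ 0 := hk
      have hφ' : φ ⬝ᵥ v = 0 := hφ
      have hψ' : ψ ⬝ᵥ v = 0 := hψ
      have h2 : tv v φ hφ' = tv v ψ hψ' := congrArg Subtype.val h
      refine Subtype.ext (funext fun j => ?_)
      have h3 : ac (tv v φ hφ') (Pi.single j 1) k = ac (tv v ψ hψ') (Pi.single j 1) k := by rw [h2]
      rw [tv_ac, tv_ac, dotProduct_single, dotProduct_single, mul_one, mul_one, Pi.add_apply, Pi.add_apply,
        Pi.smul_apply, Pi.smul_apply, smul_eq_mul, smul_eq_mul] at h3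
      exact mul_right_cancel₀ hk' (add_left_cancel h3)
    · rintro ⟨A, hA⟩
      obtain ⟨φ, hφ, rfl⟩ := exists_tv hv hA
      exact ⟨⟨φ, hφ⟩, rfl⟩
  have h2 : finrank F ↥(LinearMap.ker f) = n - 1 := by
    have h3 := LinearMap.finrank_range_add_finrank_ker f
    have h4 : finrank F ↥(LinearMap.range f) = 1 := by
      have h5 : LinearMap.range f = ⊤ := by
        rw [LinearMap.range_eq_top]
        obtain ⟨k, hk⟩ := Function.ne_iff.1 hv
        have hk' : v k ≠ 0 := hk
        intro c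
        refine ⟨Pi.single k (c * (v k)⁻¹), ?_⟩
        change Pi.single k (c * (v k)⁻¹) ⬝ᵥ v = c
        rw [single_dotProduct, inv_mul_cancel_right₀ hk']
      rw [h5, finrank_top, finrank_self]
    rw [finrank_V] at h3
    omega
  rw [h1, Module.natCard_eq_pow_finrank (K := F), h2]

/-- an element of the line stabilizer centralizing the radical is scalar modulo the radical -/
theorem mem_rad_of_comm [Finite F] {v : Fin n → F} (hv : v ≠ 0) {A : _root_.Matrix.SpecialLinearGroup (Fin n) F}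
    {r : ℕ} (hr : orderOf A = r) (hrq : Nat.Coprime r (Nat.card F - 1)) (hA : A ∈ lineStab v)
    (hcomm : ∀ u ∈ rad v, A * u = u * A) : A ∈ rad v := by
  obtain ⟨c, hc, hAv⟩ := hA
  -- `c = 1`
  have hpow : ∀ k : ℕ, ac (A ^ k) v = c ^ k • v := by
    intro k
    induction k with
    | zero => rw [pow_zero, pow_zero, ac_one, one_smul]
    | succ k ih =>
      rw [pow_succ, ac_mul, hAv, ac_smul, ih, smul_smul, pow_succ, mul_comm]
  have hc1 : c = 1 := by
    have h1 : c ^ r = 1 := by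
      have h2 := hpow r
      rw [← hr, pow_orderOf_eq_one, ac_one, hr] at h2
      have h3 : (c ^ r - 1) • v = 0 := by rw [sub_smul, one_smul, ← h2, sub_self]
      exact sub_eq_zero.1 ((smul_eq_zero.1 h3).resolve_right hv)
    have h2 : c ^ (Nat.card F - 1) = 1 := by
      have := Fintype.ofFinite F
      rw [Nat.card_eq_fintype_card]
      exact FiniteField.pow_card_sub_one_eq_one c hc
    have h3 := pow_gcd_eq_one.2 ⟨h1, h2⟩
    rw [hrq] at h3
    rwa [pow_one] at h3
  subst hc1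
  rw [one_smul] at hAv
  refine ⟨hAv, fun x => ?_⟩
  -- all functionals vanishing on `v` vanish on `A x - x`
  by_contra hcon
  have h1 : ac A x - x ∉ F ∙ v := by
    intro h
    obtain ⟨a, ha⟩ := Submodule.mem_span_singleton.1 h
    exact hcon ⟨a, by rw [ha]; abel⟩
  obtain ⟨f, hf, hfv⟩ := Submodule.exists_le_ker_of_notMem h1
  have hfv' : f v = 0 := hfv (Submodule.mem_span_singleton_self v)
  let φ : Fin n → F := fun i => f (Pi.single i 1)
  have hφ : ∀ y, φ ⬝ᵥ y = f y := by
    intro y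
    rw [dotProduct]
    have h2 : f y = f (∑ i, y i • Pi.single i (1 : F)) := by
      congr 1
      funext j
      simp only [Finset.sum_apply, Pi.single_apply, _root_.Pi.smul_apply, _root_.smul_eq_mul, _root_.mul_ite, _root_.mul_one, _root_.MulZeroClass.mul_zero, _root_.Finset.sum_ite_eq, _root_.Finset.mem_univ, ↓ _root_.reduceIte]
    rw [h2, map_sum]
    refine Finset.sum_congr rfl fun i _ => ?_
    rw [map_smul, smul_eq_mul, mul_comm]
  have hφv : φ ⬝ᵥ v = 0 := by rw [hφ, hfv']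
  have h2 := congrArg (fun B : _root_.Matrix.SpecialLinearGroup (Fin n) F => ac B x) (hcomm _ (tv_mem hφv))
  simp only [ac_mul, tv_ac, ac_add, ac_smul, hAv] at h2
  have h3 : (φ ⬝ᵥ x) • v = (φ ⬝ᵥ (ac A x)) • v := add_left_cancel h2
  have h4 : (f (ac A x - x)) • v = 0 := by
    rw [map_sub, sub_smul, ← hφ, ← hφ, ← h3, sub_self]
  exact hf ((smul_eq_zero.1 h4).resolve_right hv)

end mat

end Cfsg.Agent.H131.OddP1
end

-- part: H131/OddP1C
section
/-!
# A real regular unipotent element of `SL_n(q)`, `n` odd, and a homology of order two (helper131, S4785, part C4)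
-/

set_option autoImplicit false
set_option linter.unusedSectionVars false

namespace Cfsg.Agent.H131.OddP1

open Module Matrix Cfsg.Agent.H453.OddM Cfsg.Agent.H131.OddChain

section

variable {F : Type*} [Field F] {n : ℕ}

/-! ### The regular unipotent element -/

/-- the shift -/
def sh (n : ℕ) (F : Type*) [Field F] : Matrix (Fin n) (Fin n) F :=
  Matrix.of fun i j => if (j : ℕ) = i + 1 then 1 else 0

theorem sh_apply (i j : Fin n) : sh n F i j = if (j : ℕ) = i + 1 then 1 else 0 := rfl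

theorem sh_mulVec (y : Fin n → F) (i : Fin n) :
    (sh n F *ᵥ y) i = if h : (i : ℕ) + 1 < n then y ⟨i + 1, h⟩ else 0 := by
  rw [mulVec, dotProduct]
  by_cases h : (i : ℕ) + 1 < n
  · rw [dif_pos h, Finset.sum_eq_single (⟨i + 1, h⟩ : Fin n)]
    · rw [sh_apply, if_pos rfl, one_mul]
    · intro j _ hj
      rw [sh_apply, if_neg, zero_mul]
      intro h1
      exact hj (Fin.ext h1)
    · intro h1
      exact absurd (Finset.mem_univ _) h1
  · rw [dif_neg h]
    refine Finset.sum_eq_zero fun j _ => ?_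
    rw [sh_apply, if_neg, zero_mul]
    intro h1
    have := j.2
    omega

theorem sh_vecMul (y : Fin n → F) (i : Fin n) :
    (y ᵥ* sh n F) i = if h : 0 < (i : ℕ) then y ⟨i - 1, by omega⟩ else 0 := by
  rw [vecMul, dotProduct]
  by_cases h : 0 < (i : ℕ)
  · rw [dif_pos h, Finset.sum_eq_single (⟨i - 1, by omega⟩ : Fin n)]
    · rw [sh_apply, if_pos, mul_one]
      change (i : ℕ) = (i - 1) + 1
      omega
    · intro j _ hj
      rw [sh_apply, if_neg, mul_zero]
      intro h1
      apply hj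
      apply Fin.ext
      change (j : ℕ) = i - 1
      omega
    · intro h1
      exact absurd (Finset.mem_univ _) h1
  · rw [dif_neg h]
    refine Finset.sum_eq_zero fun j _ => ?_
    rw [sh_apply, if_neg, mul_zero]
    intro h1
    omega

/-- an eigenvector of the shift -/
theorem sh_eigen {y : Fin n → F} {l : F} (h : sh n F *ᵥ y = l • y) (hy : y ≠ 0) :
    ∀ i : Fin n, 0 < (i : ℕ) → y i = 0 := by
  have h1 : ∀ i : Fin n, (if h : (i : ℕ) + 1 < n then y ⟨i + 1, h⟩ else 0) = l * y i := by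
    intro i
    rw [← sh_mulVec, h, Pi.smul_apply, smul_eq_mul]
  have hl : l = 0 := by
    by_contra hl
    apply hy
    -- downwards
    have key : ∀ k : ℕ, ∀ i : Fin n, (i : ℕ) + k + 1 = n → y i = 0 := by
      intro k
      induction k with
      | zero =>
        intro i hi
        have h2 := h1 i
        rw [dif_neg (by omega)] at h2
        exact (mul_eq_zero.1 h2.symm).resolve_left hl
      | succ k ih =>
        intro i hi
        have h2 := h1 i
        rw [dif_pos (by omega), ih ⟨i + 1, by omega⟩ (by change (i : ℕ) + 1 + k + 1 = n; omega)] at h2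
        exact (mul_eq_zero.1 h2.symm).resolve_left hl
    funext i
    exact key (n - 1 - i) i (by have := i.2; omega)
  intro i hi
  have h2 := h1 ⟨i - 1, by omega⟩
  rw [hl, zero_mul] at h2
  have hlt : ((⟨i - 1, by omega⟩ : Fin n) : ℕ) + 1 < n := by
    change (i : ℕ) - 1 + 1 < n
    omega
  rw [dif_pos hlt] at h2
  rw [← h2]
  congr 1
  apply Fin.ext
  change (i : ℕ) = i - 1 + 1
  omega

/-- a left eigenvector of the shift -/
theorem sh_eigen' {y : Fin n → F} {l : F} (h : y ᵥ* sh n F = l • y) (hy : y ≠ 0) :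
    ∀ i : Fin n, (i : ℕ) + 1 < n → y i = 0 := by
  have h1 : ∀ i : Fin n, (if h : 0 < (i : ℕ) then y ⟨i - 1, by omega⟩ else 0) = l * y i := by
    intro i
    rw [← sh_vecMul, h, Pi.smul_apply, smul_eq_mul]
  have hl : l = 0 := by
    by_contra hl
    apply hy
    have key : ∀ k : ℕ, ∀ i : Fin n, (i : ℕ) = k → y i = 0 := by
      intro k
      induction k with
      | zero =>
        intro i hi
        have h2 := h1 i
        rw [dif_neg (by omega)] at h2
        exact (mul_eq_zero.1 h2.symm).resolve_left hl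
      | succ k ih =>
        intro i hi
        have h2 := h1 i
        rw [dif_pos (by omega), ih ⟨i - 1, by omega⟩ (by change (i : ℕ) - 1 = k; omega)] at h2
        exact (mul_eq_zero.1 h2.symm).resolve_left hl
    funext i
    exact key i i rfl
  intro i hi
  have h2 := h1 ⟨i + 1, hi⟩
  rw [hl, zero_mul] at h2
  have hlt : 0 < ((⟨i + 1, hi⟩ : Fin n) : ℕ) := Nat.succ_pos _
  rw [dif_pos hlt] at h2
  rw [← h2]
  congr 1

theorem det_unitri (a : F) : (1 + a • sh n F).det = 1 := by
  rw [Matrix.det_of_isUpperTriangular]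
  · refine Finset.prod_eq_one fun i _ => ?_
    rw [Matrix.add_apply, one_apply_eq, Matrix.smul_apply, sh_apply, if_neg (by omega), smul_zero, add_zero]
  · intro i j hij
    change j < i at hij
    have hij' : (j : ℕ) < i := hij
    rw [Matrix.add_apply, one_apply_ne (ne_of_gt hij), Matrix.smul_apply, sh_apply, if_neg (by omega), smul_zero, add_zero]

/-- `1 + a N` -/
def ut (n : ℕ) {F : Type*} [Field F] (a : F) : _root_.Matrix.SpecialLinearGroup (Fin n) F := ⟨1 + a • sh n F, det_unitri a⟩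

/-- the regular unipotent element `(1 + N) (1 - N)⁻¹` -/
noncomputable def ru (n : ℕ) (F : Type*) [Field F] : _root_.Matrix.SpecialLinearGroup (Fin n) F := ut n 1 * (ut n (-1))⁻¹

/-- the signs -/
def dg (n : ℕ) (F : Type*) [Field F] : Matrix (Fin n) (Fin n) F := diagonal fun i => (-1) ^ (i : ℕ)

theorem dg_sq : dg n F * dg n F = 1 := by
  rw [dg, diagonal_mul_diagonal]
  have h : (fun i : Fin n => (-1 : F) ^ (i : ℕ) * (-1) ^ (i : ℕ)) = 1 := by
    funext i
    rw [← mul_pow, neg_one_mul, neg_neg, one_pow, Pi.one_apply]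
  rw [h]
  exact diagonal_one

theorem dg_sh : dg n F * sh n F = -(sh n F * dg n F) := by
  ext i j
  rw [dg, diagonal_mul, neg_apply, mul_diagonal, sh_apply]
  by_cases h : (j : ℕ) = i + 1
  · rw [if_pos h, h, mul_one, one_mul, pow_succ, mul_neg_one, neg_neg]
  · rw [if_neg h, mul_zero, zero_mul, neg_zero]

/-- the regular unipotent element is real, `n` odd -/
theorem ru_real (hn : Odd n) : IsReal (ru n F) := by
  have hd : (dg n F).det * (dg n F).det = 1 := by rw [← det_mul, dg_sq, det_one]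
  have hdet : ((dg n F).det • dg n F).det = 1 := by
    rw [det_smul, Fintype.card_fin]
    obtain ⟨k, rfl⟩ := hn
    have h1 : (dg (2 * k + 1) F).det ^ (2 * k + 1) * (dg (2 * k + 1) F).det =
        ((dg (2 * k + 1) F).det * (dg (2 * k + 1) F).det) ^ (k + 1) := by ring
    rw [h1, hd, one_pow]
  let g : _root_.Matrix.SpecialLinearGroup (Fin n) F := ⟨(dg n F).det • dg n F, hdet⟩
  have key : ∀ a : F, g * ut n a = ut n (-a) * g := by
    intro a
    apply Subtype.ext
    change ((dg n F).det • dg n F) * (1 + a • sh n F) = (1 + (-a) • sh n F) * ((dg n F).det • dg n F)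
    rw [mul_add, add_mul, mul_one, one_mul, smul_mul_smul_comm, smul_mul_smul_comm, dg_sh, smul_neg, neg_mul,
      neg_smul, mul_comm a]
  refine ⟨g, ?_⟩
  have h1 : g * ut n 1 * g⁻¹ = ut n (-1) := by rw [key, mul_inv_cancel_right]
  have h2 : g * ut n (-1) * g⁻¹ = ut n 1 := by rw [key, mul_inv_cancel_right, neg_neg]
  calc g * ru n F * g⁻¹ = (g * ut n 1 * g⁻¹) * (g * ut n (-1) * g⁻¹)⁻¹ := by rw [ru]; group
    _ = ut n (-1) * (ut n 1)⁻¹ := by rw [h1, h2]
    _ = (ru n F)⁻¹ := by rw [ru]; group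

/-- **eigenvectors of the regular unipotent element** -/
theorem ru_false (h2 : (2 : F) ≠ 0) (hn : 2 ≤ n) {a ψ : Fin n → F} {c : F} (ha : ac (ru n F) a = c • a)
    (hψ : ψ ᵥ* (ru n F : _root_.Matrix.SpecialLinearGroup (Fin n) F).1 = c • ψ) (h : ψ ⬝ᵥ a = 1) : False := by
  -- `y = (1 - N)⁻¹ a`
  obtain ⟨y, hy⟩ : ∃ y, y = ac (ut n (-1))⁻¹ a := ⟨_, rfl⟩
  have hay : a = ac (ut n (-1)) y := by rw [hy, ac_inv']
  have e1 : ac (ut n 1) y = c • ac (ut n (-1)) y := by
    rw [← hay, ← ha, ru, ac_mul, ← hy]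
  have hut : ∀ (b : F) (x : Fin n → F), ac (ut n b) x = x + b • (sh n F *ᵥ x) := by
    intro b x
    change (1 + b • sh n F) *ᵥ x = _
    rw [add_mulVec, one_mulVec, smul_mulVec]
  have e2 : ψ ᵥ* (ut n (1 : F)).1 = c • (ψ ᵥ* (ut n (-1 : F)).1) := by
    have e3 : (ru n F).1 * (ut n (-1 : F)).1 = (ut n (1 : F)).1 := by
      have e4 : ru n F * ut n (-1 : F) = ut n (1 : F) := by rw [ru, inv_mul_cancel_right]
      exact congrArg Subtype.val e4
    rw [← e3, ← vecMul_vecMul, hψ, smul_vecMul]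
  have hut' : ∀ (b : F), ψ ᵥ* (ut n b).1 = ψ + b • (ψ ᵥ* sh n F) := by
    intro b
    change ψ ᵥ* (1 + b • sh n F) = _
    rw [vecMul_add, vecMul_one, vecMul_smul]
  rw [hut, hut, one_smul] at e1
  rw [hut', hut', one_smul] at e2
  have hy0 : y ≠ 0 := by
    rintro rfl
    rw [hay] at h
    have h3 : ac (ut n (-1 : F)) (0 : Fin n → F) = 0 := mulVec_zero _
    rw [h3, dotProduct_zero] at h
    exact zero_ne_one h
  have hψ0 : ψ ≠ 0 := by
    rintro rfl
    rw [zero_dotProduct] at h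
    exact zero_ne_one h
  have e1' : (1 + c) • (sh n F *ᵥ y) = (c - 1) • y := by
    have : y + sh n F *ᵥ y = c • y - c • (sh n F *ᵥ y) := by
      rw [e1, smul_add, neg_smul, one_smul, smul_neg, sub_eq_add_neg]
    rw [add_smul, one_smul, sub_smul, one_smul]
    linear_combination (exp := 1) this
  have e2' : (1 + c) • (ψ ᵥ* sh n F) = (c - 1) • ψ := by
    have : ψ + ψ ᵥ* sh n F = c • ψ - c • (ψ ᵥ* sh n F) := by
      rw [e2, smul_add, neg_smul, one_smul, smul_neg, sub_eq_add_neg]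
    rw [add_smul, one_smul, sub_smul, one_smul]
    linear_combination (exp := 1) this
  by_cases hc : 1 + c = 0
  · rw [hc, zero_smul] at e1'
    have h3 : c - 1 = -2 := by linear_combination hc
    rw [h3] at e1'
    have h4 := (smul_eq_zero.1 e1'.symm).resolve_right hy0
    exact h2 (neg_eq_zero.1 h4)
  · have e3 : sh n F *ᵥ y = ((1 + c)⁻¹ * (c - 1)) • y := by
      rw [mul_smul, ← e1', smul_smul, inv_mul_cancel₀ hc, one_smul]
    have e4 : ψ ᵥ* sh n F = ((1 + c)⁻¹ * (c - 1)) • ψ := by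
      rw [mul_smul, ← e2', smul_smul, inv_mul_cancel₀ hc, one_smul]
    have h3 := sh_eigen e3 hy0
    have h4 := sh_eigen' e4 hψ0
    -- `a = y`
    have h5 : sh n F *ᵥ y = 0 := by
      funext i
      rw [sh_mulVec]
      by_cases hi : (i : ℕ) + 1 < n
      · rw [dif_pos hi, h3 _ (Nat.succ_pos _)]
        rfl
      · rw [dif_neg hi]
        rfl
    rw [hay, hut, h5, smul_zero, add_zero, dotProduct, Finset.sum_eq_zero] at h
    · exact zero_ne_one h
    · intro i _
      by_cases hi : 0 < (i : ℕ)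
      · rw [h3 i hi, mul_zero]
      · rw [h4 i (by omega), zero_mul]

/-! ### The homology of order two -/

/-- `-1 + 2 v ψ` -/
theorem exists_tau (hn : Odd n) {v ψ : Fin n → F} (h : ψ ⬝ᵥ v = 1) :
    ∃ τ : _root_.Matrix.SpecialLinearGroup (Fin n) F, τ * τ = 1 ∧ ∀ x, ac τ x = -x + (2 * (ψ ⬝ᵥ x)) • v := by
  have hdet : (-(1 + vecMulVec v ((-2 : F) • ψ))).det = 1 := by
    rw [det_neg, Fintype.card_fin, hn.neg_one_pow, vecMulVec_eq Unit, det_one_add_replicateCol_mul_replicateRow,
      smul_dotProduct, h, smul_eq_mul]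
    ring
  obtain ⟨τ, h1⟩ : ∃ τ : _root_.Matrix.SpecialLinearGroup (Fin n) F, ∀ x, ac τ x = -x + (2 * (ψ ⬝ᵥ x)) • v := by
    refine ⟨⟨-(1 + vecMulVec v ((-2 : F) • ψ)), hdet⟩, fun x => ?_⟩
    change (-(1 + vecMulVec v ((-2 : F) • ψ))) *ᵥ x = _
    rw [neg_mulVec, add_mulVec, one_mulVec, vecMulVec_mulVec, op_smul_eq_smul, smul_dotProduct, smul_eq_mul, neg_add,
      neg_mul, neg_smul, neg_neg]
  refine ⟨τ, sl_ext fun x => ?_, h1⟩
  rw [ac_mul, ac_one, h1, h1, dotProduct_add, dotProduct_neg, dotProduct_smul, h, smul_eq_mul, mul_one, neg_add,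
    neg_neg]
  have h3 : (2 * (-(ψ ⬝ᵥ x) + 2 * (ψ ⬝ᵥ x))) = 2 * (ψ ⬝ᵥ x) := by ring
  rw [h3, neg_add_cancel_right]

end

end Cfsg.Agent.H131.OddP1
end

-- part: H131/OddP1D
section
/-!
# Subgroups of the stabilizer of a line in `SL_n(q)`, `n` and `q` odd (helper131, S4785, part C4)
-/

set_option autoImplicit false
set_option linter.unusedSectionVars false

namespace Cfsg.Agent.H131.OddP1

open Module Matrix Cfsg.Agent.H453.OddM Cfsg.Agent.H131.OddChain

section

variable {F : Type*} [Field F] {n : ℕ} {H : Subgroup (_root_.Matrix.SpecialLinearGroup (Fin n) F)} {v : Fin n → F}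

theorem toLin_eq (A : _root_.Matrix.SpecialLinearGroup (Fin n) F) (x : Fin n → F) : SpecialLinearGroup.toLin' A x = ac A x := by
  rw [SpecialLinearGroup.toLin'_apply, Matrix.toLin'_apply]
  rfl

/-- the case `O_p(P_1) ≤ H` -/
theorem false_of_rad [Finite F] (hn : Odd n) (hn3 : 3 ≤ n) (hH : RO _ H) (hv : v ≠ 0) (hHv : H ≤ lineStab v)
    (hr : rad v ≤ H) : False := by
  let ρ : ↥H →* ((Fin n → F) ≃ₗ[F] (Fin n → F)) := (SpecialLinearGroup.toLin' (R := F) (n := Fin n)).comp H.subtype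
  have A : Sit (↥H) ρ v := by
    refine ⟨fun c h C => rfl, hv, fun h => ?_, fun φ hφ => ?_⟩
    · obtain ⟨c, -, hc⟩ := hHv h.2
      refine Submodule.mem_span_singleton.2 ⟨c, ?_⟩
      change c • v = SpecialLinearGroup.toLin' (h : _root_.Matrix.SpecialLinearGroup (Fin n) F) v
      rw [toLin_eq, hc]
    · let w : Fin n → F := fun i => φ (Pi.single i 1)
      have hw : ∀ y, w ⬝ᵥ y = φ y := by
        intro y
        rw [dotProduct]
        have h2 : φ y = φ (∑ i, y i • Pi.single i (1 : F)) := by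
          congr 1
          funext j
          simp only [Finset.sum_apply, Pi.single_apply, _root_.Pi.smul_apply, _root_.smul_eq_mul, _root_.mul_ite, _root_.mul_one, _root_.MulZeroClass.mul_zero, _root_.Finset.sum_ite_eq, _root_.Finset.mem_univ, ↓ _root_.reduceIte]
        rw [h2, map_sum]
        refine Finset.sum_congr rfl fun i _ => ?_
        rw [map_smul, smul_eq_mul, mul_comm]
      have hwv : w ⬝ᵥ v = 0 := by rw [hw, hφ]
      refine ⟨⟨tv v w hwv, hr (tv_mem hwv)⟩, fun x => ?_⟩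
      change SpecialLinearGroup.toLin' (tv v w hwv) x = _
      rw [toLin_eq, tv_ac, hw]
  obtain ⟨C1⟩ := exists_chain (F := F) (n := n)
  have t1 : ∀ C D : Chain F (Fin n → F) 1, ∃ g : _root_.Matrix.SpecialLinearGroup (Fin n) F, g • C = D := exists_sl (by omega)
  have t2 := exists_sl_step (by omega) t1
  have t3 := exists_sl_step (by omega) t2
  refine A.not_all_odd (by rw [finrank_V]; exact hn3) (by rw [finrank_V]; exact hn) ?_ ?_ ?_
  · exact ro_orb_set hH C1 (t1 C1)
  · exact ro_orb_set hH C1.drop (t2 C1.drop)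
  · exact ro_orb_set hH C1.drop.drop (t3 C1.drop.drop)

/-- the case `O_p(P_1) ∩ H = 1` -/
theorem false_of_bot [Finite F] (h2 : (2 : F) ≠ 0) (hn : Odd n) (hn3 : 3 ≤ n) (hH : RO _ H) (hv : v ≠ 0)
    (hHv : H ≤ lineStab v) (hr : H ⊓ rad v = ⊥) : False := by
  obtain ⟨k, hk⟩ := Function.ne_iff.1 hv
  have hk' : v k ≠ 0 := hk
  obtain ⟨ψ, hψ⟩ : ∃ ψ : Fin n → F, ψ ⬝ᵥ v = 1 := by
    refine ⟨Pi.single k (v k)⁻¹, ?_⟩
    rw [single_dotProduct, inv_mul_cancel₀ hk']
  obtain ⟨τ, hττ, hτ⟩ := exists_tau hn hψ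
  have hτv : ac τ v = v := by
    rw [hτ, hψ, mul_one, two_smul, neg_add_cancel_left]
  have hτP : τ ∈ lineStab v := ⟨1, one_ne_zero, by rw [hτv, one_smul]⟩
  -- a conjugate of `τ` in `H`
  obtain ⟨g, hg⟩ : ∃ g ∈ lineStab v, g * τ * g⁻¹ ∈ H := by
    have hidx : Odd (H.subgroupOf (lineStab v)).index := by
      have h1 : (H.subgroupOf (lineStab v)).index * (lineStab v).index = H.index :=
        Subgroup.relIndex_mul_index hHv
      refine Odd.of_dvd_nat hH.odd_index ?_
      rw [← h1]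
      exact Dvd.intro _ rfl
    have hQ : IsPGroup 2 ↥(Subgroup.zpowers (⟨τ, hτP⟩ : ↥(lineStab v))) := by
      refine IsPGroup.of_card_dvd_pow (n := 1) ?_
      rw [Nat.card_zpowers, pow_one]
      refine orderOf_dvd_of_pow_eq_one ?_
      rw [pow_two]
      exact Subtype.ext hττ
    obtain ⟨g, hg⟩ := Cov.two_group hidx hQ
    exact ⟨g, g.2, (hg _ (Subgroup.mem_zpowers _) :)⟩
  obtain ⟨hgP, hgH⟩ := hg
  obtain ⟨c, hc, hgv⟩ := hgP
  have hgv' : ac g⁻¹ v = c⁻¹ • v := by
    have h1 := ac_inv g v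
    rw [hgv, ac_smul] at h1
    rw [← h1, smul_smul, inv_mul_cancel₀ hc, one_smul, h1]
  obtain ⟨τ', hτ'⟩ : ∃ τ', τ' = g * τ * g⁻¹ := ⟨_, rfl⟩
  have hτ'2 : τ'⁻¹ = τ' := by
    rw [inv_eq_iff_mul_eq_one, hτ']
    calc g * τ * g⁻¹ * (g * τ * g⁻¹) = g * (τ * τ) * g⁻¹ := by group
      _ = 1 := by rw [hττ]; group
  have hτ'v : ac τ' v = v := by
    rw [hτ', ac_mul, ac_mul, hgv', ac_smul, hτv, ac_smul, hgv, smul_smul, inv_mul_cancel₀ hc, one_smul]
  have hτ'x : ∀ x, ∃ a : F, ac τ' x = -x + a • v := by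
    intro x
    refine ⟨2 * (ψ ⬝ᵥ ac g⁻¹ x) * c, ?_⟩
    have hneg : ∀ y, ac g (-y) = -ac g y := fun y => mulVec_neg _ _
    rw [hτ', ac_mul, ac_mul, hτ, ac_add, hneg, ac_inv', ac_smul, hgv, smul_smul]
  have hcomm : ∀ h ∈ H, h * τ' = τ' * h := by
    intro h hh
    obtain ⟨d, hd, hhv⟩ := hHv hh
    have hhv' : ac h⁻¹ v = d⁻¹ • v := by
      have h1 := ac_inv h v
      rw [hhv, ac_smul] at h1
      rw [← h1, smul_smul, inv_mul_cancel₀ hd, one_smul, h1]
    have h1 : h * τ' * h⁻¹ * τ'⁻¹ ∈ H ⊓ rad v := by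
      refine ⟨H.mul_mem (H.mul_mem (H.mul_mem hh (hτ' ▸ hgH)) (H.inv_mem hh)) (H.inv_mem (hτ' ▸ hgH)), ?_, ?_⟩
      · rw [hτ'2, ac_mul, ac_mul, ac_mul, hτ'v, hhv', ac_smul, hτ'v, ac_smul, hhv, smul_smul, inv_mul_cancel₀ hd,
          one_smul]
      · intro x
        obtain ⟨a, ha⟩ := hτ'x x
        obtain ⟨b, hb⟩ := hτ'x (ac h⁻¹ (ac τ' x))
        have hneg : ∀ y, ac h (-y) = -ac h y := fun y => mulVec_neg _ _
        refine ⟨b * d - a, ?_⟩
        rw [hτ'2, ac_mul, ac_mul, ac_mul, hb, ac_add, hneg, ac_inv', ha, ac_smul, hhv, smul_smul, sub_smul, neg_add,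
          neg_neg, add_assoc, sub_eq_neg_add]
    rw [hr, Subgroup.mem_bot, mul_inv_eq_one, mul_inv_eq_iff_eq_mul] at h1
    exact h1
  -- the regular unipotent element
  obtain ⟨g', hg'⟩ := hH.exists_conj (ru_real (F := F) hn)
  have hc1 := hcomm _ hg'
  obtain ⟨k0, hk0⟩ : ∃ k0, k0 = g'⁻¹ * g := ⟨_, rfl⟩
  have hc2 : ru n F * (k0 * τ * k0⁻¹) = (k0 * τ * k0⁻¹) * ru n F := by
    rw [hτ'] at hc1
    calc ru n F * (k0 * τ * k0⁻¹) = g'⁻¹ * (g' * ru n F * g'⁻¹ * (g * τ * g⁻¹)) * g' := by rw [hk0]; group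
      _ = g'⁻¹ * (g * τ * g⁻¹ * (g' * ru n F * g'⁻¹)) * g' := by rw [hc1]
      _ = _ := by rw [hk0]; group
  obtain ⟨a, ha⟩ : ∃ a, a = ac k0 v := ⟨_, rfl⟩
  obtain ⟨φ, hφ⟩ : ∃ φ : Fin n → F, ∀ x, φ ⬝ᵥ x = ψ ⬝ᵥ ac k0⁻¹ x :=
    ⟨ψ ᵥ* (k0⁻¹).1, fun x => (dotProduct_mulVec ψ (k0⁻¹).1 x).symm⟩
  have hφa : φ ⬝ᵥ a = 1 := by rw [hφ, ha, ac_inv, hψ]
  have ha0 : a ≠ 0 := by
    rintro h
    rw [h, dotProduct_zero] at hφa
    exact zero_ne_one hφa
  have hτ'' : ∀ x, ac (k0 * τ * k0⁻¹) x = -x + (2 * (φ ⬝ᵥ x)) • a := by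
    intro x
    have hneg : ∀ y, ac k0 (-y) = -ac k0 y := fun y => mulVec_neg _ _
    rw [ac_mul, ac_mul, hτ, ac_add, hneg, ac_inv', ac_smul, ← ha, hφ]
  have hkey : ∀ x, (φ ⬝ᵥ x) • ac (ru n F) a = (φ ⬝ᵥ ac (ru n F) x) • a := by
    intro x
    have h3 : ac (ru n F * (k0 * τ * k0⁻¹)) x = ac ((k0 * τ * k0⁻¹) * ru n F) x := by rw [hc2]
    have hneg : ∀ y, ac (ru n F) (-y) = -ac (ru n F) y := fun y => mulVec_neg _ _
    rw [ac_mul, ac_mul (k0 * τ * k0⁻¹), hτ'', hτ'', ac_add, hneg, ac_smul] at h3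
    have h4 := add_left_cancel h3
    rw [mul_smul, mul_smul] at h4
    exact smul_right_injective _ h2 h4
  have h5 := hkey a
  rw [hφa, one_smul] at h5
  refine ru_false h2 (by omega) h5 ?_ hφa
  funext j
  have h6 := hkey (Pi.single j 1)
  rw [h5, smul_smul] at h6
  have h7 : (φ ⬝ᵥ Pi.single j 1) * (φ ⬝ᵥ ac (ru n F) a) = φ ⬝ᵥ ac (ru n F) (Pi.single j 1) := by
    have h8 : ((φ ⬝ᵥ Pi.single j 1) * (φ ⬝ᵥ ac (ru n F) a) - φ ⬝ᵥ ac (ru n F) (Pi.single j 1)) • a = 0 := by
      rw [sub_smul, h6, sub_self]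
    exact sub_eq_zero.1 ((smul_eq_zero.1 h8).resolve_right ha0)
  rw [dotProduct_single, mul_one] at h7
  rw [Pi.smul_apply, smul_eq_mul, mul_comm, h7]
  have h9 := dotProduct_mulVec φ (ru n F).1 (Pi.single j 1)
  rw [dotProduct_single, mul_one] at h9
  exact h9.symm

/-- **the stabilizer of a line in `SL_n(q)`** -/
theorem sl_false [Finite F] (h2 : (2 : F) ≠ 0) (hn : Odd n) (hn3 : 3 ≤ n) {p r N : ℕ} (hp : p.Prime) (hr : r.Prime)
    (hrp : r ≠ p) (hN : Nat.card F ^ (n - 1) = p ^ N) (hrq : Nat.Coprime r (Nat.card F - 1))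
    (hprim : ∀ i, 0 < i → i < N → ¬ r ∣ p ^ i - 1) (hreal : RealP (_root_.Matrix.SpecialLinearGroup (Fin n) F) r) (hH : RO _ H)
    (hv : v ≠ 0) (hHv : H ≤ lineStab v) : False := by
  obtain ⟨x, hx, hxr⟩ := hreal
  obtain ⟨g, hg⟩ := hH.exists_conj hxr
  have ho : orderOf (g * x * g⁻¹) = r := by
    rw [← hx]
    exact orderOf_injective (MulAut.conj g).toMonoidHom (MulAut.conj g).injective x
  have hU : Nat.card ↥(rad v) = p ^ N := by rw [card_rad hv, hN]
  rcases inv_sub hp hr hrp hU (X := H ⊓ rad v) inf_le_right ho (fun u hu => conj_mem_rad (hHv hg) hu)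
    (fun u hu => ⟨H.mul_mem (H.mul_mem hg hu.1) (H.inv_mem hg), conj_mem_rad (hHv hg) hu.2⟩) hprim with h | h | h
  · exact false_of_bot h2 hn hn3 hH hv hHv h
  · exact false_of_rad hn hn3 hH hv hHv (by rw [← h]; exact inf_le_left)
  · have h1 := mem_rad_of_comm hv ho hrq (hHv hg) h
    have h3 : r ∣ p ^ N := by
      rw [← hU, ← ho, ← Subgroup.orderOf_mk _ h1]
      exact orderOf_dvd_natCard _
    exact hrp ((Nat.prime_dvd_prime_iff_eq hr hp).1 (hr.dvd_of_dvd_pow h3))

end

end Cfsg.Agent.H131.OddP1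
end

-- part: H131/OddP1
section
/-!
# Reducible subgroups of `PSL_n(q)`, `n` and `q` odd (helper131, S4785, part C4)

`par_psl` : `n ≥ 5` and `q` odd, `R ≤ PSL_n(q)` with `RO _ R` stabilizes no point and no hyperplane.
-/

set_option autoImplicit false
set_option linter.unusedSectionVars false

namespace Cfsg.Agent.H131.OddP1

open Module Matrix Cfsg Cfsg.Geo Cfsg.Agent.H453.OddM Cfsg.Agent.H131.OddChain Cfsg.Agent.H304.PslT

section

variable {F : Type*} [Field F] {n : ℕ}

/-! ### Transpose inverse -/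

theorem tr_mul (A B : _root_.Matrix.SpecialLinearGroup (Fin n) F) : (A * B).transpose = B.transpose * A.transpose :=
  Subtype.ext (transpose_mul A.1 B.1)

theorem tr_one : (1 : _root_.Matrix.SpecialLinearGroup (Fin n) F).transpose = 1 := Subtype.ext transpose_one

theorem tr_tr (A : _root_.Matrix.SpecialLinearGroup (Fin n) F) : A.transpose.transpose = A := Subtype.ext (transpose_transpose A.1)

theorem tr_inv (A : _root_.Matrix.SpecialLinearGroup (Fin n) F) : (A.transpose)⁻¹ = (A⁻¹).transpose := by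
  rw [inv_eq_iff_mul_eq_one, ← tr_mul, inv_mul_cancel, tr_one]

/-- transpose inverse -/
def ti (n : ℕ) (F : Type*) [Field F] : _root_.Matrix.SpecialLinearGroup (Fin n) F ≃* _root_.Matrix.SpecialLinearGroup (Fin n) F where
  toFun A := (A⁻¹).transpose
  invFun A := (A⁻¹).transpose
  left_inv A := by
    change (((A⁻¹).transpose)⁻¹).transpose = A
    rw [tr_inv, tr_tr, inv_inv]
  right_inv A := by
    change (((A⁻¹).transpose)⁻¹).transpose = A
    rw [tr_inv, tr_tr, inv_inv]
  map_mul' A B := by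
    rw [_root_.mul_inv_rev, tr_mul]

variable [Fintype F]

/-- **stabilizers of lines in `SL_n(q)`** -/
theorem sl_line (hn : Odd n) (hn5 : 5 ≤ n) (hq : ¬ 2 ∣ Fintype.card F) {H : Subgroup (_root_.Matrix.SpecialLinearGroup (Fin n) F)}
    (hH : RO _ H) {v : Fin n → F} (hv : v ≠ 0) (hHv : H ≤ lineStab v) : False := by
  obtain ⟨f, hp, hf⟩ := FiniteField.card F (ringChar F)
  generalize ringChar F = p at hp hf
  have hcard : Nat.card F = p ^ (f : ℕ) := by rw [Nat.card_eq_fintype_card, hf]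
  have hf1 : 1 ≤ (f : ℕ) := f.2
  have hp2 : p ≠ 2 := by
    rintro rfl
    rw [hf] at hq
    exact hq (dvd_pow_self 2 (by omega))
  have h2 : (2 : F) ≠ 0 := by
    intro h0
    have h1 : (ringChar F) ∣ 2 := ringChar.dvd (by exact_mod_cast h0)
    obtain ⟨g, hp', hg⟩ := FiniteField.card F (ringChar F)
    have h3 : ringChar F = 2 := (Nat.prime_dvd_prime_iff_eq hp' Nat.prime_two).1 h1
    rw [h3] at hg
    rw [hg] at hq
    exact hq (dvd_pow_self 2 g.ne_zero)
  obtain ⟨k, hk⟩ := hn
  have hNf : (f : ℕ) * (n - 1) = (f : ℕ) * (2 * k) := by rw [hk, Nat.add_sub_cancel]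
  obtain ⟨N, hN⟩ : ∃ N, N = (f : ℕ) * (n - 1) := ⟨_, rfl⟩
  have hN4 : 4 ≤ N := by
    rw [hN]
    calc 4 = 1 * 4 := rfl
      _ ≤ (f : ℕ) * (n - 1) := Nat.mul_le_mul hf1 (by omega)
  have hNf' : (f : ℕ) < N := by
    rw [hN]
    calc (f : ℕ) = (f : ℕ) * 1 := (mul_one _).symm
      _ < (f : ℕ) * (n - 1) := Nat.mul_lt_mul_of_pos_left (by omega) (by omega)
  obtain ⟨r, hr, hrd, -, hrp⟩ := Lib.Zsigmondy.exists_primitive (a := p) (n := N) hp.two_le (by omega)
    (fun h => by omega) (fun h => hp2 h.1)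
  have hrp' : r ≠ p := fun h => hrp (h ▸ dvd_rfl)
  have hrq : Nat.Coprime r (Nat.card F - 1) := by
    rw [hr.coprime_iff_not_dvd, hcard, hrd]
    intro h
    exact absurd (Nat.le_of_dvd (by omega) h) (by omega)
  have hr2 : r ≠ 2 := by
    rintro rfl
    have h1 : 2 ∣ Nat.card F - 1 := by
      rw [Nat.card_eq_fintype_card]
      omega
    rw [Nat.Coprime, Nat.gcd_eq_left h1] at hrq
    exact absurd hrq (by norm_num)
  have hreal : RealP (_root_.Matrix.SpecialLinearGroup (Fin n) F) r := by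
    refine realP_sl h2 (k := k) (by omega) (by omega) (hr.odd_of_ne_two hr2) ?_
    have h1 : r ∣ p ^ ((f : ℕ) * (n - 1)) - 1 := (hrd _).2 (by rw [hN])
    have h3 : p ^ ((f : ℕ) * (n - 1)) - 1 = (Fintype.card F ^ k + 1) * (Fintype.card F ^ k - 1) := by
      rw [hNf, pow_mul, ← hf, mul_comm 2 k, pow_mul]
      have := Nat.sq_sub_sq (Fintype.card F ^ k) 1
      rwa [one_pow] at this
    rw [h3] at h1
    rcases (Nat.Prime.dvd_mul hr).1 h1 with h4 | h4
    · exact Or.inr h4
    · exact Or.inl h4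
  refine sl_false h2 ⟨k, hk⟩ (by omega) hp hr hrp' (N := N) ?_ hrq ?_ hreal hH hv hHv
  · rw [hcard, ← pow_mul, hN]
  · intro i hi hiN h
    rw [hrd] at h
    exact absurd (Nat.le_of_dvd hi h) (by omega)

theorem line_of_stab {H : Subgroup (_root_.Matrix.SpecialLinearGroup (Fin n) F)} {W : Submodule F (Fin n → F)}
    (hW : finrank F W = 1) (h : ∀ A ∈ H, ∀ x ∈ W, ac A x ∈ W) : ∃ v : Fin n → F, v ≠ 0 ∧ H ≤ lineStab v := by
  obtain ⟨⟨v, hvW⟩, hv, hall⟩ := finrank_eq_one_iff'.1 hW
  have hv0 : v ≠ 0 := fun h => hv (Subtype.ext h)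
  refine ⟨v, hv0, fun A hA => ?_⟩
  obtain ⟨c, hc⟩ := hall ⟨_, h A hA v hvW⟩
  have hc' : c • v = ac A v := congrArg Subtype.val hc
  refine ⟨c, ?_, hc'.symm⟩
  rintro rfl
  rw [zero_smul] at hc'
  apply hv0
  rw [← ac_inv A v, ← hc']
  exact mulVec_zero _

theorem line_of_hyp {H : Subgroup (_root_.Matrix.SpecialLinearGroup (Fin n) F)} {W : Submodule F (Fin n → F)} (hn : 0 < n)
    (hW : finrank F W = n - 1) (h : ∀ A ∈ H, ∀ x ∈ W, ac A x ∈ W) :
    ∃ v : Fin n → F, v ≠ 0 ∧ H.comap (ti n F).toMonoidHom ≤ lineStab v := by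
  have hlt : W < ⊤ := by
    rw [lt_top_iff_ne_top]
    rintro rfl
    rw [finrank_top, finrank_V] at hW
    omega
  obtain ⟨f, hf, hWf⟩ := Submodule.exists_le_ker_of_lt_top W hlt
  have hker : W = LinearMap.ker f := by
    refine Submodule.eq_of_le_of_finrank_eq hWf ?_
    have h3 := LinearMap.finrank_range_add_finrank_ker f
    rw [LinearMap.range_eq_top.2 (LinearMap.surjective hf), finrank_top, finrank_self, finrank_V] at h3
    omega
  let ψ : Fin n → F := fun i => f (Pi.single i 1)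
  have hψ : ∀ y, ψ ⬝ᵥ y = f y := by
    intro y
    rw [dotProduct]
    have h2 : f y = f (∑ i, y i • Pi.single i (1 : F)) := by
      congr 1
      funext j
      simp only [Finset.sum_apply, Pi.single_apply, _root_.Pi.smul_apply, _root_.smul_eq_mul, _root_.mul_ite, _root_.mul_one, _root_.MulZeroClass.mul_zero, _root_.Finset.sum_ite_eq, _root_.Finset.mem_univ, ↓ _root_.reduceIte]
    rw [h2, map_sum]
    refine Finset.sum_congr rfl fun i _ => ?_
    rw [map_smul, smul_eq_mul, mul_comm]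
  have hψ0 : ψ ≠ 0 := by
    intro h0
    apply hf
    refine LinearMap.ext fun y => ?_
    rw [← hψ, h0, zero_dotProduct]
    rfl
  obtain ⟨x0, hx0⟩ := LinearMap.surjective hf 1
  refine ⟨ψ, hψ0, fun A hA => ?_⟩
  -- `B = (A⁻¹)ᵀ` stabilizes `ker ψ`
  have hB : (A⁻¹).transpose ∈ H := hA
  have h1 : ∀ x, ψ ⬝ᵥ ac (A⁻¹).transpose x = (ψ ⬝ᵥ ac (A⁻¹).transpose x0) * (ψ ⬝ᵥ x) := by
    intro x
    have h2 : x - (ψ ⬝ᵥ x) • x0 ∈ W := by
      rw [hker, LinearMap.mem_ker, map_sub, map_smul, hx0, ← hψ, smul_eq_mul, mul_one, sub_self]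
    have h3 := h _ hB _ h2
    rw [hker, LinearMap.mem_ker, ← hψ] at h3
    have h4 : ac (A⁻¹).transpose (x - (ψ ⬝ᵥ x) • x0) = ac (A⁻¹).transpose x - (ψ ⬝ᵥ x) • ac (A⁻¹).transpose x0 := by
      rw [ac_def, ac_def, ac_def, mulVec_sub, mulVec_smul]
    rw [h4, dotProduct_sub, dotProduct_smul, sub_eq_zero, smul_eq_mul] at h3
    rw [h3, mul_comm]
  have h2 : ac A⁻¹ ψ = (ψ ⬝ᵥ ac (A⁻¹).transpose x0) • ψ := by
    funext j
    have h3 := h1 (Pi.single j 1)
    rw [dotProduct_single, mul_one] at h3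
    rw [Pi.smul_apply, smul_eq_mul, ← h3]
    have h4 : ψ ⬝ᵥ ac (A⁻¹).transpose (Pi.single j 1) = (ψ ᵥ* ((A⁻¹).1)ᵀ) ⬝ᵥ Pi.single j 1 :=
      dotProduct_mulVec ψ ((A⁻¹).1)ᵀ (Pi.single j 1)
    rw [h4, vecMul_transpose, dotProduct_single, mul_one]
    rfl
  have h3 : A⁻¹ ∈ lineStab ψ := by
    refine ⟨_, ?_, h2⟩
    intro h0
    rw [h0, zero_smul] at h2
    apply hψ0
    rw [← ac_inv' A ψ, h2]
    exact mulVec_zero _
  exact inv_mem_iff.1 h3

/-- **the reducible case** -/
theorem par_psl (hn : Odd n) (hn5 : 5 ≤ n) (hq : ¬ 2 ∣ Fintype.card F)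
    {R : Subgroup (ProjectiveSpecialLinearGroup (Fin n) F)} (hR : RO _ R) {W : Submodule F (Fin n → F)}
    (hW : finrank F W = 1 ∨ finrank F W = n - 1) (h : pre R ≤ subspaceStabilizer W) : False := by
  have hH : RO _ (R.comap (pr n F)) := ro_comap (pr n F) (QuotientGroup.mk'_surjective _) hR
  have hst : ∀ A ∈ R.comap (pr n F), ∀ x ∈ W, ac A x ∈ W := by
    intro A hA x hx
    have h1 : Matrix.SpecialLinearGroup.toGL A ∈ subspaceStabilizer W := h ⟨A, hA, rfl⟩
    exact (h1 x).1 hx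
  rcases hW with hW | hW
  · obtain ⟨v, hv, hHv⟩ := line_of_stab hW hst
    exact sl_line hn hn5 hq hH hv hHv
  · obtain ⟨v, hv, hHv⟩ := line_of_hyp (by omega) hW hst
    exact sl_line hn hn5 hq (hH.comap (ti n F)) hv hHv

end

end Cfsg.Agent.H131.OddP1
end

private theorem dce_ed64016bcb82 : _root_.True := by
  try have : _root_.True := by simp only [_root_.Cfsg.Agent.H683.OddM.dg.eq_1]
  try have : _root_.True := by simp only [_root_.Cfsg.Agent.H131.OddP1.ru.eq_1]
  try have : _root_.True := by simp only [_root_.Cfsg.Agent.H131.OddP1.tv.congr_simp]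
  try have : _root_.True := by simp only [_root_.Cfsg.Agent.H131.OddP1.dg.eq_1]
  exact _root_.True.intro
end

-- part: H746/OddM/ThreeU
section
prune_inst 0x344005006400000000008502100020203c0004900000080008c20a400209a0600000a0401210110200a800004008002811000480420000000a000000013c06090000000091080000000000010080000000000000000000000000000000010004000400000
set_option linter.all false
open scoped Cfsg.Agent.FastGrp

/-!
# S4785, the groups `PSU_3(q)`, `q` odd (helper746, TEAM ODDM)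
-/

set_option autoImplicit false

namespace Cfsg.Agent.H746.OddM.ThreeU

open Cfsg Cfsg.Geo Matrix Cfsg.Agent.LieClassical.HermBasic Cfsg.Agent.LieClassical.HermSiegel
  Cfsg.Agent.H746.OddM.Three Cfsg.Agent.H453.OddM Cfsg.Agent.H918
open scoped MatrixGroups

variable {F : Type*} [Field F] [Fintype F] {q : ℕ}

local notation "V3" => Fin 3 → F
local notation "M3" => Matrix (Fin 3) (Fin 3) F

/-- **a unitary transvection is in no real subfield group** -/
theorem not_orth (hF : Fintype.card F = q ^ 2) (h2 : (2 : F) ≠ 0) {F₀ : Subfield F} {P : GL (Fin 3) F}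
    (hc : Fintype.card F = Nat.card F₀ ^ 2) (hP : IsFormRationalStructure (hermForm 3 F q) F₀ 1 P)
    {A : GL (Fin 3) F} (hAU : A ∈ GU 3 F q) (hA : IsTv (A : M3)) : A ∉ subfieldSubgroup F₀ P := by
  classical
  intro hmem
  obtain ⟨c, hc0, hB⟩ := Cfsg.Agent.H914.mem_subfieldSubgroup_iff.1 hmem
  have hq0 : q ≠ 0 := (q_pos hF).ne'
  have hcard : Nat.card F₀ = q := by
    have : Nat.card F₀ ^ 2 = q ^ 2 := by rw [← hc, hF]
    exact Nat.pow_left_injective two_ne_zero this
  have hfix : ∀ x ∈ F₀, x ^ q = x := by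
    intro x hx
    have : Fintype F₀ := Fintype.ofFinite F₀
    have h1 := FiniteField.pow_card (⟨x, hx⟩ : F₀)
    rw [← Nat.card_eq_fintype_card, hcard] at h1
    exact congrArg Subtype.val h1
  have hPP : (P : M3) * ((P⁻¹ : GL (Fin 3) F) : M3) = 1 := by rw [← Units.val_mul, mul_inv_cancel, Units.val_one]
  have hPP' : ((P⁻¹ : GL (Fin 3) F) : M3) * (P : M3) = 1 := by rw [← Units.val_mul, inv_mul_cancel, Units.val_one]
  set A' : M3 := ((P⁻¹ * A * P : GL (Fin 3) F) : M3) with hA'
  have hPA : (P : M3) * A' = (A : M3) * (P : M3) := by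
    rw [hA', Units.val_mul, Units.val_mul, ← Matrix.mul_assoc, ← Matrix.mul_assoc, hPP, Matrix.one_mul]
  have hA'tv : IsTv A' := by
    have := hA.conj P⁻¹
    rw [inv_inv] at this
    rw [hA', Units.val_mul, Units.val_mul]
    exact this
  set κ : F := c / c ^ q with hκ
  have hpow : ∀ i j, A' i j ^ q = κ * A' i j := by
    intro i j
    have h1 := hfix _ (hB i j)
    rw [mul_pow] at h1
    rw [hκ, div_mul_eq_mul_div, eq_div_iff (pow_ne_zero _ hc0), ← h1]
    ring
  -- the symmetric form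
  let fr : V3 → V3 := fun y i => y i ^ q
  let B : V3 → V3 → F := fun x y => hermForm 3 F q ((P : M3) *ᵥ x) ((P : M3) *ᵥ fr y)
  have hfradd : ∀ x y, fr (x + y) = fr x + fr y := by
    intro x y
    ext i
    exact add_pow_q hF _ _
  have hfrsm : ∀ (a : F) x, fr (a • x) = (a ^ q) • fr x := by
    intro a x
    ext i
    simp [fr, mul_pow]
  have hBb : IsBilinearForm B := by
    refine ⟨fun x y v => ?_, fun a x v => ?_, fun v x y => ?_, fun a v x => ?_⟩
    · simp only [B, Matrix.mulVec_add, herm_add_left]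
    · simp only [B, Matrix.mulVec_smul, herm_smul_left]
    · simp only [B, hfradd, Matrix.mulVec_add, herm_add_right hF]
    · simp only [B, hfrsm, Matrix.mulVec_smul, herm_smul_right, pow_q_pow_q hF]
  have hfrs : ∀ i : Fin 3, fr (Pi.single i 1) = Pi.single i 1 := by
    intro i
    ext j
    by_cases hj : j = i
    · subst hj; simp [fr]
    · simp [fr, hj, hq0]
  have hBs : ∀ i j : Fin 3, B (Pi.single i 1) (Pi.single j 1) = B (Pi.single j 1) (Pi.single i 1) := by
    intro i j
    simp only [B, hfrs]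
    rw [herm_swap hF]
    apply hfix
    have := hP (Pi.single j 1) (Pi.single i 1) ?_ ?_
    · rwa [one_mul] at this
    · intro k
      by_cases hk : k = j
      · subst hk; rw [Pi.single_eq_same]; exact one_mem _
      · rw [Pi.single_eq_of_ne hk]; exact zero_mem _
    · intro k
      by_cases hk : k = i
      · subst hk; rw [Pi.single_eq_same]; exact one_mem _
      · rw [Pi.single_eq_of_ne hk]; exact zero_mem _
  have hexp : ∀ x : V3, x = x 0 • Pi.single 0 1 + x 1 • Pi.single 1 1 + x 2 • Pi.single 2 1 := by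
    intro x
    ext i
    (revert i; simp only [_root_.Fin.forall_fin_succ, Fin.isValue, _root_.Pi.add_apply, _root_.Pi.smul_apply, _root_.smul_eq_mul, _root_.Pi.single_eq_same, _root_.mul_one, _root_.ne_eq, _root_.zero_ne_one, _root_.not_false_eq_true, _root_.Pi.single_eq_of_ne, _root_.MulZeroClass.mul_zero, _root_.add_zero, Fin.reduceEq, _root_.Fin.succ_ne_zero, _root_.zero_add, _root_.Fin.succ_zero_eq_one, _root_.Fin.succ_one_eq_two, _root_.IsEmpty.forall_iff, _root_.and_self])
  have hsymm : ∀ x y, B x y = B y x := by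
    intro x y
    have h01 := hBs 0 1
    have h02 := hBs 0 2
    have h12 := hBs 1 2
    rw [hexp x, hexp y]
    simp only [hBb.add_left, hBb.add_right, hBb.smul_left, hBb.smul_right, h01, h02, h12]
    ring
  have hnd : IsNondegenerateForm B := by
    have h1 : ∀ v : V3, v ≠ 0 → ∃ x, B v x ≠ 0 := by
      intro v hv
      obtain ⟨z, hz⟩ := exists_herm_ne_zero hF (conj_ne_zero hPP' hv)
      refine ⟨fun i => (((P⁻¹ : GL (Fin 3) F) : M3) *ᵥ z) i ^ q, ?_⟩
      have h2 : fr (fun i => (((P⁻¹ : GL (Fin 3) F) : M3) *ᵥ z) i ^ q) = ((P⁻¹ : GL (Fin 3) F) : M3) *ᵥ z := by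
        ext i
        exact pow_q_pow_q hF _
      simp only [B, h2, Matrix.mulVec_mulVec, hPP, Matrix.one_mulVec]
      exact hz
    intro v hv
    obtain ⟨x, hx⟩ := h1 v hv
    exact ⟨⟨x, by rw [hsymm]; exact hx⟩, ⟨x, hx⟩⟩
  refine hA'tv.not_form h2 hBb hsymm hnd (c := κ ^ q) ?_
  intro x y
  have h1 : fr (A' *ᵥ y) = κ • (A' *ᵥ fr y) := by
    ext i
    simp only [fr, Matrix.mulVec, dotProduct, Fin.sum_univ_three, Pi.smul_apply, smul_eq_mul, add_pow_q hF, mul_pow,
      hpow]
    ring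
  simp only [B, h1, Matrix.mulVec_smul, herm_smul_right, Matrix.mulVec_mulVec, hPA]
  rw [← Matrix.mulVec_mulVec, ← Matrix.mulVec_mulVec, mem_GU.1 hAU]

omit [Fintype F] in
/-- the real classes meet `M` -/
theorem lift {M : Subgroup (PSU 3 F q)} (hM : Cov (PSU 3 F q) M) {X : SU 3 F q} (hX : IsReal X) :
    ∃ Y : SU 3 F q, suHom 3 F q (Y * X * Y⁻¹) ∈
      (M.comap (QuotientGroup.mk' (Subgroup.center (Cfsg.SU 3 F q)))).map (suHom 3 F q) := by
  obtain ⟨g, hg⟩ := hM.2 _ (hX.map (QuotientGroup.mk' (Subgroup.center (Cfsg.SU 3 F q))))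
  obtain ⟨Y, rfl⟩ := QuotientGroup.mk'_surjective _ g
  refine ⟨Y, Subgroup.mem_map_of_mem _ ?_⟩
  rw [Subgroup.mem_comap, map_mul, map_mul, map_inv]
  exact hg

omit [Fintype F] in
theorem coe_conj (X Y : SU 3 F q) : ((suHom 3 F q (Y * X * Y⁻¹) : GL (Fin 3) F) : M3) =
    ((suHom 3 F q Y : GL (Fin 3) F) : M3) * mat X * (((suHom 3 F q Y)⁻¹ : GL (Fin 3) F) : M3) := by
  rw [map_mul, map_mul, map_inv, Units.val_mul, Units.val_mul]
  rfl

omit [Fintype F] in
theorem act_conj (X Y : SU 3 F q) (v : V3) :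
    ((suHom 3 F q (Y * X * Y⁻¹) : GL (Fin 3) F) : M3) *ᵥ (act Y v) = act Y (act X v) := by
  have : ((suHom 3 F q (Y * X * Y⁻¹) : GL (Fin 3) F) : M3) *ᵥ (act Y v) = act (Y * X * Y⁻¹) (act Y v) := rfl
  rw [this, act_mul, act_inv_act, act_mul]

/-- **totally singular subspaces** -/
theorem case_sing (hF : Fintype.card F = q ^ 2) {lam : Fˣ} (h3 : 2 < orderOf lam)
    {X Y : SU 3 F q} (hX : mat X = Matrix.diagonal ![1, (lam : F), (lam : F)⁻¹]) {W : Submodule F V3} (hW : W ≠ ⊥)
    (hs : IsTotallySingularFor (hermForm 3 F q) W) (h : suHom 3 F q (Y * X * Y⁻¹) ∈ subspaceStabilizer W) : False := by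
  have hinv : ∀ v, act Y v ∈ W → act Y (act X v) ∈ W := by
    intro v hv
    rw [← act_conj]
    exact (h (act Y v)).1 hv
  have hX' : ∀ v : V3, act X v = ![v 0, lam * v 1, (lam : F)⁻¹ * v 2] := by
    intro v
    rw [act_def, hX]
    ext i
    (revert i; simp only [Matrix.mulVec_diagonal, _root_.Fin.forall_fin_succ, _root_.Nat.succ_eq_add_one, Nat.reduceAdd, Fin.isValue, _root_.Matrix.cons_val_zero, _root_.one_mul, _root_.Matrix.cons_val_succ, _root_.Fin.succ_zero_eq_one, _root_.Matrix.cons_val_fin_one, _root_.mul_eq_mul_left_iff, _root_.inv_eq_zero, _root_.Units.ne_zero, _root_.or_false, _root_.Fin.succ_one_eq_two, _root_.IsEmpty.forall_iff, _root_.and_self])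
  have hl0 : (lam : F) ≠ 0 := lam.ne_zero
  have hl1 : (lam : F) ≠ 1 := by
    intro h1
    have : lam = 1 := Units.ext h1
    rw [this, orderOf_one] at h3
    omega
  have hl2 : (lam : F) ^ 2 ≠ 1 := by
    intro h1
    have : lam ^ 2 = 1 := Units.ext (by simpa only [_root_.Units.val_pow_eq_pow_val, _root_.Units.val_one, _root_.sq_eq_one_iff, _root_.Units.val_eq_one, _root_.Units.val_eq_neg_one] using h1)
    have := Nat.le_of_dvd two_pos (orderOf_dvd_of_pow_eq_one this)
    omega
  -- coordinate vectors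
  have hz : ∀ (i : Fin 3) (a : F), act Y (Pi.single i a) ∈ W → a = 0 := by
    intro i a ha
    have h1 := hs _ ha _ ha
    rw [herm_act, herm_single_left, Pi.single_eq_same] at h1
    exact (norm_eq_zero hF).1 h1
  obtain ⟨w, hw, hw0⟩ := (Submodule.ne_bot_iff W).1 hW
  set v := act Y⁻¹ w with hv
  have hvW : act Y v ∈ W := by rw [hv, act_act_inv]; exact hw
  have h1 := hinv v hvW
  have h2 := hinv _ h1
  have key : ∀ a b : F, act Y (act X (act X v) + a • act X v + b • v) ∈ W := by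
    intro a b
    rw [act_add, act_add, act_smul, act_smul]
    exact W.add_mem (W.add_mem h2 (W.smul_mem _ h1)) (W.smul_mem _ hvW)
  apply hw0
  have hv0 : v = 0 := by
    ext i
    fin_cases i
    · have h4 := key (-((lam : F) + (lam : F)⁻¹)) 1
      have h5 : act X (act X v) + (-((lam : F) + (lam : F)⁻¹)) • act X v + (1 : F) • v =
          Pi.single 0 ((1 - (lam : F)) * (1 - (lam : F)⁻¹) * v 0) := by
        rw [hX', hX']
        ext i
        (revert i; simp only [_root_.Fin.forall_fin_succ, _root_.Nat.succ_eq_add_one, Nat.reduceAdd, Fin.isValue, _root_.Matrix.cons_val_zero, _root_.Matrix.cons_val_one, _root_.Matrix.cons_val, _root_.neg_add_rev, _root_.Matrix.smul_cons, _root_.smul_eq_mul, _root_.Matrix.smul_empty, _root_.Matrix.add_cons, _root_.Matrix.head_cons, _root_.Matrix.tail_cons, _root_.Matrix.empty_add_empty, _root_.one_smul, _root_.Pi.add_apply, _root_.Pi.single_eq_same, _root_.Matrix.cons_val_succ, _root_.ne_eq, _root_.Fin.succ_ne_zero, _root_.not_false_eq_true,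 _root_.Pi.single_eq_of_ne, _root_.Fin.succ_zero_eq_one, _root_.Matrix.cons_val_fin_one, _root_.Fin.succ_one_eq_two, _root_.IsEmpty.forall_iff, _root_.and_true]) <;> (repeat' with_reducible apply And.intro) <;> field_simp <;> ring
      rw [h5] at h4
      have h6 := hz _ _ h4
      have h7 : (1 - (lam : F)) * (1 - (lam : F)⁻¹) ≠ 0 :=
        mul_ne_zero (sub_ne_zero.2 hl1.symm) (sub_ne_zero.2 fun h => hl1 (inv_eq_one.1 h.symm))
      exact (mul_eq_zero.1 h6).resolve_left h7
    · have h4 := key (-(1 + (lam : F)⁻¹)) (lam : F)⁻¹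
      have h5 : act X (act X v) + (-(1 + (lam : F)⁻¹)) • act X v + ((lam : F)⁻¹) • v =
          Pi.single 1 (((lam : F) - 1) * ((lam : F) - (lam : F)⁻¹) * v 1) := by
        rw [hX', hX']
        ext i
        (revert i; simp only [_root_.Fin.forall_fin_succ, _root_.Nat.succ_eq_add_one, Nat.reduceAdd, Fin.isValue, _root_.Matrix.cons_val_zero, _root_.Matrix.cons_val_one, _root_.Matrix.cons_val, _root_.neg_add_rev, _root_.Matrix.smul_cons, _root_.smul_eq_mul, _root_.Matrix.smul_empty, _root_.Matrix.add_cons, _root_.Matrix.head_cons, _root_.Matrix.tail_cons, _root_.Matrix.empty_add_empty, _root_.Pi.add_apply, _root_.Pi.smul_apply, _root_.ne_eq, _root_.zero_ne_one, _root_.not_false_eq_true, _root_.Pi.single_eq_of_ne, _root_.Matrix.cons_val_succ, _root_.Fin.succ_zero_eq_one, _root_.Pi.single_eq_same, _root_.Matrix.cons_val_fin_one, _root_.Fin.succ_one_eq_two, Fin.reduceEq, _root_.IsEmpty.forall_iff, _root_.and_true]) <;> (repeat' with_reducible apply And.intro) <;>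 field_simp <;> ring
      rw [h5] at h4
      have h6 := hz _ _ h4
      have h7 : ((lam : F) - 1) * ((lam : F) - (lam : F)⁻¹) ≠ 0 := by
        refine mul_ne_zero (sub_ne_zero.2 hl1) (sub_ne_zero.2 fun h => hl2 ?_)
        rw [pow_two]; nth_rewrite 2 [h]; exact mul_inv_cancel₀ hl0
      exact (mul_eq_zero.1 h6).resolve_left h7
    · have h4 := key (-(1 + (lam : F))) (lam : F)
      have h5 : act X (act X v) + (-(1 + (lam : F))) • act X v + ((lam : F)) • v =
          Pi.single 2 (((lam : F)⁻¹ - 1) * ((lam : F)⁻¹ - (lam : F)) * v 2) := by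
        rw [hX', hX']
        ext i
        (revert i; simp only [_root_.Fin.forall_fin_succ, _root_.Nat.succ_eq_add_one, Nat.reduceAdd, Fin.isValue, _root_.Matrix.cons_val_zero, _root_.Matrix.cons_val_one, _root_.Matrix.cons_val, _root_.neg_add_rev, _root_.Matrix.smul_cons, _root_.smul_eq_mul, _root_.Matrix.smul_empty, _root_.Matrix.add_cons, _root_.Matrix.head_cons, _root_.Matrix.tail_cons, _root_.Matrix.empty_add_empty, _root_.Pi.add_apply, _root_.Pi.smul_apply, _root_.ne_eq, Fin.reduceEq, _root_.not_false_eq_true, _root_.Pi.single_eq_of_ne, _root_.Matrix.cons_val_succ, _root_.Fin.succ_zero_eq_one, _root_.Matrix.cons_val_fin_one, _root_.Fin.succ_one_eq_two, _root_.Pi.single_eq_same, _root_.IsEmpty.forall_iff, _root_.and_true]) <;> (repeat' with_reducible apply And.intro) <;> field_simp <;> ring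
      rw [h5] at h4
      have h6 := hz _ _ h4
      have h7 : ((lam : F)⁻¹ - 1) * ((lam : F)⁻¹ - (lam : F)) ≠ 0 := by
        refine mul_ne_zero (sub_ne_zero.2 fun h => hl1 (inv_eq_one.1 h)) (sub_ne_zero.2 fun h => hl2 ?_)
        rw [pow_two]; nth_rewrite 2 [← h]; exact mul_inv_cancel₀ hl0
      exact (mul_eq_zero.1 h6).resolve_left h7
  rw [← act_act_inv Y w, ← hv, hv0, act_zero]

omit [Fintype F] in
/-- **nonsingular points** -/
theorem case_nonsing {X Y : SU 3 F q} (hX : Three.IsRu (mat X))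
    (hfix : ∀ v, act X v = v → hermForm 3 F q v v = 0) {W : Submodule F V3} (hW : W ≠ ⊥)
    (hn : IsNondegenerateOn (hermForm 3 F q) W) (hd : 2 * Module.finrank F W < 3)
    (h : suHom 3 F q (Y * X * Y⁻¹) ∈ subspaceStabilizer W) : False := by
  have h1 : Module.finrank F W = 1 := by
    have : 0 < Module.finrank F W := Nat.pos_of_ne_zero fun h => hW (Submodule.finrank_eq_zero.mp h)
    omega
  obtain ⟨⟨w, hw⟩, hw0, hs⟩ := finrank_eq_one_iff'.1 h1
  have hw0' : w ≠ 0 := fun h => hw0 (Subtype.ext h)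
  set v := act Y⁻¹ w with hv
  have hvw : act Y v = w := by rw [hv, act_act_inv]
  have hmem : act Y (act X v) ∈ W := by
    rw [← act_conj, hvw]
    exact (h w).1 hw
  obtain ⟨μ, hμ⟩ := hs ⟨_, hmem⟩
  have hμ' : μ • w = act Y (act X v) := congrArg Subtype.val hμ
  have hXv : act X v = μ • v := by
    rw [← act_inv_act Y (act X v), ← hμ', act_smul]
  have hv0 : v ≠ 0 := by
    intro h0
    rw [h0, act_zero] at hvw
    exact hw0' hvw.symm
  have hN : (mat X - 1) *ᵥ v = (μ - 1) • v := by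
    rw [Matrix.sub_mulVec, Matrix.one_mulVec, ← act_def, hXv, sub_smul, one_smul]
  have hN3 : (mat X - 1) ^ 3 *ᵥ v = ((μ - 1) ^ 3) • v := by
    rw [pow_succ, pow_two, ← Matrix.mulVec_mulVec, ← Matrix.mulVec_mulVec, hN, Matrix.mulVec_smul, hN,
      Matrix.mulVec_smul, Matrix.mulVec_smul, hN, smul_smul, smul_smul]
    congr 1
    ring
  rw [hX.1, Matrix.zero_mulVec] at hN3
  have h2 : μ = 1 := by
    have := (smul_eq_zero.1 hN3.symm).resolve_right hv0
    exact sub_eq_zero.1 (pow_eq_zero_iff (three_ne_zero) |>.1 this)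
  rw [h2, one_smul] at hXv
  have h3 := hfix v hXv
  rw [← herm_act Y, hvw] at h3
  obtain ⟨⟨x, hx, hx0⟩, -⟩ := hn w hw hw0'
  obtain ⟨c, hc⟩ := hs ⟨x, hx⟩
  have hc' : c • w = x := congrArg Subtype.val hc
  rw [← hc', herm_smul_left, h3, mul_zero] at hx0
  exact hx0 rfl

/-- **subfields of index at least three** -/
theorem case_subfield (hF : Fintype.card F = q ^ 2) (hq : 3 ≤ q) {lam : Fˣ} (hlam : orderOf lam = q + 1)
    {A : GL (Fin 3) F} (hA : IsEg (lam : F) (A : M3)) {F₀ : Subfield F} {r : ℕ} (hr : 3 ≤ r)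
    (hc : Fintype.card F = Nat.card F₀ ^ r) {P : GL (Fin 3) F} : A ∉ subfieldSubgroup F₀ P := by
  classical
  intro hmem
  have hl0 : (lam : F) ≠ 0 := lam.ne_zero
  have h1 : ∀ k : ℕ, 0 < k → k < q + 1 → (lam : F) ^ k ≠ 1 := by
    intro k hk hk2 h
    have : lam ^ k = 1 := Units.ext (by simpa only [_root_.Units.val_pow_eq_pow_val, _root_.Units.val_one] using h)
    have h2 := Nat.le_of_dvd hk (orderOf_dvd_of_pow_eq_one this)
    omega
  rcases hA.subfield hl0 hmem with h | h
  · apply h1 3 (by norm_num) (by omega)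
    have h2 : (lam : F) * (1 + lam + (lam : F)⁻¹) = 0 := by rw [h, mul_zero]
    have h3 : (lam : F) * (lam : F)⁻¹ = 1 := mul_inv_cancel₀ hl0
    linear_combination ((lam : F) - 1) * h2 - ((lam : F) - 1) * h3
  · -- `lam ^ Q = lam ^ ± 1`, `Q = |F₀|`
    set Q := Nat.card F₀ with hQ
    have hQ2 : 2 ≤ Q := Finite.one_lt_card
    have : Fintype F₀ := Fintype.ofFinite F₀
    have h2 : ((lam : F) + (lam : F)⁻¹) ^ Q = (lam : F) + (lam : F)⁻¹ := by
      have h3 := FiniteField.pow_card (⟨_, h⟩ : F₀)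
      rw [← Nat.card_eq_fintype_card] at h3
      exact congrArg Subtype.val h3
    -- additivity of the `Q`-power
    have h3 : ((lam : F) + (lam : F)⁻¹) ^ Q = (lam : F) ^ Q + ((lam : F)⁻¹) ^ Q := by
      obtain ⟨p, hcp⟩ := CharP.exists F₀
      have hp : Fact p.Prime := ⟨CharP.char_is_prime F₀ p⟩
      obtain ⟨n, -, hn⟩ := FiniteField.card F₀ p
      have : CharP F p := by
        exact charP_of_injective_algebraMap (algebraMap F₀ F).injective p
      rw [hQ, Nat.card_eq_fintype_card, hn]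
      exact add_pow_char_pow (R := F) (lam : F) (lam : F)⁻¹ p n
    rw [h3] at h2
    have h4 : ((lam : F) ^ (Q - 1) - 1) * ((lam : F) ^ (Q + 1) - 1) = 0 := by
      obtain ⟨k, hk⟩ : ∃ k, Q = k + 1 := ⟨Q - 1, by omega⟩
      rw [hk] at h2 ⊢
      rw [Nat.add_sub_cancel]
      have h5 : ((lam : F)⁻¹) ^ (k + 1) * (lam : F) ^ (k + 1) = 1 := by rw [← mul_pow, inv_mul_cancel₀ hl0, one_pow]
      have h6 : (lam : F) * (lam : F)⁻¹ = 1 := mul_inv_cancel₀ hl0
      have h7 : (lam : F) ^ (k + 1) = lam ^ k * lam := pow_succ _ _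
      have h8 : (lam : F) ^ (k + 1 + 1) = lam ^ k * lam * lam := by rw [pow_succ, pow_succ]
      rw [h7] at h2 h5
      rw [h8]
      linear_combination ((lam : F) ^ k * lam) * h2 - h5 + (lam : F) ^ k * h6
    have hlt : Q + 1 < q + 1 := by
      have h5 : q ^ 2 = Q ^ r := by rw [← hF, hc]
      have h6 : Q ^ 3 ≤ Q ^ r := Nat.pow_le_pow_right (by omega) hr
      have h7 : Q ^ 2 < q ^ 2 := by
        rw [h5]
        refine lt_of_lt_of_le ?_ h6
        exact Nat.pow_lt_pow_right (by omega) (by norm_num)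
      have := lt_of_pow_lt_pow_left₀ 2 (by omega) h7
      omega
    rcases mul_eq_zero.1 h4 with h5 | h5
    · exact h1 (Q - 1) (by omega) (by omega) (sub_eq_zero.1 h5)
    · exact h1 (Q + 1) (by omega) hlt (sub_eq_zero.1 h5)

/-- **no maximal subgroup of odd index meets all real classes** -/
theorem rowC (hF : Fintype.card F = q ^ 2) (hodd : Odd q) (hq : 3 ≤ q) : RowC (PSU 3 F q) := by
  classical
  intro M hM hcov
  have hfin : Finite (PSU 3 F q) := Quotient.finite _
  obtain ⟨p, hcp⟩ := CharP.exists F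
  have hp : Fact p.Prime := ⟨CharP.char_is_prime F p⟩
  have hcp' := hcp
  -- the characteristic is odd
  obtain ⟨n, -, hn⟩ := FiniteField.card F p
  have hpq : p ∣ q := by
    have : p ∣ q ^ 2 := by rw [← hF, hn]; exact dvd_pow_self p n.2.ne'
    exact hp.out.dvd_of_dvd_pow this
  have hp3 : 3 ≤ p := by
    have h1 := hp.out.two_le
    rcases Nat.lt_or_ge p 3 with h | h
    · have : p = 2 := by omega
      rw [this] at hpq
      exact absurd hodd (Nat.not_odd_iff_even.2 (even_iff_two_dvd.2 hpq))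
    · exact h
  have h2 : (2 : F) ≠ 0 := by
    intro h
    have h1 : p ∣ 2 := (CharP.cast_eq_zero_iff F p 2).1 (by exact_mod_cast h)
    have := Nat.le_of_dvd two_pos h1
    omega
  set H := (M.comap (QuotientGroup.mk' (Subgroup.center (Cfsg.SU 3 F q)))).map (suHom 3 F q) with hHd
  have hH : IsMaximalIn (SUg 3 F q) H := by
    have := Cfsg.Agent.H947.El.isMaximalIn_of_coatom _ (QuotientGroup.mk'_surjective _) (suHom 3 F q)
      suHom_injective hM
    rwa [range_suHom] at this
  have hMH : Nat.card M ∣ Nat.card H := by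
    have h1 : (M.comap (QuotientGroup.mk' (Subgroup.center (Cfsg.SU 3 F q)))).map
        (QuotientGroup.mk' (Subgroup.center (Cfsg.SU 3 F q))) = M :=
      Subgroup.map_comap_eq_self_of_surjective (QuotientGroup.mk'_surjective _) M
    have h2 : Nat.card ((M.comap (QuotientGroup.mk' (Subgroup.center (Cfsg.SU 3 F q)))).map
        (QuotientGroup.mk' (Subgroup.center (Cfsg.SU 3 F q)))) ∣
        Nat.card (M.comap (QuotientGroup.mk' (Subgroup.center (Cfsg.SU 3 F q)))) := Subgroup.card_map_dvd _ _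
    rw [h1] at h2
    exact h2.trans (dvd_of_eq (Subgroup.card_map_of_injective suHom_injective).symm)
  -- the order of the group
  have hcard := Cfsg.Agent.H394.SqPsu3.card_psu3 hF
  -- elements
  obtain ⟨t₀, ht₀, ht₁⟩ := exists_tv hF hodd
  obtain ⟨u₀, hu₀, hu₁, hu₂⟩ := exists_ru hF hodd h2
  obtain ⟨lam, x₀, hlam, hx₀, hx₁⟩ := exists_eg hF hodd
  obtain ⟨Yt, hYt⟩ := lift hcov ht₀
  obtain ⟨Yu, hYu⟩ := lift hcov hu₀
  obtain ⟨Yx, hYx⟩ := lift hcov hx₀
  rw [← hHd] at hYt hYu hYx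
  set t : GL (Fin 3) F := suHom 3 F q (Yt * t₀ * Yt⁻¹) with htd
  set u : GL (Fin 3) F := suHom 3 F q (Yu * u₀ * Yu⁻¹) with hud
  set x : GL (Fin 3) F := suHom 3 F q (Yx * x₀ * Yx⁻¹) with hxd
  have htT : IsTv (t : M3) := by rw [htd, coe_conj]; exact ht₁.conj _
  have huU : Three.IsRu (u : M3) := by rw [hud, coe_conj]; exact hu₁.conj _
  have hxE : IsEg (lam : F) (x : M3) := by
    rw [hxd, coe_conj, hx₁]
    exact ⟨_, rfl⟩
  have hto : orderOf t = p := htT.orderOf hp3
  have hpH : p ∣ Nat.card H := by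
    rw [← hto, ← Subgroup.orderOf_mk t hYt]
    exact orderOf_dvd_natCard _
  rcases Cfsg.Agent.S5778.result q hF hq H hH with ⟨W, hW0, hWs, he⟩ | ⟨W, hW0, hWn, hW3, he⟩ | ⟨-, D, hD, he⟩ |
    ⟨-, -, K, hK, -, he⟩ | ⟨F₀, l, P, hl, hlo, hc, -, he⟩ | ⟨-, -, F₀, P, hc, hfr, he⟩ |
    ⟨p', R, hp', hqp', -, h11, -, hirr, -, h27, h3, he⟩ | hres
  · rw [he] at hYx
    exact case_sing hF (by omega) hx₁ hW0 hWs hYx.1
  · rw [he] at hYu
    exact case_nonsing hu₁ hu₂ hW0 hWn hW3 hYu.1
  · rw [he] at hYt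
    exact htT.not_decomp h2 hD.decomp hYt.1
  · -- involutions
    have h2T : 2 ∣ Nat.card (PSU 3 F q) := by
      have h4 : 2 ∣ Nat.gcd 3 (q + 1) * Nat.card (PSU 3 F q) := by
        rw [hcard]
        refine Dvd.dvd.mul_left (Dvd.dvd.mul_left ?_ _) _
        obtain ⟨k, hk⟩ := hodd.pow (n := 3)
        exact ⟨k + 1, by omega⟩
      refine (Nat.prime_two.dvd_mul.1 h4).resolve_left fun h5 => ?_
      have := h5.trans (Nat.gcd_dvd_left 3 (q + 1))
      revert this; decide
    have h2M : 2 ∣ Nat.card M := by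
      have := (hcov.two_part (k := 1)).1 (by rw [pow_one]; exact h2T)
      rwa [pow_one] at this
    obtain ⟨z, hz⟩ := exists_prime_orderOf_dvd_card' (G := H) 2 (h2M.trans hMH)
    have hz' : orderOf (z : GL (Fin 3) F) = 2 := by rw [Subgroup.orderOf_coe, hz]
    have hzH : (z : GL (Fin 3) F) ∈ subalgebraNormalizer K ⊓ (GU 3 F q ⊓ specialLinear (Fin 3) F) := he.le z.2
    exact Cfsg.Agent.H304.ExtInv.no_involution (by decide) hK hz' hzH.1 hzH.2.2
  · rw [he] at hYx
    have hl3 : 3 ≤ l := by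
      have := hl.two_le
      rcases Nat.lt_or_ge l 3 with h | h
      · have : l = 2 := by omega
        rw [this] at hlo
        exact absurd hlo (by decide)
      · exact h
    exact case_subfield hF hq hlam hxE hl3 hc hYx.1
  · rw [he] at hYt
    exact not_orth hF h2 hc hfr hYt.2.1 htT hYt.1
  · rw [he] at hYt
    have hpp : p = q := by
      rw [hqp'] at hpq ⊢
      exact (Nat.prime_dvd_prime_iff_eq hp.out hp').1 hpq
    obtain ⟨c, hc⟩ := Cfsg.Agent.H907.Mx.symp_prime hirr h27 h3 hYt.1 hp.out (by omega)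
      (by rw [← hto]; exact pow_orderOf_eq_one t)
    exact htT.ne_scalar c hc
  · -- residual
    obtain ⟨P, hP, hqp, hcases⟩ := Cfsg.Agent.S5779.result q hF hq H hH hres
    have hHS : H ≤ SUg 3 F q := hH.1.le
    have hpp : p = q := (Nat.prime_dvd_prime_iff_eq hp.out hqp).1 hpq
    rcases hcases with ⟨⟨e⟩, hq5, hq7⟩ | ⟨⟨e⟩, hq15⟩ | ⟨⟨e⟩, hq5⟩
    · have h1008 : Nat.card H ∣ 1008 := Cfsg.Agent.H907.Mx.card_dvd_l32 hP hHS ⟨e⟩
      have h1 : q ∣ 2 ^ 4 * 3 ^ 2 * 7 := by
        rw [← hpp]; norm_num; exact hpH.trans h1008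
      have hq3 : q = 3 := by
        rcases hqp.dvd_mul.1 h1 with h3 | h3
        · rcases hqp.dvd_mul.1 h3 with h4 | h4
          · have := Nat.le_of_dvd (by norm_num) (hqp.dvd_of_dvd_pow h4); omega
          · have := Nat.le_of_dvd (by norm_num) (hqp.dvd_of_dvd_pow h4); omega
        · have := (Nat.prime_dvd_prime_iff_eq hqp (by norm_num)).1 h3
          omega
      subst hq3
      have hc3 : Nat.card (PSU 3 F 3) = 6048 := by
        generalize Nat.card (PSU 3 F 3) = N at hcard ⊢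
        norm_num at hcard
        exact hcard
      have h32 : 2 ^ 5 ∣ Nat.card M := (hcov.two_part (k := 5)).1 (by rw [hc3]; norm_num)
      have := (h32.trans hMH).trans h1008
      revert this; norm_num
    · have h4320 : Nat.card H ∣ 4320 := Cfsg.Agent.H907.Mx.card_dvd_a6 hP hHS ⟨e⟩
      by_cases hq5 : q = 5
      · refine no_tv_ru (p := p) hp3 (H := H) (fun h => ?_) hYt hYu htT huU
        have := h.trans h4320
        rw [hpp, hq5] at this
        revert this; norm_num
      · have h1 : q ∣ 2 ^ 5 * 3 ^ 3 * 5 := by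
          rw [← hpp]; norm_num; exact hpH.trans h4320
        rcases hqp.dvd_mul.1 h1 with h3 | h3
        · rcases hqp.dvd_mul.1 h3 with h4 | h4
          · have := Nat.le_of_dvd (by norm_num) (hqp.dvd_of_dvd_pow h4); omega
          · have := Nat.le_of_dvd (by norm_num) (hqp.dvd_of_dvd_pow h4); omega
        · have := Nat.le_of_dvd (by norm_num) h3; (clear * - hq15 hq5 this; omega)
    · refine no_tv_ru (p := p) hp3 (H := H) (fun h => ?_) hYt hYu htT huU
      have hdvdH := Cfsg.Agent.H907.Mx.card_dvd hP hHS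
      rw [Nat.card_congr (MulAut.congr e).toEquiv] at hdvdH
      have h4 := h.trans (hdvdH.trans (Nat.mul_dvd_mul_left 3 Cfsg.Agent.H947.El.card_aut_a7))
      rw [hpp, hq5] at h4
      revert h4; norm_num

universe u

/-- **C10b, unitary** -/
theorem row_psu_three (q : ℕ) (hq : ¬ 2 ∣ q) : RowN.{u} (.psu 3 q) := by
  intro T _ _ _ hT
  obtain ⟨F, _, _, hF, ⟨e⟩⟩ := hT.real
  obtain ⟨-, h3, hpp⟩ := hT.cond
  have hodd : Odd q := by
    rw [← Nat.not_even_iff_odd, even_iff_two_dvd]; exact hq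
  have h1 := hpp.two_le
  have hq3 : 3 ≤ q := by
    obtain ⟨k, hk⟩ := hodd
    omega
  have hfin : Finite (PSU 3 F q) := Quotient.finite _
  exact Row8.congr e.symm (Row.row8 (RowC.row (rowC hF hodd hq3)))

end Cfsg.Agent.H746.OddM.ThreeU
end

-- part: H729/OdmRowFi22
section
set_option linter.all false
open scoped Cfsg.Agent.FastGrp

/-!
# TEAM ODDM (S4785): `Fi22` (helper729)
-/

set_option autoImplicit false

namespace Cfsg.Agent.H729.OdmRowFi22

open Cfsg Subgroup Cfsg.Agent.OrdDiv Cfsg.Agent.H453.OddM Cfsg.Agent.H217.Odm Cfsg.Agent.H257.El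
open Cfsg.Agent.H729.OddAFour Cfsg.Spor.Fi22

universe u

/-- the generators -/
abbrev s (x : Gen) : Spor.Fi22 := PresentedGroup.of x

theorem sq (x : Gen) : s x * s x = 1 := lab1 x (by cases x <;> decide) (by cases x <;> decide)

theorem lb (x y : Gen) (n : ℕ) (hl : Spor.coxLabel edges x y = n) : (s x * s y) ^ n = 1 :=
  lab x y (by cases x <;> decide) (by cases y <;> decide) hl

/-- equality spreads along an edge -/
theorem spread {x y z : Gen} (h : s x = s y) (h3 : Spor.coxLabel edges y z = 3) (h2 : Spor.coxLabel edges x z = 2) :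
    s y = s z := by
  refine eq_of_comm (sq y) (sq z) (lb y z 3 h3) ?_
  rw [← h]
  exact comm (sq x) (sq z) (lb x z 2 h2)

theorem ne_ab : s .a ≠ s .b := by
  intro h
  have e1 : s .b = s .c := spread h (by decide) (by decide)
  have e2 : s .c = s .d := spread e1 (by decide) (by decide)
  have e3 : s .d = s .e := spread e2 (by decide) (by decide)
  have e4 : s .e = s .f := spread e3 (by decide) (by decide)
  have e5 : s .f = s .g := spread e4 (by decide) (by decide)
  have e6 : s .d = s .h := spread e2 (by decide) (by decide)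
  have e7 : s .h = s .i := spread e6 (by decide) (by decide)
  have hall : ∀ x : Gen, s x = s .a := by
    intro x
    cases x <;> simp only [← e7, ← e6, ← e5, ← e4, ← e3, ← e2, ← e1, ← h]
  have htop : (⊤ : Subgroup Spor.Fi22) ≤ zpowers (s .a) := by
    rw [← PresentedGroup.closure_range_of, closure_le]
    rintro _ ⟨x, rfl⟩
    have := hall x
    change s x ∈ zpowers (s .a)
    rw [this]
    exact mem_zpowers _
  have h1 : Nat.card (⊤ : Subgroup Spor.Fi22) ∣ Nat.card (zpowers (s .a)) := Subgroup.card_dvd_of_le htop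
  rw [Subgroup.card_top, NotCT.Orders.fi22 ⟨MulEquiv.refl _⟩, Nat.card_zpowers] at h1
  have h2 : orderOf (s .a) ∣ 2 := orderOf_dvd_of_pow_eq_one (by rw [pow_two]; exact sq .a)
  have h3 := Nat.le_of_dvd (by norm_num) (h1.trans h2)
  norm_num at h3

theorem realP_five_model : RealP Spor.Fi22 5 :=
  OddAFour.realP_five (sq .a) (sq .b) (sq .c) (sq .d) (lb .a .b 3 (by decide)) (lb .b .c 3 (by decide))
    (lb .c .d 3 (by decide)) (lb .a .c 2 (by decide)) (lb .a .d 2 (by decide)) (lb .b .d 2 (by decide)) ne_ab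

theorem RealP.congr {T S : Type*} [Group T] [Group S] (e : T ≃* S) {v : ℕ} (h : RealP T v) : RealP S v := by
  obtain ⟨x, hx, hr⟩ := h
  exact ⟨e x, by rw [MulEquiv.orderOf_eq, hx], hr.map e.toMonoidHom⟩

/-- **`Fi22`** -/
theorem row (tab : OrderTable.{u}) (known : Known.{u}) {T : Type u} [Group T] (h : Spor.IsoFi22 T) : Row T := by
  have hc := NotCT.Orders.fi22 h
  have hfin : Finite T := Nat.finite_of_card_ne_zero (by rw [hc]; norm_num)
  obtain ⟨e⟩ := h
  have h13 : ∀ x : T, orderOf x = 13 → Nat.card (centralizer ({x} : Set T)) = 13 := fun x hx =>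
    Cfsg.Agent.H713.Spor.Fi22.cent_13 e hx
  have hN : ∀ x : T, orderOf x = 13 →
      Nat.card (normalizer ((zpowers x : Subgroup T) : Set T)) = 13 * 6 ∧ IsReal x := by
    intro x hx
    obtain ⟨h1, h2⟩ := norm_of_cent (r := 13) (n := 4966288588800) (c := 1) (e := 6) (by norm_num)
      (by rw [hc]) (by norm_num) hx (by rw [h13 x hx]) (by norm_num) (by norm_num)
    exact ⟨by rw [h1], h2 (by decide)⟩
  have : Fact (Nat.Prime 13) := ⟨by norm_num⟩
  obtain ⟨x₀, hx₀⟩ := exists_prime_orderOf_dvd_card' (G := T) 13 (by rw [hc]; norm_num)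
  refine row_of_two tab known (r := 13) (nu := 6) (ss := [5])
    (l := [(2, 17), (3, 9), (5, 2), (7, 1), (11, 1), (13, 1)]) hc (by norm_num) ⟨x₀, hx₀, (hN x₀ hx₀).2⟩
    (fun x hx => (hN x hx).1) ?_ (by decide +kernel)
  intro t ht
  rw [List.mem_singleton] at ht
  subst ht
  exact ⟨by norm_num, RealP.congr e.symm realP_five_model,
    noOrd_of_cent (by norm_num) h13 (by norm_num) (by norm_num)⟩

end Cfsg.Agent.H729.OdmRowFi22
end

-- part: H52/OdmRowFi24
section
prune_inst 0x10000000400000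
set_option linter.all false
open scoped Cfsg.Agent.FastGrp

/-!
# TEAM ODDM (S4785): the row `Fi24'` (helper52)

Elements of order 29 are self-centralising in `Fi24` (helper843, helper377), hence in `Fi24'` the normalizer of a
subgroup of order 29 has order `29 * 14` and the elements of order 29 are real; a product of two non-commuting
transpositions is a real element of order 3. There is no element of order `29 * 3`.
-/

set_option autoImplicit false
set_option linter.constructorNameAsVariable false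

namespace Cfsg.Agent.H52.OdmRowFi24

open Cfsg Subgroup Cfsg.Agent.OrdDiv Cfsg.Agent.H453.OddM Cfsg.Agent.H217.Odm
open Cfsg.Agent.H377.SporRow (exists_cyclic)
open Cfsg.Agent.Fischer.Fi24Class (gen gen_sq gen_inv gen_comm gen_rel k_ncomm_l)
open Cfsg.Agent.R08.FiTwentyFour (mul_mem_commutator gen_mem_L)

universe u

/-! ### elements of order 3 -/

theorem card_ne : Nat.card (commutator Spor.Fi24) ≠ 1 := by
  rw [Cfsg.Agent.R08.FiTwentyFour.card_commutator]; norm_num

theorem realP_three_model : RealP Spor.Fi24' 3 := by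
  refine ⟨⟨gen .l * gen .k, mul_mem_commutator (gen_mem_L _) (gen_mem_L _)⟩, ?_,
    ⟨gen .l * gen .d, mul_mem_commutator (gen_mem_L _) (gen_mem_L _)⟩, Subtype.ext ?_⟩
  · have : Fact (Nat.Prime 3) := ⟨by norm_num⟩
    rw [Subgroup.orderOf_mk]
    refine orderOf_eq_prime (gen_rel .l .k) fun h => ?_
    have h1 : gen .k = gen .l := by
      rw [← gen_inv .l]
      exact eq_inv_of_mul_eq_one_right h
    exact k_ncomm_l card_ne (by rw [h1])
  · show gen .l * gen .d * (gen .l * gen .k) * (gen .l * gen .d)⁻¹ = (gen .l * gen .k)⁻¹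
    have h1 : gen .l * gen .d = gen .d * gen .l := gen_comm .l .d (by decide)
    have h2 : gen .k * gen .d = gen .d * gen .k := gen_comm .k .d (by decide)
    rw [mul_inv_rev, mul_inv_rev, gen_inv, gen_inv, gen_inv]
    calc gen .l * gen .d * (gen .l * gen .k) * (gen .d * gen .l)
        = gen .l * (gen .d * gen .l) * (gen .k * gen .d) * gen .l := by group
      _ = gen .l * gen .l * (gen .d * gen .d) * gen .k * gen .l := by rw [← h1, h2]; group
      _ = gen .k * gen .l := by rw [gen_sq, gen_sq, one_mul, one_mul]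

theorem realP_three {T : Type*} [Group T] (h : Spor.IsoFi24' T) : RealP T 3 := by
  obtain ⟨e⟩ := h
  obtain ⟨x, hx, hr⟩ := realP_three_model
  exact ⟨e.symm x, by rw [MulEquiv.orderOf_eq, hx], hr.map e.symm.toMonoidHom⟩

/-! ### elements of order 29 -/

theorem cent_fi24 {x : Spor.Fi24} (hx : orderOf x = 29) :
    Nat.card (centralizer ({x} : Set Spor.Fi24)) ≤ 29 := by
  have hfin : Finite Spor.Fi24 := R08.FiTwentyFour.finite_Fi24
  have : Fact (Nat.Prime 29) := ⟨by norm_num⟩
  obtain ⟨P, hP⟩ := exists_cyclic (K := Spor.Fi24) (p := 29) (by rw [H843.Fi24N.card_Fi24]; norm_num)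
  obtain ⟨s, -, hs⟩ := Cfsg.Agent.H568.conj_of_cyclic P hP H843.D29.order x hx
  obtain ⟨i, hi⟩ := hs
  have hi' : x ^ i = s * H843.D29.D.x * s⁻¹ := hi
  have hmem : ∀ c : centralizer ({x} : Set Spor.Fi24),
      s⁻¹ * (c : Spor.Fi24) * s ∈ centralizer (zpowers H843.D29.D.x : Set Spor.Fi24) := by
    intro c
    rw [H843.Cyc.mem_centralizer_zpowers]
    have h1 : Commute (c : Spor.Fi24) x := mem_centralizer_singleton_iff.1 c.2
    have h2 : (c : Spor.Fi24) * (s * H843.D29.D.x * s⁻¹) = s * H843.D29.D.x * s⁻¹ * c := by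
      rw [← hi']; exact (h1.zpow_right i).eq
    calc s⁻¹ * (c : Spor.Fi24) * s * H843.D29.D.x
        = s⁻¹ * ((c : Spor.Fi24) * (s * H843.D29.D.x * s⁻¹)) * s := by group
      _ = H843.D29.D.x * (s⁻¹ * (c : Spor.Fi24) * s) := by rw [h2]; group
  rw [← H843.D29.main.2]
  refine Nat.card_le_card_of_injective
    (fun c : centralizer ({x} : Set Spor.Fi24) =>
      (⟨s⁻¹ * (c : Spor.Fi24) * s, hmem c⟩ : centralizer (zpowers H843.D29.D.x : Set Spor.Fi24))) ?_
  intro c d hcd
  have h1 : s⁻¹ * (c : Spor.Fi24) * s = s⁻¹ * (d : Spor.Fi24) * s := congrArg Subtype.val hcd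
  exact Subtype.ext (mul_left_cancel (mul_right_cancel h1))

theorem cent {T : Type*} [Group T] (h : Spor.IsoFi24' T) {x : T} (hx : orderOf x = 29) :
    Nat.card (centralizer ({x} : Set T)) = 29 := by
  have hfin : Finite Spor.Fi24 := R08.FiTwentyFour.finite_Fi24
  obtain ⟨e⟩ := h
  have hfT : Finite T := Finite.of_equiv _ e.symm.toEquiv
  have h1 : Nat.card (centralizer ({x} : Set T)) ≤ 29 := by
    refine le_trans ?_ (cent_fi24 (x := (e x : Spor.Fi24)) (by rw [Subgroup.orderOf_coe, MulEquiv.orderOf_eq, hx]))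
    refine Nat.card_le_card_of_injective (fun c : centralizer ({x} : Set T) =>
      (⟨(e (c : T) : Spor.Fi24), mem_centralizer_singleton_iff.2 ?_⟩ :
        centralizer ({(e x : Spor.Fi24)} : Set Spor.Fi24))) ?_
    · have h2 : (c : T) * x = x * c := mem_centralizer_singleton_iff.1 c.2
      rw [← Subgroup.coe_mul, ← Subgroup.coe_mul, ← map_mul, ← map_mul, h2]
    · intro c d hcd
      have h2 : (e (c : T) : Spor.Fi24) = (e (d : T) : Spor.Fi24) :=
        congrArg (fun z : centralizer ({(e x : Spor.Fi24)} : Set Spor.Fi24) => (z : Spor.Fi24)) hcd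
      exact Subtype.ext (e.injective (Subtype.ext h2))
  have h2 : 29 ∣ Nat.card (centralizer ({x} : Set T)) := by
    have h3 : orderOf (⟨x, mem_centralizer_singleton_iff.2 rfl⟩ : centralizer ({x} : Set T)) = 29 := by
      rw [Subgroup.orderOf_mk, hx]
    rw [← h3]
    exact orderOf_dvd_natCard _
  exact le_antisymm h1 (Nat.le_of_dvd Nat.card_pos h2)

theorem row (tab : OrderTable.{u}) (known : Cfsg.Agent.H257.El.Known.{u}) {T : Type u} [Group T]
    (h : Spor.IsoFi24' T) : Row T := by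
  have hc := NotCT.Orders.fi24 h
  have hfin : Finite T := Nat.finite_of_card_ne_zero (by rw [hc]; norm_num)
  have h29 : Nat.Prime 29 := by norm_num
  have key : ∀ x : T, orderOf x = 29 →
      Nat.card (normalizer ((zpowers x : Subgroup T) : Set T)) = 29 * (1 * 14) ∧ (Even 14 → IsReal x) :=
    fun x hx => norm_of_cent h29 (n := 1255205709190661721292800 / 29) (by rw [hc]) (by norm_num) hx
      (by rw [cent h hx]) (by norm_num) (by norm_num)
  have hreal : RealP T 29 := by
    have : Fact (Nat.Prime 29) := ⟨h29⟩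
    obtain ⟨x, hx⟩ := exists_prime_orderOf_dvd_card' (G := T) 29 (by rw [hc]; norm_num)
    exact ⟨x, hx, (key x hx).2 (by decide)⟩
  refine row_of_two (n := 1255205709190661721292800)
    (l := [(2, 21), (3, 16), (5, 2), (7, 3), (11, 1), (13, 1), (17, 1), (23, 1), (29, 1)]) (r := 29) (nu := 14)
    (ss := [3]) tab known hc h29 hreal (fun x hx => (key x hx).1) ?_ (by decide +kernel)
  intro s hs
  rw [List.mem_singleton] at hs
  subst hs
  exact ⟨by norm_num, realP_three h, H257.El.Row.noOrd_fi24 h (by norm_num) (by norm_num)⟩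

end Cfsg.Agent.H52.OdmRowFi24
end

-- part: H217/Odm/RowMcL
section
prune_inst 0x10000000400000
set_option linter.all false
open scoped Cfsg.Agent.FastGrp

/-!
# Row `McL` of TEAM ODDM (S4785, helper217)
-/

set_option autoImplicit false
set_option linter.unusedSectionVars false
open Cfsg

namespace Cfsg.Agent.H217.OdmRowMcL

open Subgroup Cfsg.Agent.H453.OddM Cfsg.Agent.OrdDiv Cfsg.Agent.H257.El Cfsg.Agent.H217.Odm
open Cfsg.Agent.H217.Odm.McLAbs Cfsg.Agent.TypeM.Two

universe u

theorem cent_eq {T S : Type*} [Group T] [Group S] (e : T ≃* S) (x : T) :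
    Nat.card (centralizer ({x} : Set T)) = Nat.card (centralizer ({e x} : Set S)) := by
  refine Nat.card_congr
    { toFun := fun y => ⟨e y, by
        rw [mem_centralizer_singleton_iff, ← map_mul, mem_centralizer_singleton_iff.1 y.2, map_mul]⟩
      invFun := fun y => ⟨e.symm y, by
        rw [mem_centralizer_singleton_iff]
        apply e.injective
        rw [map_mul, map_mul, e.apply_symm_apply]
        exact mem_centralizer_singleton_iff.1 y.2⟩
      left_inv := fun y => Subtype.ext (e.symm_apply_apply _)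
      right_inv := fun y => Subtype.ext (e.apply_symm_apply _) }

theorem four5 {T : Type*} [Group T] [Finite T] (L : MT 8 T) {x : T} (hx : orderOf x = 5) :
    ¬ 4 ∣ Nat.card (centralizer ({x} : Set T)) := by
  intro h4
  have h2 : Fact (Nat.Prime 2) := ⟨Nat.prime_two⟩
  obtain ⟨⟨t, htC⟩, ht⟩ := exists_prime_orderOf_dvd_card' 2 ((by norm_num : (2 : ℕ) ∣ 4).trans h4)
  rw [Subgroup.orderOf_mk] at ht
  have htx : t * x = x * t := mem_centralizer_singleton_iff.1 htC
  have htt : t * t = 1 := by rw [← pow_two, ← ht, pow_orderOf_eq_one]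
  have ht1 : t ≠ 1 := by
    rintro rfl
    rw [orderOf_one] at ht
    omega
  exact Cfsg.Agent.H848.McLLocal.not_four_dvd ht htx
    (Cfsg.Agent.CpAut.SmallP.McL.not_four_DD L htt ht1 hx htx) h4

theorem norm7 {T : Type*} [Group T] [Finite T] (hcard : Nat.card T = 898128000)
    (h7 : ∀ x : T, orderOf x = 7 → Nat.card (centralizer ({x} : Set T)) = 14) (x : T) (hx : orderOf x = 7) :
    Nat.card (normalizer ((zpowers x : Subgroup T) : Set T)) = 42 := by
  have h := (norm_of_cent (r := 7) (n := 128304000) (c := 2) (e := 3) (by norm_num) (by rw [hcard]) (by norm_num)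
    hx (by rw [h7 x hx]) (by norm_num) (by norm_num)).1
  rw [h]

theorem fct {T : Type*} [Group T] [Finite T] (L : MT 8 T) (e : T ≃* Spor.McL) : Fct T := by
  have ho : ∀ (x : T) {k : ℕ}, orderOf x = k → orderOf (e x) = k := fun x k hx => by rw [e.orderOf_eq, hx]
  have hcard : Nat.card T = 898128000 := by rw [Nat.card_congr e.toEquiv, H647.SpF.McL.card]
  have h7 : ∀ x : T, orderOf x = 7 → Nat.card (centralizer ({x} : Set T)) = 14 := fun x hx => by
    rw [cent_eq e, H647.SpF.McL.seven (ho x hx)]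
  have h11 : ∀ x : T, orderOf x = 11 → Nat.card (centralizer ({x} : Set T)) = 11 := fun x hx => by
    rw [cent_eq e, Cfsg.Agent.H848.McLLocal.card_eleven (ho x hx)]
  have h5 : ∀ x : T, orderOf x = 5 → Nat.card (centralizer ({x} : Set T)) ∣ 2 ^ 5 * 3 * 5 ^ 3 := fun x hx => by
    rw [cent_eq e]
    exact H647.SpF.McL.five (ho x hx)
  refine ⟨fun t ht hd => ?_, fun t ht hd => ?_, fun t ht hd => ?_, fun t ht hd => ?_, fun t ht => by rw [h7 t ht],
    ?_, fun x hx => by rw [norm7 hcard h7 x hx], fun x hx _ => h7 x hx⟩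
  · rw [cent_eq e] at hd
    exact H647.SpF.McL.cb_two_five (e t) (ho t ht) (by norm_num; exact hd)
  · rw [cent_eq e] at hd
    exact H647.SpF.McL.cb_three_five' (e t) (ho t ht) (by norm_num; exact hd)
  · have h := hd.trans (h5 t ht)
    norm_num at h
  · have h := hd.trans (h5 t ht)
    norm_num at h
  · rintro p (rfl | rfl | rfl) x hx hd
    · exact four5 L hx hd
    · rw [h7 x hx] at hd
      norm_num at hd
    · rw [h11 x hx] at hd
      norm_num at hd

theorem self7 {S : Type u} [Group S] (h : OrdDiv.Real .j2 S) (x : S) (hx : orderOf x = 7) :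
    Nat.card (centralizer ({x} : Set S)) = 7 := by
  have h' : Spor.IsoJ2 S := h
  have hc : Nat.card S = 604800 := by
    obtain ⟨e⟩ := h'
    rw [Nat.card_congr e.toEquiv, S1619.result.2.2.2]
  have hfin : Finite S := Nat.finite_of_card_ne_zero (by rw [hc]; norm_num)
  obtain ⟨t, w, Q, v, ρ, D⟩ := Cfsg.Agent.KFacts.J2.Facts.exists_dat_of h'
  exact H395.PF.self_seven D.F x hx

/-- a real element of order five commuting with an involution -/
theorem exists_y {T : Type*} [Group T] [Finite T] (L : MT 8 T) :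
    ∃ y : T, orderOf y = 5 ∧ IsReal y ∧ L.t * y = y * L.t := by
  have h1 : RealP (centralizer ({L.t} : Set T)) 5 := by
    refine realP_of_surj (f := L.K.π.rangeRestrict) L.K.π.rangeRestrict_surjective (by norm_num) ?_
      (realP_congr (realP_alt_five (n := 8) (by norm_num)) (MulEquiv.subgroupCongr L.K.range_eq.symm))
    rw [MonoidHom.ker_rangeRestrict,
      Cfsg.Agent.CpAut.SmallP.McL.card_ker_two L.K.π L.K.z L.K.z_ne (fun x => L.K.ker x)]
    norm_num
  obtain ⟨y, hy, hr⟩ := h1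
  exact ⟨y, by rw [Subgroup.orderOf_coe, hy], hr.coe, (mem_centralizer_singleton_iff.1 y.2).symm⟩

theorem sq25 {T : Type*} [Group T] [Finite T] (L : MT 8 T) (h : Spor.IsoMcL T) {R : Subgroup T} (hR : RO T R) :
    25 ∣ Nat.card R := by
  obtain ⟨x, hx, hc, ho⟩ := Cfsg.Agent.H661.Spor.mcl_data h
  obtain ⟨y, hy, hyr, hyt⟩ := exists_y L
  have hxr : IsReal x := by
    obtain ⟨g, hg⟩ := isConj_iff.1 hc
    exact ⟨g, hg⟩
  have h1 := sq_dvd_of_two hR Nat.prime_five hx hy hxr hyr (fun g hg => ?_)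
  · norm_num at h1
    exact h1
  · -- `x` would commute with an involution
    have h2 : zpowers (g * y * g⁻¹) = zpowers x := by
      apply Subgroup.eq_of_le_of_card_ge
      · rw [zpowers_le]; exact hg
      · rw [Nat.card_zpowers, Nat.card_zpowers, orderOf_conj', hx, hy]
    have h3 : x ∈ zpowers (g * y * g⁻¹) := by rw [h2]; exact mem_zpowers x
    obtain ⟨k, hk⟩ := mem_zpowers_iff.1 h3
    have h4 : Commute (g * L.t * g⁻¹) (g * y * g⁻¹) := by
      change g * L.t * g⁻¹ * (g * y * g⁻¹) = g * y * g⁻¹ * (g * L.t * g⁻¹)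
      calc g * L.t * g⁻¹ * (g * y * g⁻¹) = g * (L.t * y) * g⁻¹ := by group
        _ = g * (y * L.t) * g⁻¹ := by rw [hyt]
        _ = _ := by group
    have h5 : Commute (g * L.t * g⁻¹) x := by rw [← hk]; exact h4.zpow_right k
    have h6 : g * L.t * g⁻¹ ∈ centralizer ({x} : Set T) := mem_centralizer_singleton_iff.2 h5
    have h7 : orderOf (g * L.t * g⁻¹) = 2 := by
      rw [orderOf_conj']
      exact orderOf_eq_prime (by rw [pow_two]; exact L.t_mul_t) L.t_ne
    have h8 := orderOf_dvd_natCard (⟨g * L.t * g⁻¹, h6⟩ : centralizer ({x} : Set T))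
    rw [Subgroup.orderOf_mk, h7] at h8
    exact (Nat.not_even_iff_odd.2 ho) (even_iff_two_dvd.2 h8)

/-- **Row `McL`** -/
theorem row (tab : Cfsg.Agent.OrdDiv.OrderTable.{u}) (known : Cfsg.Agent.H257.El.Known.{u}) {T : Type u} [Group T]
    (h : Cfsg.Spor.IsoMcL T) : Cfsg.Agent.H453.OddM.Row T := by
  obtain ⟨hfin, -, hcard, ⟨L⟩⟩ := TypeM.FactsMcL.facts h
  have h' := h
  obtain ⟨e⟩ := h'
  intro R hR
  by_contra hne
  have F := fct L e
  have h7 : ∀ x : T, orderOf x = 7 → Nat.card (centralizer ({x} : Set T)) = 14 := fun x hx => by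
    rw [cent_eq e, H647.SpF.McL.seven (by rw [e.orderOf_eq, hx])]
  have FR : Fct R := F.sub (norm7 hcard h7) h7 R
  have hd : Nat.card R ∣ 898128000 := by rw [← hcard]; exact Subgroup.card_subgroup_dvd_card R
  refine McLAbs.main tab known FR hd ?_ ?_ (sq25 L h hR) (fun S _ hS x hx => self7 hS x hx)
  · refine lt_of_le_of_ne (Nat.le_of_dvd (by norm_num) hd) fun h1 => hne ?_
    exact Subgroup.eq_top_of_card_eq R (by rw [h1, hcard])
  · have h1 := R.card_mul_index
    rw [hcard] at h1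
    have h2 : Nat.Coprime (2 ^ 7) R.index := Nat.Coprime.pow_left 7 (Nat.coprime_two_left.2 hR.odd_index)
    refine h2.dvd_of_dvd_mul_right ?_
    rw [h1]; norm_num

end Cfsg.Agent.H217.OdmRowMcL
end

-- part: H454/Odm/OdmRowM11_mg
section
prune_inst 0x10000000400000
set_option linter.all false
open scoped Cfsg.Agent.FastGrp

-- part: H454/Odm/OdmRowM11
section
/-!
# TEAM ODDM (S4785): the Mathieu group `M₁₁` (helper454)

A subgroup `R` as in `RO` has order 720 (numeric elimination), so its index is the prime 11; by Burnside's theorem `T` is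
doubly transitive on `T ⧸ R`, so `R` has two orbits on `T ⧸ R`.
-/

set_option autoImplicit false

namespace Cfsg.Agent.H454.Odm

open Cfsg Subgroup Cfsg.Agent.OrdDiv Cfsg.Agent.H453.OddM Cfsg.Agent.H257.El Cfsg.Agent.H217.Odm

universe u

/-- the stabiliser of a point of a doubly transitive action has exactly two orbits -/
theorem card_orb_two {T : Type*} [Group T] (R : Subgroup T) (hne : R ≠ ⊤)
    (h : ∀ a b c d : T ⧸ R, a ≠ b → c ≠ d → ∃ g : T, g • a = c ∧ g • b = d) :
    Nat.card (MulAction.orbitRel.Quotient R (T ⧸ R)) = 2 := by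
  classical
  set ω : T ⧸ R := QuotientGroup.mk 1 with hω
  have hfix : ∀ g : T, g • ω = ω ↔ g ∈ R := by
    intro g
    rw [hω, fixed_iff]
    simp
  obtain ⟨ω', hω'⟩ : ∃ ω' : T ⧸ R, ω' ≠ ω := by
    by_contra hc
    push Not at hc
    apply hne
    rw [eq_top_iff]
    intro g _
    rw [← hfix]
    exact hc _
  let f : MulAction.orbitRel.Quotient R (T ⧸ R) → Bool :=
    Quotient.lift (fun x : T ⧸ R => decide (x = ω)) (by
      intro a b hab
      obtain ⟨g, hg⟩ := MulAction.orbitRel_apply.1 hab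
      have hg' : (g : T) • b = a := hg
      have hR := (hfix g).2 g.2
      congr 1
      apply propext
      constructor
      · intro ha
        rw [ha, ← hR] at hg'
        exact smul_left_cancel _ hg'
      · intro hb
        rw [← hg', hb]
        exact hR)
  have hf : Function.Bijective f := by
    constructor
    · intro a b hab
      induction a using Quotient.inductionOn with
      | _ a =>
      induction b using Quotient.inductionOn with
      | _ b =>
      have h1 : decide (a = ω) = decide (b = ω) := hab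
      apply Quotient.sound
      apply MulAction.orbitRel_apply.2
      by_cases ha : a = ω
      · have hb : b = ω := by simpa [ha] using h1
        rw [ha, hb]
        exact MulAction.mem_orbit_self _
      · have hb : b ≠ ω := by simpa [ha] using h1
        obtain ⟨g, h2, h3⟩ := h ω b ω a (Ne.symm hb) (Ne.symm ha)
        exact ⟨⟨g, (hfix g).1 h2⟩, h3⟩
    · intro b
      cases b with
      | true => exact ⟨Quotient.mk _ ω, by simp [f]⟩
      | false => exact ⟨Quotient.mk _ ω', by simp [f, hω']⟩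
  rw [Nat.card_congr (Equiv.ofBijective f hf)]
  simp

/-- a simple nonabelian group is doubly transitive on the cosets of a subgroup of prime index -/
theorem two_transitive {T : Type*} [Group T] [Finite T] [hs : IsSimpleGroup T] (hns : ¬ Group.IsSolvable T)
    (R : Subgroup T) (hp : R.index.Prime) :
    ∀ a b c d : T ⧸ R, a ≠ b → c ≠ d → ∃ g : T, g • a = c ∧ g • b = d := by
  classical
  have : Fintype (T ⧸ R) := Fintype.ofFinite _
  have hα : (Fintype.card (T ⧸ R)).Prime := by
    rw [← Nat.card_eq_fintype_card]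
    exact hp
  set F : T →* Equiv.Perm (T ⧸ R) := MulAction.toPermHom T (T ⧸ R) with hF
  have happ : ∀ (g : T) (x : T ⧸ R), F g x = g • x := fun g x => rfl
  have hinj : Function.Injective F := by
    rw [← MonoidHom.ker_eq_bot_iff]
    rcases hs.eq_bot_or_eq_top_of_normal F.ker inferInstance with h1 | h1
    · exact h1
    · exfalso
      apply hp.one_lt.ne'
      rw [Subgroup.index_eq_one, eq_top_iff]
      intro g _
      have h2 : g ∈ F.ker := h1 ▸ mem_top g
      have h3 : g • (QuotientGroup.mk 1 : T ⧸ R) = QuotientGroup.mk 1 := by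
        rw [← happ, MonoidHom.mem_ker.1 h2]
        rfl
      rw [fixed_iff] at h3
      simpa using h3
  have htr : MulAction.IsPretransitive F.range (T ⧸ R) := by
    constructor
    intro x y
    obtain ⟨g, hg⟩ := MulAction.exists_smul_eq T x y
    exact ⟨⟨F g, g, rfl⟩, hg⟩
  rcases Cfsg.Agent.PermutationGroups.PrimeDegree.isSolvable_or_two_transitive hα F.range with h1 | h1
  · exfalso
    apply hns
    exact Group.isSolvable_of_isSolvable_injective (f := F.rangeRestrict) (fun a b hab => hinj (congrArg Subtype.val hab))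
  · intro a b c d hab hcd
    obtain ⟨⟨_, g, rfl⟩, h2, h3⟩ := (MulAction.is_two_pretransitive_iff (G := F.range) (α := T ⧸ R)).1 h1 hab hcd
    exact ⟨g, h2, h3⟩

theorem left_m11 : left 7920 [(2, 4), (3, 2), (5, 1), (11, 1)] 5 [3] [(5, 4, true)] [] =
    [(some (.alt 6), 720), (some (.psl 2 9), 720)] := by decide +kernel

theorem row (tab : OrderTable.{u}) (known : Known.{u}) {T : Type u} [Group T] (h : Spor.IsoM11 T) : Row T := by
  have hM : IsM11 T := Cfsg.Agent.UGT.End.MEleven.isM11 h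
  have hn : Nat.card T = 7920 := hM.2
  have hs : IsSimpleGroup T := hM.1
  have hfin : Finite T := Nat.finite_of_card_ne_zero (by rw [hn]; norm_num)
  have hc : ∀ x : T, orderOf x = 5 → Nat.card (centralizer ({x} : Set T)) = 5 * 1 := fun x hx => by
    rw [mul_one]; exact Cfsg.Agent.SporadicA.M11Facts.card_centralizer_five hM hx
  have hN : ∀ x : T, orderOf x = 5 → Nat.card (normalizer ((zpowers x : Subgroup T) : Set T)) = 5 * (1 * 4) ∧
      (Even 4 → IsReal x) := fun x hx =>
    norm_of_cent (r := 5) (n := 1584) (c := 1) (e := 4) (by norm_num) (by rw [hn]) (by norm_num) hx (hc x hx)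
      (by norm_num) (by norm_num)
  have h5 : RealP T 5 := by
    have := Fact.mk (show Nat.Prime 5 by norm_num)
    obtain ⟨x, hx⟩ := exists_prime_orderOf_dvd_card' (G := T) 5 (by rw [hn]; norm_num)
    exact ⟨x, hx, (hN x hx).2 (by decide)⟩
  have h3 : RealP T 3 := by
    have := Fact.mk (show Nat.Prime 3 by norm_num)
    obtain ⟨t, ht⟩ := exists_prime_orderOf_dvd_card' (G := T) 3 (by rw [hn]; norm_num)
    have htp : IsPGroup 3 (zpowers t) := IsPGroup.of_card (n := 1) (by rw [Nat.card_zpowers, ht, pow_one])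
    obtain ⟨P, hP⟩ := htp.exists_le_sylow
    have hH : SporadicA.M11Three.Hyp T := SporadicA.M11Facts2.hyp hM
    obtain ⟨c, hcy⟩ := isConj_iff.1 (SporadicA.M11Three.isConj_inv' hM hH P t (hP (mem_zpowers t)))
    exact ⟨t, ht, c, hcy⟩
  intro R hR
  by_contra hne
  obtain ⟨O, hO, N, hT, g, hg, -, -⟩ := exists_left (n := 7920) (l := [(2, 4), (3, 2), (5, 1), (11, 1)]) (r := 5)
    (ss := [3]) (aux := [(5, 4, true)]) (dv := []) tab known hn (by norm_num) (hR.cov.dvd h5) (by
      intro s hs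
      rw [List.mem_singleton] at hs
      subst hs
      refine ⟨by norm_num, hR.cov.dvd h3, fun z hz => ?_⟩
      have hz3 : orderOf (z ^ 3) = 5 := by rw [orderOf_pow, hz]; norm_num
      have h1 := Subgroup.orderOf_dvd_natCard (centralizer ({z ^ 3} : Set T)) (x := z)
        (mem_centralizer_singleton_iff.2 (by rw [← pow_succ, ← pow_succ']))
      rw [hc _ hz3, hz] at h1
      norm_num at h1) (by
      intro x hx
      rw [List.mem_singleton] at hx
      subst hx
      exact Pt.of_real hR (by norm_num) (by norm_num) h5 (by norm_num) (fun x hx => (hN x hx).1) true)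
      (by simp) (by decide +kernel) hR.odd_index hne
  rw [left_m11] at hg
  have hcard : Nat.card R = 720 := by
    simp only [List.mem_cons, Prod.mk.injEq, List.not_mem_nil, or_false] at hg
    omega
  have hidx : R.index = 11 := by
    have h1 := R.card_mul_index
    rw [hcard, hn] at h1
    omega
  have hns : ¬ Group.IsSolvable T := by
    intro hsol
    have h1 : ∀ a b : T, a * b = b * a := by
      have h2 := IsSimpleGroup.comm_iff_isSolvable (G := T)
      exact h2.2 hsol
    let _ : CommGroup T := { (inferInstance : Group T) with mul_comm := h1 }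
    have h3 := IsSimpleGroup.prime_card (α := T)
    rw [hn] at h3
    norm_num at h3
  exact hR.not_even_orb R (by
    rw [card_orb_two R hne (two_transitive hns R (by rw [hidx]; norm_num))]
    decide)

end Cfsg.Agent.H454.Odm
end

-- part: H89/Odm/OdmRowJ2
section
/-!
# TEAM ODDM (S4785): the Hall–Janko group (helper89)

`r = 7`, `|N(⟨x⟩)| = 42`, no element of order 35; two real elements of order 5 generating non-conjugate subgroups.
-/

set_option autoImplicit false

namespace Cfsg.Agent.H89.OdmRowJ2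

open Subgroup Cfsg Cfsg.Agent.H453.OddM Cfsg.Agent.H217.Odm Cfsg.Agent.J2Type.Base

universe u

section

variable {G : Type*} [Group G] [Finite G] {z u : G}

/-- Two real elements of order 5 generating non-conjugate subgroups. -/
theorem five (h : Fus z u) : ∃ x y : G, orderOf x = 5 ∧ orderOf y = 5 ∧ IsReal x ∧ IsReal y ∧
    ∀ g : G, g * y * g⁻¹ ∉ zpowers x := by
  have : Fact (Nat.Prime 5) := ⟨by norm_num⟩
  obtain ⟨f, U, V, H0, F⟩ := Cfsg.Agent.J2Type.CentU.main h
  have h60 : Nat.card H0 = 60 := by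
    have h1 := Cfsg.Agent.J2Type.Order.card_centralizer_u h
    rw [F.str.card] at h1
    omega
  obtain ⟨w', hw'⟩ := exists_prime_orderOf_dvd_card' (G := H0) 5 (by rw [h60]; norm_num)
  obtain ⟨w, hw⟩ := exists_prime_orderOf_dvd_card' (G := centralizer ({z} : Set G)) 5
    (by rw [h.cardC]; norm_num)
  have hw'5 : orderOf (w' : G) = 5 := by rw [orderOf_coe]; exact hw'
  have hw5 : orderOf (w : G) = 5 := by rw [orderOf_coe]; exact hw
  have hwz : (w : G) * z = z * w := mem_centralizer_singleton_iff.mp w.2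
  have hgood := Cfsg.Agent.J2Type.Cent5.good_of_mem h F h60 w'.2 hw'5
  obtain ⟨-, hreal', V4, hV, hsq, hVw, -⟩ := hgood
  refine ⟨w', w, hw'5, hw5, isConj_iff.1 hreal',
    isConj_iff.1 (Cfsg.Agent.J2Type.FiveFus.real_of_comm h hw5 hwz), fun g hg => ?_⟩
  apply Cfsg.Agent.J2Type.FiveFus.not_four_dvd h hw5 hwz
  -- the four-group centralizes the conjugate of `w`
  rw [← hV]
  have hinj : Nat.card (V4.map (MulAut.conj g⁻¹).toMonoidHom) = Nat.card V4 :=
    Subgroup.card_map_of_injective (MulAut.conj g⁻¹).injective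
  rw [← hinj]
  apply Subgroup.card_dvd_of_le
  rintro _ ⟨v, hv, rfl⟩
  rw [mem_centralizer_singleton_iff]
  obtain ⟨k, hk⟩ := mem_zpowers_iff.1 hg
  have h1 : Commute v (g * w * g⁻¹) := by
    rw [← hk]
    exact (show Commute v (w' : G) from hVw v hv).zpow_right k
  show g⁻¹ * v * g⁻¹⁻¹ * w = w * (g⁻¹ * v * g⁻¹⁻¹)
  calc g⁻¹ * v * g⁻¹⁻¹ * w = g⁻¹ * (v * (g * w * g⁻¹)) * g := by group
    _ = g⁻¹ * ((g * w * g⁻¹) * v) * g := by rw [h1.eq]
    _ = w * (g⁻¹ * v * g⁻¹⁻¹) := by group

/-- centralizer and normalizer of an element of order 7 -/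
theorem seven (h : Fus z u) {x : G} (hx : orderOf x = 7) :
    Nat.card (centralizer ({x} : Set G)) = 7 ∧ Nat.card (normalizer ((zpowers x : Subgroup G) : Set G)) = 42 := by
  have f7 : Fact (Nat.Prime 7) := ⟨by norm_num⟩
  have hG := Cfsg.Agent.J2Type.Order.card_of_fus h
  have hc : Nat.card (zpowers x) = 7 := by rw [Nat.card_zpowers, hx]
  have hfac : (Nat.card G).factorization 7 = 1 := by
    rw [hG]
    have h1 : (604800 : ℕ) = 7 ^ 1 * 86400 := by norm_num
    rw [h1, Nat.factorization_mul (by norm_num) (by norm_num), Finsupp.add_apply,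
      Nat.Prime.factorization_pow (by norm_num), Finsupp.single_eq_same,
      Nat.factorization_eq_zero_of_not_dvd (by norm_num)]
  let D : Sylow 7 G := Sylow.ofCard (zpowers x) (by rw [hc, hfac, pow_one])
  have hD : (D : Subgroup G) = zpowers x := rfl
  obtain ⟨h1, h2, -⟩ := Cfsg.Agent.J2Type.ThreeF.sylow_seven h D
  rw [hD] at h1 h2
  refine ⟨?_, h2⟩
  have h3 : centralizer ({x} : Set G) = centralizer ((zpowers x : Subgroup G) : Set G) := by
    rw [zpowers_eq_closure, centralizer_closure]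
  rw [h3, h1, hc]

end

/-- **The row of `J₂`.** -/
theorem row (tab : Cfsg.Agent.OrdDiv.OrderTable.{u}) (known : Cfsg.Agent.H257.El.Known.{u}) {T : Type u} [Group T]
    (h : Cfsg.Spor.IsoJ2 T) : Cfsg.Agent.H453.OddM.Row T := by
  have hc : Nat.card T = 604800 := NotCT.Orders.j2 h
  have : Finite T := Nat.finite_of_card_ne_zero (by rw [hc]; norm_num)
  obtain ⟨t, u, Q, v, ρ, D⟩ := KFacts.J2.Facts.exists_dat_of h
  have hF : Fus t u := D.F
  have hcent : ∀ x : T, orderOf x = 7 → Nat.card (centralizer ({x} : Set T)) = 7 := fun x hx => (seven hF hx).1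
  have hnorm : ∀ x : T, orderOf x = 7 → Nat.card (normalizer ((zpowers x : Subgroup T) : Set T)) = 7 * 6 :=
    fun x hx => (seven hF hx).2
  have hreal : RealP T 7 := by
    have h7 : Fact (Nat.Prime 7) := ⟨by norm_num⟩
    obtain ⟨x, hx⟩ := exists_prime_orderOf_dvd_card' (G := T) 7 (by rw [hc]; norm_num)
    refine ⟨x, hx, (norm_of_cent (r := 7) (n := 86400) (c := 1) (e := 6) (by norm_num) (by rw [hc]) (by norm_num) hx
      (by rw [hcent x hx]) (by norm_num) (by norm_num)).2 (by decide)⟩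
  obtain ⟨x, y, hx, hy, hxr, hyr, hxy⟩ := five hF
  have hno : ∀ z : T, orderOf z ≠ 7 * 5 :=
    H257.El.noOrd_of_cent (by norm_num) hcent (by norm_num) (by norm_num)
  refine row_of_left (n := 604800) (l := [(2, 7), (3, 3), (5, 2), (7, 1)]) (r := 7) (ss := [5])
    (aux := [(7, 6, true)]) (dv := [25]) tab known hc (by norm_num) (fun R hR => hR.cov.dvd hreal) (fun s hs => ?_)
    (fun R hR x hx => ?_) (fun R hR d hd => ?_) (by decide +kernel) (by decide +kernel)
  · obtain rfl : s = 5 := by simpa using hs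
    exact ⟨by norm_num, fun R hR => hR.cov.dvd ⟨x, hx, hxr⟩, hno⟩
  · obtain rfl : x = (7, 6, true) := by simpa using hx
    exact Pt.of_real hR (by norm_num) (by norm_num) hreal (by norm_num) hnorm true
  · obtain rfl : d = 25 := by simpa using hd
    exact sq_dvd_of_two hR (by norm_num) hx hy hxr hyr hxy

end Cfsg.Agent.H89.OdmRowJ2
end

-- part: H394/HeSeventeen
section
/-!
# The centralizer of an element of order 17 in the Held group
-/

set_option autoImplicit false

namespace Cfsg.Agent.H394.HeSeventeen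

open Subgroup
open Cfsg.Spor Cfsg.Spor.He Cfsg.Agent.SporadicB.HePerm
open Cfsg.Agent.FixBN.HeStab Cfsg.Agent.KFacts.He.Lv Cfsg.Agent.CpAutHe.Cnt Cfsg.Agent.CpAutHe.Bound

/-- the word of the element of order 17 -/
def X : List Gen := [.b, .c, .d, .g]

set_option maxRecDepth 100000

theorem cA : cnt 2058 (tst X [] [2, 3, 7] 0) = 17 := by
  rw [Cfsg.Agent.CpAutHe.Cnt.tst_fast]
  decide +kernel

theorem sB : ([0, 152, 727, 716, 1774, 1900, 2042].all fun a => elemN a (nx X [] 0)) = true := by decide +kernel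

theorem dB : cnt 2058 (tst X [0, 152, 1774, 1900, 2042] [] 1) = 1 := by
  rw [Cfsg.Agent.CpAutHe.Cnt.tst_fast]
  decide +kernel
theorem dC : cnt 2058 (tst X [0, 727, 1774, 2042] [5] 32) = 1 := by
  rw [Cfsg.Agent.CpAutHe.Cnt.tst_fast]
  decide +kernel
theorem dD : cnt 2058 (tst X [0, 152, 727, 716, 1774, 1900] [] 8) = 1 := by
  rw [Cfsg.Agent.CpAutHe.Cnt.tst_fast]
  decide +kernel

theorem card_le : Nat.card ↥(centralizer ({wd X} : Set Cfsg.Spor.He)) ≤ 17 := by
  have hC : ∀ c ∈ centralizer ({wd X} : Set Cfsg.Spor.He), c * wd X = wd X * c := fun c hc =>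
    mem_centralizer_singleton_iff.1 hc
  have hC1 : ∀ c ∈ st (centralizer ({wd X} : Set Cfsg.Spor.He)) 0, c * wd X = wd X * c := fun c hc =>
    hC c (mem_st.1 hc).1
  have hF1 : ∀ c ∈ st (centralizer ({wd X} : Set Cfsg.Spor.He)) 0, ∀ f ∈ nx X [] 0, Fx c f := fun c hc =>
    fx_nx (p := 0) (hC1 c hc) (fun _ hf => absurd hf List.not_mem_nil) (mem_st.1 hc).2
  have h1 : Nat.card ↥(st (centralizer ({wd X} : Set Cfsg.Spor.He)) 0) ≤ 1 := by
    rw [Subgroup.card_le_one_iff_eq_bot, eq_bot_iff_forall]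
    intro c hc
    have hs := sub_of_chk sB
    have k := fix_of_one (hC1 c hc) (hF1 c hc)
    have e0 : phi c 0 = 0 := (mem_st.1 hc).2
    have e1 : phi c 1 = 1 := k 1 [0, 152, 1774, 1900, 2042] [] (fun a ha => hs (by revert ha; revert a; decide)) dB
    have e2 : phi c 32 = 32 := k 32 [0, 727, 1774, 2042] [5] (fun a ha => hs (by revert ha; revert a; decide)) dC
    have e3 : phi c 8 = 8 := k 8 [0, 152, 727, 716, 1774, 1900] [] (fun a ha => hs (by revert ha; revert a; decide)) dD
    have e : ∀ i, phi (1 : Cfsg.Spor.He) i = i := fun i => by rw [map_one]; rfl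
    apply eq_of_base
    · rw [e0, e]
    · rw [e1, e]
    · rw [e2, e]
    · rw [e3, e]
  exact step (F := []) hC (fun _ _ f hf => absurd hf List.not_mem_nil) 0 [] [2, 3, 7] (fun _ h => h) cA h1

theorem pow_X : wd X ^ 17 = 1 := by
  rw [← wd_pw, ← wd_nil]
  exact eq_of_chkB (by decide +kernel)

theorem ne_X : wd X ≠ 1 := by
  intro h
  have h1 : phi (wd X) 0 = 0 := by rw [h, map_one]; rfl
  have h2 : (phi (wd X) 0 : ℕ) = act X 0 := phi_wd_apply X 0
  rw [h1] at h2
  revert h2
  decide +kernel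

theorem order_X : orderOf (wd X) = 17 := by
  have : Fact (Nat.Prime 17) := ⟨by norm_num⟩
  exact orderOf_eq_prime pow_X ne_X

end Cfsg.Agent.H394.HeSeventeen
end

-- part: H463/Odm/OdmRowHe
section
/-!
# TEAM ODDM (S4785): the Held group (helper463)
-/

set_option autoImplicit false

namespace Cfsg.Agent.H463.OdmHe

open Subgroup Cfsg Cfsg.Agent.OrdDiv Cfsg.Agent.H453.OddM Cfsg.Agent.H217.Odm Cfsg.Agent.H257.El

universe u v

/-- `RealP` is invariant under isomorphisms -/
theorem realP_congr {T : Type u} {S : Type v} [Group T] [Group S] (e : T ≃* S) {k : ℕ} (h : RealP S k) : RealP T k := by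
  obtain ⟨x, hx, hr⟩ := h
  exact ⟨e.symm x, by rw [MulEquiv.orderOf_eq, hx], hr.map e.symm.toMonoidHom⟩

theorem finite_he : Finite Spor.He := (SporadicB.HeUpper.card_he_le).1

theorem cent17 {x : Spor.He} (hx : orderOf x = 17) : Nat.card (centralizer ({x} : Set Spor.He)) = 17 := by
  have := finite_he
  have h1 := H394.HeSeventeen.card_le
  have hsq : ¬ 17 ^ 2 ∣ Nat.card Spor.He := by
    rw [KFacts.He.Cent.card_He]
    norm_num
  rw [← H729.PairBase.card_cent_of_one (by norm_num) hsq H394.HeSeventeen.order_X hx] at h1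
  have h3 : 17 ∣ Nat.card (centralizer ({x} : Set Spor.He)) := by
    rw [← hx]
    exact Subgroup.orderOf_dvd_natCard _ (mem_centralizer_singleton_iff.2 rfl)
  exact le_antisymm h1 (Nat.le_of_dvd Nat.card_pos h3)

theorem real17 : RealP Spor.He 17 := by
  have := finite_he
  have hx := H394.HeSeventeen.order_X
  refine ⟨_, hx, ?_⟩
  refine (norm_of_cent (n := 237081600) (c := 1) (e := 8) (by norm_num) ?_ (by norm_num) hx ?_ (by norm_num)
    (by norm_num)).2 (by decide)
  · rw [KFacts.He.Cent.card_He]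
  · rw [cent17 hx]

theorem real7 : RealP Spor.He 7 := by
  have hfin := finite_he
  have h7 : Fact (Nat.Prime 7) := ⟨by norm_num⟩
  exact ⟨_, orderOf_eq_prime H19.Odd.HeEl.C_pow H19.Odd.HeEl.C_ne, _, H19.Odd.HeEl.invC.2⟩

/-- **The row of `He`.** -/
theorem row (tab : OrderTable.{u}) (known : Known.{u}) {T : Type u} [Group T] (h : Spor.IsoHe T) : Row T := by
  have hc := NotCT.Orders.he h
  have : Finite T := Nat.finite_of_card_ne_zero (by rw [hc]; norm_num)
  obtain ⟨e⟩ := h
  refine row_of_empty tab known (r := 17) (ss := [7]) (l := [(2, 10), (3, 3), (5, 2), (7, 3), (17, 1)]) hc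
    (by norm_num) (realP_congr e real17) ?_ (by decide +kernel)
  intro s hs
  rw [List.mem_singleton] at hs
  subst hs
  exact ⟨by norm_num, realP_congr e real7,
    noOrd_congr e (noOrd_of_noComm (by norm_num) (by norm_num) fun x y hx hy => H478.SporHe.no119 hx hy)⟩

end Cfsg.Agent.H463.OdmHe
end

-- part: H315/OdmRowRu
section
/-!
# TEAM ODDM (S4785): the Rudvalis group (helper315)

`29` and `13`: elements of both orders are products of two involutions, and there is none of order `377`.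
-/

set_option autoImplicit false
set_option maxRecDepth 100000
set_option exponentiation.threshold 5000

namespace Cfsg.Agent.H315.OdmRowRu

open Cfsg Cfsg.Agent.OrdDiv Cfsg.Agent.H453.OddM Cfsg.Agent.SporadicB Cfsg.Agent.OddHalf.Table.OutRu

universe u

/-- a real element which moves a point with period `p` has a real power of order `p` -/
theorem realP_of_period {G : Type*} [Group G] [Finite G] {Ω : Type*} (φ : G →* Equiv.Perm Ω) {p : ℕ} (hp : p.Prime)
    {z : G} (hz : IsReal z) {i : Ω} (h1 : (φ z ^ p) i = i) (h2 : φ z i ≠ i) : RealP G p := by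
  have h0 : orderOf z ≠ 0 := (orderOf_pos z).ne'
  have hd : p ∣ orderOf z := by
    by_contra hc
    have hcop : Nat.Coprime p (orderOf z) := (Nat.Prime.coprime_iff_not_dvd hp).2 hc
    have h3 : φ z ^ orderOf z = 1 := by rw [← map_pow, pow_orderOf_eq_one, map_one]
    have h4 : MulAction.period (φ z) i ∣ p := MulAction.pow_smul_eq_iff_period_dvd.1 h1
    have h5 : MulAction.period (φ z) i ∣ orderOf z :=
      MulAction.pow_smul_eq_iff_period_dvd.1 (by rw [h3]; rfl)
    have h6 : MulAction.period (φ z) i = 1 := Nat.eq_one_of_dvd_coprimes hcop h4 h5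
    have h7 : φ z ^ 1 • i = i := MulAction.pow_smul_eq_iff_period_dvd.2 (by rw [h6])
    rw [pow_one] at h7
    exact h2 h7
  refine ⟨z ^ (orderOf z / p), ?_, hz.pow _⟩
  rw [orderOf_pow' _ (Nat.div_pos (Nat.le_of_dvd (Nat.pos_of_ne_zero h0) hd) hp.pos).ne',
    Nat.gcd_eq_right (Nat.div_dvd_of_dvd hd), Nat.div_div_self hd h0]

theorem realP_congr {G H : Type*} [Group G] [Group H] (e : G ≃* H) {p : ℕ} (h : RealP G p) : RealP H p := by
  obtain ⟨x, hx, hr⟩ := h
  exact ⟨e x, by rw [e.orderOf_eq, hx], hr.map e.toMonoidHom⟩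

theorem pow_apply (u : List ℕ) (n : ℕ) (i : Fin 4060) :
    ((((RuOrder.H.subtype (W u)) ^ n : Equiv.Perm (Fin 4060)) i : Fin 4060) : ℕ) = ev (rep n u) i := by
  rw [← map_pow, ← W_rep, ← W_apply]
  rfl

theorem ru_of (p : ℕ) (hp : p.Prime) (u : List ℕ) (i : Fin 4060) [Finite RuOrder.H]
    (h0 : eqw (u ++ u) [] = true) (h1 : Nat.beq (ev (rep p (4 :: u)) i.val) i.val = true)
    (h2 : Nat.beq (ev (rep 1 (4 :: u)) i.val) i.val = false) : RealP RuOrder.H p := by
  have ht : W u * W u = 1 := by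
    rw [← W_append, eqw_sound h0, W_nil]
  have hs : W [4] * W [4] = 1 := by rw [W_y, y_sq]
  have hu : W [4] * W u = W (4 :: u) := by rw [← W_append]; rfl
  have hreal : IsReal (W (4 :: u)) := by
    rw [← hu]
    exact IsReal.of_mul (by rw [sq, hs]) (by rw [sq, ht])
  refine realP_of_period RuOrder.H.subtype hp hreal (i := i) ?_ ?_
  · apply Fin.ext
    rw [pow_apply]
    exact Nat.eq_of_beq_eq_true h1
  · intro h
    have h3 := pow_apply (4 :: u) 1 i
    rw [pow_one, h] at h3
    rw [← h3, Nat.beq_refl] at h2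
    exact Bool.noConfusion h2

theorem finH : Finite RuOrder.H := Nat.finite_of_card_ne_zero (by rw [RuOrder.card_H]; norm_num)

theorem real13 : RealP RuOrder.H 13 :=
  haveI := finH
  ru_of 13 (by norm_num) [0, 4, 2, 0, 4, 1, 3, 4, 1] ⟨0, by norm_num⟩ (by decide +kernel) (by decide +kernel)
    (by decide +kernel)

theorem real29 : RealP RuOrder.H 29 :=
  haveI := finH
  ru_of 29 (by norm_num) [1, 1, 4, 0, 0] ⟨0, by norm_num⟩ (by decide +kernel) (by decide +kernel)
    (by decide +kernel)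

theorem row (tab : OrderTable.{u}) (known : H257.El.Known.{u}) {T : Type u} [Group T] (h : Spor.IsoRu T) :
    Row T := by
  have hc := NotCT.Orders.ru h
  have : Finite T := Nat.finite_of_card_ne_zero (by rw [hc]; norm_num)
  obtain ⟨e⟩ := h
  have e' : RuOrder.H ≃* T := (e.trans RuLat.Main.equiv).symm
  refine H217.Odm.row_of_empty tab known (l := [(2, 14), (3, 3), (5, 3), (7, 1), (13, 1), (29, 1)]) (r := 29)
    (ss := [13]) hc (by norm_num) (realP_congr e' real29) ?_ (by decide +kernel)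
  intro s hs
  rw [List.mem_singleton] at hs
  subst hs
  exact ⟨by norm_num, realP_congr e' real13, H257.El.noOrd_congr e H257.El.RuMod.no377⟩

end Cfsg.Agent.H315.OdmRowRu
end

-- part: H835/OdmRowTh
section
/-!
# TEAM ODDM (S4785): the Thompson group (helper835)

`r = 19`: `|N(⟨x⟩)| = 19 · 18`; the elements of order 7 commute with no element of order 19 and some of them are real.
-/

set_option autoImplicit false

namespace Cfsg.Agent.H835.OdmRowTh

open Cfsg Subgroup Cfsg.Agent.OrdDiv Cfsg.Agent.H453.OddM Cfsg.Agent.H257.El Cfsg.Agent.H217.Odm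

universe u

theorem real_seven : RealP Spor.Th 7 := by
  have h := H723.Spor.Th.setup KFacts.Th.Main.ctx H723.Spor.Th.hone
  refine ⟨Cfsg.Agent.Th.IndexUpper.gTh 6, h.s7, ⟨Cfsg.Agent.Th.IndexUpper.gTh 4, ?_⟩⟩
  rw [inv_eq_of_mul_eq_one_left h.d2]
  exact h.ds

theorem card_cent {x : Spor.Th} (hx : orderOf x = 19) :
    Nat.card (centralizer ({x} : Set Spor.Th)) = 19 * 1 := by
  have h1 : Nat.card (zpowers x) = 19 := by rw [Nat.card_zpowers, hx]
  have h2 := (H444.ThLoc.cn19 h1).1
  rw [H444.ThLoc.card_cent_of (r := 19) (by norm_num) hx |>.2] at h2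
  rw [h2]

theorem row (tab : Cfsg.Agent.OrdDiv.OrderTable.{u}) (known : Cfsg.Agent.H257.El.Known.{u}) {T : Type u} [Group T]
    (h : Cfsg.Spor.IsoTh T) : Cfsg.Agent.H453.OddM.Row T := by
  have hc : Nat.card T = 90745943887872000 := NotCT.Orders.th h
  have : Finite T := Nat.finite_of_card_ne_zero (by rw [hc]; norm_num)
  obtain ⟨e⟩ := h
  have hce : ∀ x : T, orderOf x = 19 → Nat.card (centralizer ({x} : Set T)) = 19 * 1 := by
    intro x hx
    obtain ⟨y, hy, h1⟩ := exists_cent_congr e.symm (P := fun k => k = Nat.card (centralizer ({x} : Set T)))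
      ⟨x, hx, rfl⟩
    rw [← h1]
    exact card_cent hy
  have hnc : ∀ x : T, orderOf x = 19 →
      Nat.card (normalizer ((zpowers x : Subgroup T) : Set T)) = 19 * 18 ∧ IsReal x := by
    intro x hx
    obtain ⟨h1, h2⟩ := norm_of_cent (G := T) (r := 19) (n := 4776102309888000) (c := 1) (e := 18) (by norm_num)
      (by rw [hc]) (by norm_num) hx (hce x hx) (by norm_num) (by norm_num)
    exact ⟨by rw [h1], h2 (by decide)⟩
  have : Fact (Nat.Prime 19) := ⟨by norm_num⟩
  obtain ⟨x, hx⟩ := exists_prime_orderOf_dvd_card' (G := T) 19 (by rw [hc]; norm_num)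
  refine row_of_two tab known (r := 19) (nu := 18) (ss := [7])
    (l := [(2, 15), (3, 10), (5, 3), (7, 2), (13, 1), (19, 1), (31, 1)]) hc (by norm_num)
    ⟨x, hx, (hnc x hx).2⟩ (fun x hx => (hnc x hx).1) ?_ (by decide +kernel)
  intro s hs
  rw [List.mem_singleton] at hs
  rw [hs]
  refine ⟨by norm_num, ?_, noOrd_of_cent (by norm_num) (fun x hx => by rw [hce x hx]) (by norm_num) (by norm_num)⟩
  obtain ⟨y, hy, hr⟩ := real_seven
  exact ⟨e.symm y, by rw [MulEquiv.orderOf_eq, hy], hr.map e.symm.toMonoidHom⟩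

end Cfsg.Agent.H835.OdmRowTh
end
end

-- part: H936/OdmRowCo3
section
prune_inst 0x10000000400000
set_option linter.all false
open scoped Cfsg.Agent.FastGrp

/-!
# TEAM ODDM (S4785): the row of `Co₃` (helper936)

`r = 7`, `|C(x)| = 42`; order 11, `|C(x)| = 22`; real elements of order 9; two real elements of order 3 and two real
elements of order 5 generating non-conjugate subgroups (fixed points on `Λ / 2Λ`).
-/

set_option autoImplicit false
set_option maxRecDepth 100000

namespace Cfsg.Agent.H936.OdmRowCo3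

open Subgroup Cfsg Cfsg.Agent.SporadicA
open Cfsg.Agent.LThreeMB (fr)
open Cfsg.Agent.H573.Spor.Co0 (toCo1 fr_eq_of_conj)
open Cfsg.Agent.H453.OddM Cfsg.Agent.H217.Odm
open Cfsg.Spor (Co1)

universe u

/-- two real elements of order `p` generating non-conjugate subgroups -/
def TwoReal (T : Type*) [Group T] (p : ℕ) : Prop :=
  ∃ x y : T, orderOf x = p ∧ orderOf y = p ∧ IsReal x ∧ IsReal y ∧ ∀ g : T, g * y * g⁻¹ ∉ zpowers x

theorem TwoReal.congr {T S : Type*} [Group T] [Group S] {p : ℕ} (e : S ≃* T) (h : TwoReal S p) : TwoReal T p := by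
  obtain ⟨x, y, hx, hy, hxr, hyr, hno⟩ := h
  refine ⟨e x, e y, by rw [MulEquiv.orderOf_eq, hx], by rw [MulEquiv.orderOf_eq, hy], hxr.map e.toMonoidHom,
    hyr.map e.toMonoidHom, fun g hg => hno (e.symm g) ?_⟩
  obtain ⟨k, hk⟩ := mem_zpowers_iff.1 hg
  refine mem_zpowers_iff.2 ⟨k, e.injective ?_⟩
  rw [map_zpow, hk, map_mul, map_mul, map_inv, e.apply_symm_apply]

theorem TwoReal.realP {T : Type*} [Group T] {p : ℕ} (h : TwoReal T p) : RealP T p := by
  obtain ⟨x, -, hx, -, hr, -⟩ := h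
  exact ⟨x, hx, hr⟩

theorem co3_le : Spor.Co3 ≤ Co0 := fun _ h => h.1

/-- the criterion -/
theorem twoReal_of {p : ℕ} (hp : p.Prime) {s t x s' t' x' : Co0} (hs : s ^ 2 = 1) (ht : t ^ 2 = 1) (hx : x = s * t)
    (hs' : s' ^ 2 = 1) (ht' : t' ^ 2 = 1) (hx' : x' = s' * t') (xp : x ^ p = 1) (xn : x ≠ 1) (xp' : x' ^ p = 1)
    (xn' : x' ≠ 1) (ms : s.1 ∈ Spor.Co3) (mt : t.1 ∈ Spor.Co3) (ms' : s'.1 ∈ Spor.Co3) (mt' : t'.1 ∈ Spor.Co3)
    (hfr : fr (QuotientGroup.mk x : Co1) ≠ fr (QuotientGroup.mk x' : Co1)) : TwoReal Spor.Co3 p := by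
  have hp' : Fact p.Prime := ⟨hp⟩
  have ca : ∀ {g : Co0} {n : ℕ} (_ : g ^ n = 1) (hg : g.1 ∈ Spor.Co3), (⟨g.1, hg⟩ : Spor.Co3) ^ n = 1 := fun {g n} h hg =>
    Subtype.ext (show g.1 ^ n = 1 from congrArg Subtype.val h)
  have cn : ∀ {g : Co0} (_ : g ≠ 1) (hg : g.1 ∈ Spor.Co3), (⟨g.1, hg⟩ : Spor.Co3) ≠ 1 := fun {g} h hg h' =>
    h (Subtype.ext (show g.1 = 1 from congrArg Subtype.val h'))
  have mx : x.1 ∈ Spor.Co3 := by rw [hx]; exact mul_mem ms mt
  have mx' : x'.1 ∈ Spor.Co3 := by rw [hx']; exact mul_mem ms' mt'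
  have ex : (⟨x.1, mx⟩ : Spor.Co3) = ⟨s.1, ms⟩ * ⟨t.1, mt⟩ := Subtype.ext (by
    show x.1 = s.1 * t.1
    rw [hx]; rfl)
  have ex' : (⟨x'.1, mx'⟩ : Spor.Co3) = ⟨s'.1, ms'⟩ * ⟨t'.1, mt'⟩ := Subtype.ext (by
    show x'.1 = s'.1 * t'.1
    rw [hx']; rfl)
  have ox : orderOf (⟨x.1, mx⟩ : Spor.Co3) = p := orderOf_eq_prime (ca xp mx) (cn xn mx)
  have ox' : orderOf (⟨x'.1, mx'⟩ : Spor.Co3) = p := orderOf_eq_prime (ca xp' mx') (cn xn' mx')
  refine ⟨⟨x.1, mx⟩, ⟨x'.1, mx'⟩, ox, ox', ?_, ?_, fun g hg => ?_⟩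
  · rw [ex]; exact IsReal.of_mul (ca hs ms) (ca ht mt)
  · rw [ex']; exact IsReal.of_mul (ca hs' ms') (ca ht' mt')
  · obtain ⟨k, hk⟩ := mem_zpowers_iff.1 hg
    have hok : orderOf ((⟨x.1, mx⟩ : Spor.Co3) ^ k) = p := by
      rw [hk, ← ox']
      exact orderOf_injective (MulAut.conj g).toMonoidHom (MulAut.conj g).injective (⟨x'.1, mx'⟩ : Spor.Co3)
    have hz : zpowers ((⟨x.1, mx⟩ : Spor.Co3) ^ k) = zpowers (⟨x.1, mx⟩ : Spor.Co3) := by
      have hfin : Finite (zpowers (⟨x.1, mx⟩ : Spor.Co3)) := Nat.finite_of_card_ne_zero (by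
        rw [Nat.card_zpowers, ox]; exact hp.ne_zero)
      apply Subgroup.eq_of_le_of_card_ge
      · rw [zpowers_le]; exact zpow_mem (mem_zpowers _) k
      · rw [Nat.card_zpowers, Nat.card_zpowers, hok, ox]
    have hm : (⟨x.1, mx⟩ : Spor.Co3) ∈ zpowers ((⟨x.1, mx⟩ : Spor.Co3) ^ k) := by rw [hz]; exact mem_zpowers _
    obtain ⟨m, hm⟩ := mem_zpowers_iff.1 hm
    -- a natural exponent
    obtain ⟨k', hk'⟩ : ∃ k' : ℕ, (⟨x.1, mx⟩ : Spor.Co3) ^ k' = (⟨x.1, mx⟩ : Spor.Co3) ^ k := by
      have h1 : (⟨x.1, mx⟩ : Spor.Co3) ^ k ∈ zpowers (⟨x.1, mx⟩ : Spor.Co3) := zpow_mem (mem_zpowers _) k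
      have hfo : IsOfFinOrder (⟨x.1, mx⟩ : Spor.Co3) := by
        rw [← orderOf_pos_iff, ox]; exact hp.pos
      exact (Submonoid.mem_powers_iff _ _).1 ((hfo.mem_powers_iff_mem_zpowers).2 h1)
    apply hfr
    symm
    have e1 : toCo1 Spor.Co3 co3_le ⟨x.1, mx⟩ = (QuotientGroup.mk x : Co1) := rfl
    have e2 : toCo1 Spor.Co3 co3_le ⟨x'.1, mx'⟩ = (QuotientGroup.mk x' : Co1) := rfl
    rw [← e1, ← e2]
    refine fr_eq_of_conj (u := toCo1 Spor.Co3 co3_le g) (k := k') (m := m) ?_ ?_
    · rw [← map_inv, ← map_mul, ← map_mul, ← hk, ← hk', map_pow]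
    · rw [← map_pow, ← map_zpow, hk', hm]

open Cfsg.Agent.H936.Odm.Co3Data in
theorem twoReal_three : TwoReal Spor.Co3 3 :=
  twoReal_of (by norm_num) sq_SA sq_TA x_eqA sq_SB sq_TB x_eqB x_powA x_neA x_powB x_neB memSA memTA memSB memTB
    (by rw [frA, frB]; norm_num)

open Cfsg.Agent.H936.Odm.Co3Data in
theorem twoReal_five : TwoReal Spor.Co3 5 :=
  twoReal_of (by norm_num) sq_SC sq_TC x_eqC sq_SD sq_TD x_eqD x_powC x_neC x_powD x_neD memSC memTC memSD memTD
    (by rw [frC, frD]; norm_num)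

open Cfsg.Agent.H799.RO.CoNine in
theorem realP_nine : RealP Spor.Co3 9 := by
  have hA : (⟨gA.1, memA⟩ : Spor.Co3) ^ 2 = 1 := Subtype.ext (show gA.1 ^ 2 = 1 from congrArg Subtype.val a_sq)
  have h1 : (⟨gA.1, memA⟩ : Spor.Co3) * ⟨gX.1, memX⟩ * (⟨gA.1, memA⟩ * ⟨gX.1, memX⟩) = 1 :=
    Subtype.ext (show gA.1 * gX.1 * (gA.1 * gX.1) = 1 from congrArg Subtype.val axax)
  have h9 : (⟨gX.1, memX⟩ : Spor.Co3) ^ 9 = 1 := Subtype.ext (show gX.1 ^ 9 = 1 from congrArg Subtype.val x_pow)
  have h3 : (⟨gX.1, memX⟩ : Spor.Co3) ^ 3 ≠ 1 := fun h => x_ne (Subtype.ext (show gX.1 ^ 3 = 1 from congrArg Subtype.val h))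
  refine ⟨⟨gX.1, memX⟩, ?_, ⟨gA.1, memA⟩, ?_⟩
  · have h3' : Fact (Nat.Prime 3) := ⟨by norm_num⟩
    exact orderOf_eq_prime_pow (p := 3) (n := 1) (by rw [pow_one]; exact h3) h9
  · have hi : (⟨gA.1, memA⟩ : Spor.Co3)⁻¹ = ⟨gA.1, memA⟩ :=
      (eq_inv_of_mul_eq_one_left (by rwa [← pow_two])).symm
    rw [hi]
    exact eq_inv_of_mul_eq_one_left (by rw [mul_assoc]; exact h1)

theorem cent_zpowers {G : Type*} [Group G] (x : G) :
    centralizer ((zpowers x : Subgroup G) : Set G) = centralizer ({x} : Set G) := by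
  rw [zpowers_eq_closure, centralizer_closure]

/-- **The row of `Co3`.** -/
theorem row (tab : Cfsg.Agent.OrdDiv.OrderTable.{u}) (known : Cfsg.Agent.H257.El.Known.{u}) {T : Type u} [Group T]
    (h : Cfsg.Spor.IsoCo3 T) : Cfsg.Agent.H453.OddM.Row T := by
  have hc : Nat.card T = 495766656000 := Cfsg.Agent.H555.TwoSp.card_co3 h
  have hfin : Finite T := Nat.finite_of_card_ne_zero (by rw [hc]; norm_num)
  have c7 : ∀ x : T, orderOf x = 7 → Nat.card (centralizer ({x} : Set T)) = 7 * 6 := by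
    intro x hx
    have h1 := (Cfsg.Agent.H970.Sep.Co3.cn7 h (zpowers x) (by rw [Nat.card_zpowers, hx])).1
    rwa [cent_zpowers] at h1
  have c11 : ∀ x : T, orderOf x = 11 → Nat.card (centralizer ({x} : Set T)) = 11 * 2 := by
    intro x hx
    have h1 := Cfsg.Agent.H555.TwoSp.c11 h (zpowers x) (by rw [Nat.card_zpowers, hx])
    rwa [cent_zpowers] at h1
  have n7 : ∀ x : T, orderOf x = 7 → Nat.card (normalizer ((zpowers x : Subgroup T) : Set T)) = 7 * 36 ∧ IsReal x := by
    intro x hx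
    have h1 := norm_of_cent (r := 7) (n := 70823808000) (c := 6) (e := 6) (by norm_num) (by rw [hc]) (by norm_num) hx
      (c7 x hx) (by norm_num) (by norm_num)
    exact ⟨h1.1, h1.2 (by decide)⟩
  have n11 : ∀ x : T, orderOf x = 11 → Nat.card (normalizer ((zpowers x : Subgroup T) : Set T)) = 11 * 10 := by
    intro x hx
    exact (norm_of_cent (r := 11) (n := 45069696000) (c := 2) (e := 5) (by norm_num) (by rw [hc]) (by norm_num) hx
      (c11 x hx) (by norm_num) (by norm_num)).1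
  have r7 : RealP T 7 := by
    have : Fact (Nat.Prime 7) := ⟨by norm_num⟩
    obtain ⟨x, hx⟩ := exists_prime_orderOf_dvd_card' (G := T) 7 (by rw [hc]; norm_num)
    exact ⟨x, hx, (n7 x hx).2⟩
  have hno : ∀ z : T, orderOf z ≠ 7 * 5 := by
    refine noOrd_of_card_cent (by norm_num) (by norm_num) fun x hx => ?_
    rw [c7 x hx]; norm_num
  obtain ⟨e⟩ := h
  have t3 : TwoReal T 3 := twoReal_three.congr e.symm
  have t5 : TwoReal T 5 := twoReal_five.congr e.symm
  have h9 : RealP T (3 ^ 2) := realP_congr realP_nine e.symm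
  refine row_of_left (n := 495766656000) (l := [(2, 10), (3, 7), (5, 3), (7, 1), (11, 1), (23, 1)]) (r := 7) (ss := [5])
    (aux := [(7, 36, true), (11, 10, false)]) (dv := [25, 27]) tab known hc (by norm_num) (fun R hR => hR.cov.dvd r7)
    ?_ ?_ ?_ (by decide +kernel) (by decide +kernel)
  · intro s hs
    obtain rfl : s = 5 := by simpa using hs
    exact ⟨by norm_num, fun R hR => hR.cov.dvd t5.realP, hno⟩
  · intro R hR x hx
    simp only [List.mem_cons, List.not_mem_nil, or_false] at hx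
    rcases hx with rfl | rfl
    · exact Pt.of_real hR (by norm_num) (by norm_num) r7 (by norm_num) (fun x hx => (n7 x hx).1) true
    · exact Pt.of_norm (by norm_num) (by norm_num) (by norm_num) n11
  · intro R hR d hd
    simp only [List.mem_cons, List.not_mem_nil, or_false] at hd
    rcases hd with rfl | rfl
    · obtain ⟨x, y, hx, hy, hxr, hyr, hxy⟩ := t5
      exact sq_dvd_of_two hR (by norm_num) hx hy hxr hyr hxy
    · obtain ⟨x, y, hx, hy, hxr, hyr, hxy⟩ := t3
      exact cube_dvd_of_two hR (by norm_num) h9 hx hy hxr hyr hxy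

end Cfsg.Agent.H936.OdmRowCo3
end

-- part: H219/Odm/OdmRowHN
section
set_option linter.all false
open scoped Cfsg.Agent.FastGrp

/-!
# TEAM ODDM (S4785): the Harada-Norton group (helper219)

`r = 11`: `|C(x)| = 22`, `|N(⟨x⟩)| = 220`; the elements of order 7 are real and commute with no element of order 11;
`|N(⟨x⟩)| = 171` for the elements of order 19.
-/

set_option autoImplicit false

namespace Cfsg.Agent.H219.OdmRowHN

open Cfsg Subgroup Cfsg.Agent.OrdDiv Cfsg.Agent.H453.OddM Cfsg.Agent.H257.El Cfsg.Agent.H217.Odm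

universe u

theorem card_cent_map {G H : Type*} [Group G] [Group H] (e : G ≃* H) (x : G) :
    Nat.card (centralizer ({x} : Set G)) = Nat.card (centralizer ({e x} : Set H)) := by
  refine Nat.card_congr
    { toFun := fun c => ⟨e c, ?_⟩
      invFun := fun c => ⟨e.symm c, ?_⟩
      left_inv := fun c => Subtype.ext (e.symm_apply_apply _)
      right_inv := fun c => Subtype.ext (e.apply_symm_apply _) }
  · have h := mem_centralizer_singleton_iff.1 c.2
    rw [mem_centralizer_singleton_iff, ← map_mul, h, map_mul]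
  · have h := mem_centralizer_singleton_iff.1 c.2
    rw [mem_centralizer_singleton_iff]
    apply e.injective
    rw [map_mul, map_mul, e.apply_symm_apply, h]

theorem cz {G : Type*} [Group G] (x : G) : centralizer ((zpowers x : Subgroup G) : Set G) = centralizer ({x} : Set G) := by
  rw [zpowers_eq_closure, centralizer_closure]

theorem row (tab : Cfsg.Agent.OrdDiv.OrderTable.{u}) (known : Cfsg.Agent.H257.El.Known.{u}) {T : Type u} [Group T]
    (h : Cfsg.Spor.IsoHN T) : Cfsg.Agent.H453.OddM.Row T := by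
  have hc : Nat.card T = 273030912000000 := NotCT.Orders.hn h
  have : Finite T := Nat.finite_of_card_ne_zero (by rw [hc]; norm_num)
  obtain ⟨e⟩ := h
  have c11 : ∀ x : T, orderOf x = 11 → Nat.card (centralizer ({x} : Set T)) = 11 * 2 := by
    intro x hx
    have h1 : Nat.card (zpowers (e x)) = 11 := by rw [Nat.card_zpowers, MulEquiv.orderOf_eq, hx]
    rw [card_cent_map e x, ← cz]
    exact (H438.Fpr.HN.cn11 h1).1
  have c19 : ∀ x : T, orderOf x = 19 → Nat.card (centralizer ({x} : Set T)) = 19 * 1 := by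
    intro x hx
    have h1 : Nat.card (zpowers (e x)) = 19 := by rw [Nat.card_zpowers, MulEquiv.orderOf_eq, hx]
    rw [card_cent_map e x, ← cz]
    exact (H438.Fpr.HN.cn19 h1).1
  have c7 : ∀ x : T, orderOf x = 7 → Nat.card (centralizer ({x} : Set T)) = 7 * 60 := by
    intro x hx
    have h1 : Nat.card (zpowers (e x)) = 7 := by rw [Nat.card_zpowers, MulEquiv.orderOf_eq, hx]
    rw [card_cent_map e x, ← cz]
    exact (H438.Fpr.HN.cn7 h1).1
  have n11 : ∀ x : T, orderOf x = 11 →
      Nat.card (normalizer ((zpowers x : Subgroup T) : Set T)) = 11 * 20 := by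
    intro x hx
    have h1 := (norm_of_cent (G := T) (r := 11) (n := 273030912000000 / 11) (c := 2) (e := 10) (by norm_num)
      (by rw [hc]) (by norm_num) hx (c11 x hx) (by norm_num) (by norm_num)).1
    rw [h1]
  have n19 : ∀ x : T, orderOf x = 19 →
      Nat.card (normalizer ((zpowers x : Subgroup T) : Set T)) = 19 * 9 := by
    intro x hx
    have h1 := (norm_of_cent (G := T) (r := 19) (n := 273030912000000 / 19) (c := 1) (e := 9) (by norm_num)
      (by rw [hc]) (by norm_num) hx (c19 x hx) (by norm_num) (by norm_num)).1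
    rw [h1]
  have r11 : RealP T 11 := realP_of_cent (r := 11) (n := 273030912000000 / 11) (c := 2) (e := 10) (by norm_num)
      (by rw [hc]) (by norm_num) c11 (by norm_num) (by norm_num) (by decide)
  have r7 : RealP T 7 := realP_of_cent (r := 7) (n := 273030912000000 / 7) (c := 60) (e := 6) (by norm_num)
      (by rw [hc]) (by norm_num) c7 (by norm_num) (by norm_num) (by decide)
  refine row_of_left (n := 273030912000000) (l := [(2, 14), (3, 6), (5, 6), (7, 1), (11, 1), (19, 1)]) (r := 11)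
    (ss := [7]) (aux := [(11, 20, true), (19, 9, false)]) (dv := []) tab known hc (by norm_num)
    (fun R hR => hR.cov.dvd r11) ?_ ?_ (by simp) (by decide +kernel) (by decide +kernel)
  · intro s hs
    rw [List.mem_singleton] at hs
    subst hs
    exact ⟨by norm_num, fun R hR => hR.cov.dvd r7,
      noOrd_of_card_cent (by norm_num) (by norm_num) fun x hx => by rw [c11 x hx]; norm_num⟩
  · intro R hR x hx
    rw [List.mem_cons, List.mem_singleton] at hx
    rcases hx with rfl | rfl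
    · exact Pt.of_real hR (by norm_num) (by norm_num) r11 (by norm_num) n11 true
    · exact Pt.of_norm (by norm_num) (by norm_num) (by norm_num) n19

end Cfsg.Agent.H219.OdmRowHN
end

-- part: H936/OdmRowCo3_mg
section

end
end
end
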